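import Mathlib
import Cfsg.Prelude.Def_Blocks
import Cfsg.Prelude.Def_Local
import Cfsg.Prelude.Def_TwoFusion
import Cfsg.Agent.S0942
import Cfsg.Agent.Lib.Helper9.Isolated2
import Cfsg.Agent.Lib.Helper2.IsolatedInv
import Cfsg.Agent.Lib.Helper24.BlockOrtho
import Cfsg.Agent.Lib.Helper24.Principal
import Cfsg.Agent.Lib.Helper25.GenOrtho
import Cfsg.Agent.Lib.Helper25.Kernel
import Cfsg.Agent.Lib.Helper25.EvenDegree

/-!
# The character-theoretic core of Glauberman's Z*-theorem (lead library)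

`t` is an isolated involution of the finite group `G`, `s ≠ t` an involution of `C_G(t)`.

* `exists_conj_eq`: if `t` is central modulo `O(C_G(ts))` in `C_G(ts)`, then every product
  `t * (g s g⁻¹)` is conjugate to `(t s) * ρ` with `ρ ∈ O(C_G(ts))`.
* `char_mul_eq`: hence `χ t * χ s = χ 1 * χ (t s)` for every `χ` in the principal `2`-block.
* `false_of_isolated`: if moreover the same holds for `C_G(s)` and `G = ⟨t^G⟩`, contradiction.
-/

set_option autoImplicit false

open scoped ComplexConjugate Pointwise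

namespace Cfsg.Agent.Lib.Lead.ZStarCore

open Cfsg Cfsg.Agent.Lib.Helper9

variable {G : Type*} [Group G]

theorem conj_b_eq_of_odd {t b : G} (ht : t * t = 1) (hb : b * b = 1) (k : ℕ) :
    ∃ w : G, w * b * w⁻¹ = (t * b) ^ (2 * k + 1) * t := by
  refine ⟨(t * b) ^ ((k : ℤ) + 1), ?_⟩
  have h := zpow_conj_right ht hb ((k : ℤ) + 1)
  rw [h]
  congr 1
  have h2 : (2 * ((k : ℤ) + 1) - 1) = ((2 * k + 1 : ℕ) : ℤ) := by push_cast; ring
  rw [h2, zpow_natCast]

theorem conj_t_eq_of_even {t b : G} (ht : t * t = 1) (hb : b * b = 1) (a : ℕ) :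
    ∃ w : G, w * t * w⁻¹ = (t * b) ^ (2 * a) * t := by
  refine ⟨(t * b) ^ (a : ℤ), ?_⟩
  have h := zpow_conj_left ht hb (a : ℤ)
  rw [h]
  congr 1
  have h2 : (2 * (a : ℤ)) = ((2 * a : ℕ) : ℤ) := by push_cast; ring
  rw [h2, zpow_natCast]

theorem sq_of_orderOf_two {s : G} (hs : orderOf s = 2) : s * s = 1 := by
  have := pow_orderOf_eq_one s
  rw [hs, pow_two] at this
  exact this

theorem orderOf_mul_eq_two {t s : G} (htt : t * t = 1) (hss : s * s = 1) (hc : Commute t s)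
    (hne : s ≠ t) : orderOf (t * s) = 2 := by
  haveI : Fact (Nat.Prime 2) := ⟨Nat.prime_two⟩
  apply orderOf_eq_prime
  · rw [pow_two]
    calc t * s * (t * s) = t * (s * t) * s := by group
      _ = t * (t * s) * s := by rw [hc.eq]
      _ = (t * t) * (s * s) := by group
      _ = 1 := by rw [htt, hss, one_mul]
  · intro h
    apply hne
    have h1 : s = t⁻¹ := (inv_eq_of_mul_eq_one_right h).symm
    rw [h1, inv_eq_self_of_sq htt]

/-- The key conjugacy statement. -/
theorem exists_conj_eq [Finite G] {t s j : G} (ht : IsIsolatedInvolution t) (hs : orderOf s = 2)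
    (hc : Commute t s) (hne : s ≠ t) (hj : t * s = j)
    (hZ : ∀ h ∈ Subgroup.centralizer ({j} : Set G),
      t * h * t⁻¹ * h⁻¹ ∈ Cfsg.centralizerPPrimeCore 2 j)
    (g : G) :
    ∃ c : G, ∃ ρ ∈ Cfsg.centralizerPPrimeCore 2 j, c⁻¹ * (t * (g * s * g⁻¹)) * c = j * ρ := by
  classical
  haveI : Fact (Nat.Prime 2) := ⟨Nat.prime_two⟩
  have htt : t * t = 1 := isolated_sq ht
  have hss : s * s = 1 := sq_of_orderOf_two hs
  have htinv : t⁻¹ = t := inv_eq_self_of_sq htt
  set b := g * s * g⁻¹ with hb_def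
  have hbb : b * b = 1 := conj_sq hss g
  -- `s` is not conjugate to `t`
  have hnc : ∀ x : G, x * t * x⁻¹ ≠ s := by
    intro x hx
    have h1 : Commute t (x * t * x⁻¹) := by rw [hx]; exact hc
    have h2 := ht.2 x h1
    exact hne (by rw [← hx, h2])
  have hnc' : ∀ w : G, w * b * w⁻¹ ≠ t := by
    intro w hw
    apply hnc (g⁻¹ * w⁻¹)
    rw [← hw, hb_def]; group
  set z := t * b with hz_def
  have hzpos : 0 < orderOf z := orderOf_pos z
  have htz : t * z * t⁻¹ = z⁻¹ := conj_mul_of_sq htt hbb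
  have htzpow : ∀ k : ℕ, t * z ^ k * t⁻¹ = (z ^ k)⁻¹ := by
    intro k
    rw [← conj_pow, htz, inv_pow]
  rcases Nat.even_or_odd (orderOf z) with hev | hodd
  swap
  · exfalso
    obtain ⟨k, hk⟩ := hodd
    obtain ⟨w, hw⟩ := conj_b_eq_of_odd htt hbb k
    apply hnc' w
    rw [hw, ← hz_def, ← hk, pow_orderOf_eq_one, one_mul]
  obtain ⟨n, hn⟩ := hev
  have hn0 : 0 < n := by omega
  set j' := z ^ n with hj'_def
  have hj'2 : j' * j' = 1 := by
    rw [hj'_def, ← pow_add, ← hn, pow_orderOf_eq_one]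
  have hj'1 : j' ≠ 1 := by
    intro h
    have h1 := orderOf_dvd_of_pow_eq_one h
    have h2 := Nat.le_of_dvd hn0 h1
    omega
  have hj'inv : j'⁻¹ = j' := inv_eq_self_of_sq hj'2
  have htj' : t * j' * t⁻¹ = j' := by
    rw [hj'_def, htzpow n, ← hj'_def, hj'inv]
  have hcomm_tj' : Commute t j' := by
    have h1 : t * j' = j' * t := by
      calc t * j' = (t * j' * t⁻¹) * t := by group
        _ = j' * t := by rw [htj']
    exact h1
  rcases Nat.even_or_odd n with hne2 | hno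
  · exfalso
    obtain ⟨a, ha⟩ := hne2
    obtain ⟨w, hw⟩ := conj_t_eq_of_even htt hbb a
    have hw' : w * t * w⁻¹ = j' * t := by
      rw [hw, ← hz_def, hj'_def, ha, two_mul]
    have h1 : Commute t (w * t * w⁻¹) := by
      rw [hw']; exact hcomm_tj'.mul_right (Commute.refl t)
    have h2 := ht.2 w h1
    rw [hw'] at h2
    apply hj'1
    calc j' = j' * t * t⁻¹ := by group
      _ = t * t⁻¹ := by rw [h2]
      _ = 1 := by group
  obtain ⟨k, hk⟩ := hno
  obtain ⟨w, hw⟩ := conj_b_eq_of_odd htt hbb k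
  have hw' : w * b * w⁻¹ = j' * t := by
    rw [hw, ← hz_def, hj'_def, hk]
  set s' := j' * t with hs'_def
  have hs'conj : (w * g) * s * (w * g)⁻¹ = s' := by
    rw [← hw', hb_def]; group
  have hs's' : s' * s' = 1 := by
    rw [hs'_def]
    calc j' * t * (j' * t) = j' * (t * j') * t := by group
      _ = j' * (j' * t) * t := by rw [hcomm_tj'.eq]
      _ = (j' * j') * (t * t) := by group
      _ = 1 := by rw [hj'2, htt, one_mul]
  have hcomm_ts' : Commute t s' := hcomm_tj'.mul_right (Commute.refl t)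
  obtain ⟨P, hP⟩ :=
    (Cfsg.Agent.Lib.Helper2.isPGroup_closure_of_commute htt hss hc).exists_le_sylow
  obtain ⟨P', hP'⟩ :=
    (Cfsg.Agent.Lib.Helper2.isPGroup_closure_of_commute htt hs's' hcomm_ts').exists_le_sylow
  have htP : t ∈ (P : Subgroup G) := hP (Subgroup.subset_closure (by simp))
  have hsP : s ∈ (P : Subgroup G) := hP (Subgroup.subset_closure (by simp))
  have htP' : t ∈ (P' : Subgroup G) := hP' (Subgroup.subset_closure (by simp))
  have hs'P' : s' ∈ (P' : Subgroup G) := hP' (Subgroup.subset_closure (by simp))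
  obtain ⟨h, hh⟩ := MulAction.exists_smul_eq G P P'
  have hmem : ∀ x : G, x ∈ (P' : Subgroup G) → h⁻¹ * x * h ∈ (P : Subgroup G) := by
    intro x hx
    have hx' : x ∈ MulAut.conj h • (P : Subgroup G) := by
      rw [← Sylow.coe_subgroup_smul, hh]; exact hx
    rw [Subgroup.mem_pointwise_smul_iff_inv_smul_mem] at hx'
    simpa [MulAut.smul_def, MulAut.conj_inv_apply] using hx'
  have hy : h⁻¹ * t * h ∈ (P : Subgroup G) := hmem t htP'
  have hcen := isolated_comm_of_isPGroup ht P.isPGroup' htP hy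
  have hcomm_y : Commute t (h⁻¹ * t * h⁻¹⁻¹) := by
    rw [inv_inv]
    have h1 : (h⁻¹ * t * h) * t = t * (h⁻¹ * t * h) := by
      calc (h⁻¹ * t * h) * t
          = ((h⁻¹ * t * h) * t * (h⁻¹ * t * h)⁻¹) * (h⁻¹ * t * h) := by group
        _ = t * (h⁻¹ * t * h) := by rw [hcen]
    exact h1.symm
  have hht := ht.2 h⁻¹ hcomm_y
  rw [inv_inv] at hht
  have hcomm_ht : h * t = t * h := by
    calc h * t = h * (h⁻¹ * t * h) := by rw [hht]
      _ = t * h := by group
  have hy' : (h⁻¹ * (w * g)) * s * (h⁻¹ * (w * g))⁻¹ ∈ (P : Subgroup G) := by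
    have h1 := hmem s' hs'P'
    rw [← hs'conj] at h1
    convert h1 using 1
    group
  obtain ⟨n', hn'C, hn'⟩ := isolated_control_fusion ht P.isPGroup' htP hsP hy'
  have hn't : n' * t = t * n' := by
    rw [Subgroup.mem_centralizer_iff] at hn'C
    exact (hn'C t rfl).symm
  set c := h * n' with hc_def
  have hct : c * t = t * c := by
    rw [hc_def]
    calc h * n' * t = h * (n' * t) := by group
      _ = h * (t * n') := by rw [hn't]
      _ = (h * t) * n' := by group
      _ = t * h * n' := by rw [hcomm_ht]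
      _ = t * (h * n') := by group
  have hc' : c⁻¹ * t = t * c⁻¹ := by
    calc c⁻¹ * t = c⁻¹ * (t * c) * c⁻¹ := by group
      _ = c⁻¹ * (c * t) * c⁻¹ := by rw [hct]
      _ = t * c⁻¹ := by group
  have hcs : c * s * c⁻¹ = s' := by
    rw [hc_def]
    calc h * n' * s * (h * n')⁻¹ = h * (n' * s * n'⁻¹) * h⁻¹ := by group
      _ = h * ((h⁻¹ * (w * g)) * s * (h⁻¹ * (w * g))⁻¹) * h⁻¹ := by rw [hn']
      _ = (w * g) * s * (w * g)⁻¹ := by group
      _ = s' := hs'conj
  have hcj : c⁻¹ * j' * c = t * s := by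
    have hj's' : j' = s' * t := by
      rw [hs'_def]
      calc j' = j' * (t * t) := by rw [htt, mul_one]
        _ = j' * t * t := by group
    rw [hj's', ← hcs]
    calc c⁻¹ * (c * s * c⁻¹ * t) * c = s * (c⁻¹ * t) * c := by group
      _ = s * (t * c⁻¹) * c := by rw [hc']
      _ = s * t := by group
      _ = t * s := hc.eq.symm
  set ρ := z ^ (n + 1) with hρ_def
  have hzjρ : z = j' * ρ := by
    rw [hj'_def, hρ_def, ← pow_add]
    have h1 : n + (n + 1) = orderOf z + 1 := by omega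
    rw [h1, pow_succ, pow_orderOf_eq_one, one_mul]
  have hρn : ρ ^ n = 1 := by
    rw [hρ_def, ← pow_mul]
    have h1 : (n + 1) * n = orderOf z * (k + 1) := by
      rw [hn]
      have h2 : n + 1 = 2 * (k + 1) := by omega
      rw [h2]; ring
    rw [h1, pow_mul, pow_orderOf_eq_one, one_pow]
  have hjρ : j' * ρ = ρ * j' := by
    rw [hj'_def, hρ_def, ← pow_add, ← pow_add, add_comm]
  have htρ : t * ρ * t⁻¹ = ρ⁻¹ := by rw [hρ_def]; exact htzpow (n + 1)
  set ρ' := c⁻¹ * ρ * c with hρ'_def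
  have hρ'n : ρ' ^ n = 1 := by
    have h1 : (c⁻¹ * ρ * c) ^ n = c⁻¹ * ρ ^ n * c := by
      have h2 := conj_pow (a := c⁻¹) (b := ρ) (i := n)
      rw [inv_inv] at h2
      exact h2
    rw [hρ'_def, h1, hρn]; group
  have hρ'cent : ρ' ∈ Subgroup.centralizer ({j} : Set G) := by
    rw [Subgroup.mem_centralizer_iff]
    intro x hx
    rw [Set.mem_singleton_iff] at hx
    rw [hx, ← hj, ← hcj, hρ'_def]
    calc c⁻¹ * j' * c * (c⁻¹ * ρ * c) = c⁻¹ * (j' * ρ) * c := by group
      _ = c⁻¹ * (ρ * j') * c := by rw [hjρ]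
      _ = c⁻¹ * ρ * c * (c⁻¹ * j' * c) := by group
  have htρ' : t * ρ' * t⁻¹ = ρ'⁻¹ := by
    rw [hρ'_def, htinv]
    calc t * (c⁻¹ * ρ * c) * t = (t * c⁻¹) * ρ * (c * t) := by group
      _ = (c⁻¹ * t) * ρ * (t * c) := by rw [hc', hct]
      _ = c⁻¹ * (t * ρ * t) * c := by group
      _ = c⁻¹ * (t * ρ * t⁻¹) * c := by rw [htinv]
      _ = c⁻¹ * ρ⁻¹ * c := by rw [htρ]
      _ = (c⁻¹ * ρ * c)⁻¹ := by group
  have hmemO : ρ' ∈ Cfsg.centralizerPPrimeCore 2 j := by
    have h1 := hZ ρ' hρ'cent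
    rw [htρ'] at h1
    have h2 : ρ' ^ 2 ∈ Cfsg.centralizerPPrimeCore 2 j := by
      have h3 := Subgroup.inv_mem _ h1
      convert h3 using 1
      group
    have h3 : ρ' = (ρ' ^ 2) ^ (k + 1) := by
      rw [← pow_mul]
      have h4 : 2 * (k + 1) = n + 1 := by omega
      rw [h4, pow_succ, hρ'n, one_mul]
    rw [h3]
    exact Subgroup.pow_mem _ h2 _
  refine ⟨c, ρ', hmemO, ?_⟩
  rw [hzjρ, ← hj, ← hcj, hρ'_def]
  group

/-- Multiplicativity of principal block characters at an isolated involution. -/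
theorem char_mul_eq [Finite G] {t s j : G} (ht : IsIsolatedInvolution t) (hs : orderOf s = 2)
    (hc : Commute t s) (hne : s ≠ t) (hj : t * s = j)
    (hZ : ∀ h ∈ Subgroup.centralizer ({j} : Set G),
      t * h * t⁻¹ * h⁻¹ ∈ Cfsg.centralizerPPrimeCore 2 j)
    (M : Ideal Cfsg.AlgInt) (hM : Cfsg.IsPModular 2 M) (χ : Cfsg.IrrCharacter G)
    (hχ : χ ∈ Cfsg.principalBlock M G) :
    (χ : G → ℂ) t * (χ : G → ℂ) s = (χ : G → ℂ) 1 * (χ : G → ℂ) j := by
  classical
  letI : Fintype G := Fintype.ofFinite G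
  haveI : Fact (Nat.Prime 2) := ⟨Nat.prime_two⟩
  have htt : t * t = 1 := isolated_sq ht
  have hss : s * s = 1 := sq_of_orderOf_two hs
  have hj2 : orderOf j = 2 := by rw [← hj]; exact orderOf_mul_eq_two htt hss hc hne
  have hcf := Cfsg.Agent.Lib.Helper25.isClassFunction_of_char
    (Cfsg.Agent.Lib.Helper25.isCharacter_of_irr χ.2)
  have hval : ∀ g : G, (χ : G → ℂ) (t * (g * s * g⁻¹)) = (χ : G → ℂ) j := by
    intro g
    obtain ⟨c, ρ, hρ, hcρ⟩ := exists_conj_eq ht hs hc hne hj hZ g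
    have h1 : (χ : G → ℂ) (c⁻¹ * (t * (g * s * g⁻¹)) * c⁻¹⁻¹)
        = (χ : G → ℂ) (t * (g * s * g⁻¹)) := hcf _ _
    rw [inv_inv, hcρ] at h1
    rw [← h1]
    exact Cfsg.Agent.S0942.result 2 M hM j ⟨1, by rw [hj2, pow_one]⟩ ρ hρ χ hχ
  have hsum := Cfsg.Agent.Lib.Helper25.sum_char_mul_conj χ.2 t s
  have hsum2 : ∑ h : G, (χ : G → ℂ) (t * (h * s * h⁻¹))
      = (Nat.card G : ℂ) * (χ : G → ℂ) j := by
    rw [Finset.sum_congr rfl (fun h _ => hval h), Finset.sum_const, Finset.card_univ,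
      nsmul_eq_mul, Nat.card_eq_fintype_card]
  rw [hsum2] at hsum
  have hG : (Nat.card G : ℂ) ≠ 0 := by exact_mod_cast Nat.card_pos.ne'
  have h1 := Cfsg.Agent.Lib.Helper25.irr_one_ne_zero χ.2
  rw [eq_div_iff h1] at hsum
  apply mul_left_cancel₀ hG
  linear_combination -hsum

/-- The contradiction: an isolated involution `t` generating `G` as a normal subgroup cannot
commute with another involution `s` when `t` is central modulo the core in `C_G(ts)` and
`C_G(s)`. -/
theorem false_of_isolated [Finite G] {t s : G} (ht : IsIsolatedInvolution t)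
    (hs : orderOf s = 2) (hc : Commute t s) (hne : s ≠ t)
    (hZ1 : ∀ h ∈ Subgroup.centralizer ({t * s} : Set G),
      t * h * t⁻¹ * h⁻¹ ∈ Cfsg.centralizerPPrimeCore 2 (t * s))
    (hZ2 : ∀ h ∈ Subgroup.centralizer ({s} : Set G),
      t * h * t⁻¹ * h⁻¹ ∈ Cfsg.centralizerPPrimeCore 2 s)
    (hgen : Subgroup.normalClosure ({t} : Set G) = ⊤) : False := by
  classical
  letI : Fintype G := Fintype.ofFinite G
  obtain ⟨M, hM⟩ := Cfsg.Agent.Lib.Helper25.exists_isPModular 2 Nat.prime_two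
  have htt : t * t = 1 := isolated_sq ht
  have hss : s * s = 1 := sq_of_orderOf_two hs
  have hj2 : orderOf (t * s) = 2 := orderOf_mul_eq_two htt hss hc hne
  have hcj : Commute t (t * s) := (Commute.refl t).mul_right hc
  have hjne : t * s ≠ t := by
    intro h
    have h1 : s = 1 := by
      have h2 : t * s = t * 1 := by rw [mul_one]; exact h
      exact mul_left_cancel h2
    rw [h1, orderOf_one] at hs
    omega
  have htj : t * (t * s) = s := by rw [← mul_assoc, htt, one_mul]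
  have hB : Cfsg.IsPBlock M (Cfsg.principalBlock M G) :=
    Cfsg.Agent.Lib.Helper24.isPBlock_principalBlock
  have e1 : ∀ χ : Cfsg.IrrCharacter G, χ ∈ Cfsg.principalBlock M G →
      (χ : G → ℂ) t * (χ : G → ℂ) s = (χ : G → ℂ) 1 * (χ : G → ℂ) (t * s) :=
    fun χ hχ => char_mul_eq ht hs hc hne rfl hZ1 M hM χ hχ
  have e2 : ∀ χ : Cfsg.IrrCharacter G, χ ∈ Cfsg.principalBlock M G →
      (χ : G → ℂ) t * (χ : G → ℂ) (t * s) = (χ : G → ℂ) 1 * (χ : G → ℂ) s :=
    fun χ hχ => char_mul_eq ht hj2 hcj hjne htj hZ2 M hM χ hχ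
  have hnc : ∀ x : G, x * t * x⁻¹ ≠ s := by
    intro x hx
    have h1 : Commute t (x * t * x⁻¹) := by rw [hx]; exact hc
    have h2 := ht.2 x h1
    exact hne (by rw [← hx, h2])
  have h1 := Cfsg.Agent.Lib.Helper24.weak_block_orthogonality hM (Cfsg.principalBlock M G) hB
    (1 : G) s (by rw [orderOf_one]; norm_num) (dvd_of_eq hs.symm)
  have h2 := Cfsg.Agent.Lib.Helper24.block_orthogonality hM (Cfsg.principalBlock M G) hB t s (by
    intro g k hk
    by_contra h2k
    have hkodd : Odd k := Nat.not_even_iff_odd.mp (fun he => h2k (even_iff_two_dvd.mp he))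
    obtain ⟨q, hq⟩ := hkodd
    have htk : t ^ k = t := by rw [hq, pow_succ, pow_mul, pow_two, htt, one_pow, one_mul]
    have hsk : s ^ k = s := by rw [hq, pow_succ, pow_mul, pow_two, hss, one_pow, one_mul]
    rw [htk, hsk] at hk
    apply hnc g⁻¹
    calc g⁻¹ * t * g⁻¹⁻¹ = g⁻¹ * (t * g) := by group
      _ = g⁻¹ * (g * s) := by rw [hk]
      _ = s := by group)
  have hfin : (Cfsg.principalBlock M G).Finite := Set.toFinite _
  rw [finsum_mem_eq_finite_toFinset_sum _ hfin] at h1 h2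
  have hsum : ∑ χ ∈ hfin.toFinset,
      (((χ : G → ℂ) 1 + (χ : G → ℂ) t) * conj ((χ : G → ℂ) s)) = 0 := by
    have h3 : ∀ χ ∈ hfin.toFinset, ((χ : G → ℂ) 1 + (χ : G → ℂ) t) * conj ((χ : G → ℂ) s)
        = (χ : G → ℂ) 1 * conj ((χ : G → ℂ) s) + (χ : G → ℂ) t * conj ((χ : G → ℂ) s) :=
      fun χ _ => by ring
    rw [Finset.sum_congr rfl h3, Finset.sum_add_distrib, h1, h2, add_zero]
  have hre : ∀ χ ∈ hfin.toFinset,
      0 ≤ (((χ : G → ℂ) 1 + (χ : G → ℂ) t) * conj ((χ : G → ℂ) s)).re := by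
    intro χ hχ'
    have hχ : χ ∈ Cfsg.principalBlock M G := hfin.mem_toFinset.mp hχ'
    have E1 := e1 χ hχ
    have E2 := e2 χ hχ
    have hprod : ((χ : G → ℂ) t - (χ : G → ℂ) 1) * ((χ : G → ℂ) t + (χ : G → ℂ) 1)
        * (χ : G → ℂ) s = 0 := by
      linear_combination ((χ : G → ℂ) t) * E1 + ((χ : G → ℂ) 1) * E2
    rcases mul_eq_zero.mp hprod with h | h
    · rcases mul_eq_zero.mp h with h | h
      · have ht1 : (χ : G → ℂ) t = (χ : G → ℂ) 1 := sub_eq_zero.mp h
        obtain ⟨K, hKn, hK⟩ := Cfsg.Agent.Lib.Helper25.exists_kernel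
          (Cfsg.Agent.Lib.Helper25.isCharacter_of_irr χ.2)
        have htK : t ∈ K := (hK t).2 ht1
        have hsK : s ∈ K := by
          have h3 : Subgroup.normalClosure ({t} : Set G) ≤ K := by
            haveI := hKn
            exact Subgroup.normalClosure_le_normal (Set.singleton_subset_iff.mpr htK)
          rw [hgen] at h3
          exact h3 (Subgroup.mem_top s)
        have hs1 : (χ : G → ℂ) s = (χ : G → ℂ) 1 := (hK s).1 hsK
        obtain ⟨n, hn⟩ := Cfsg.Agent.Lib.Helper25.char_one_eq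
          (Cfsg.Agent.Lib.Helper25.isCharacter_of_irr χ.2)
        rw [ht1, hs1, hn, Complex.conj_natCast]
        have h3 : ((n : ℂ) + n) * n = ((2 * n * n : ℕ) : ℂ) := by push_cast; ring
        rw [h3, Complex.natCast_re]
        positivity
      · have h3 : (χ : G → ℂ) 1 + (χ : G → ℂ) t = 0 := by rw [add_comm]; exact h
        rw [h3, zero_mul, Complex.zero_re]
    · rw [h, map_zero, mul_zero, Complex.zero_re]
  have htriv_mem : Cfsg.Agent.Lib.Helper24.trivIrr G ∈ Cfsg.principalBlock M G :=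
    Cfsg.Agent.Lib.Helper24.trivIrr_mem_principalBlock hM
  have h3 := Finset.single_le_sum
    (f := fun χ : Cfsg.IrrCharacter G =>
      (((χ : G → ℂ) 1 + (χ : G → ℂ) t) * conj ((χ : G → ℂ) s)).re)
    hre (hfin.mem_toFinset.mpr htriv_mem)
  rw [← Complex.re_sum, hsum, Complex.zero_re] at h3
  have e : ((((Cfsg.Agent.Lib.Helper24.trivIrr G : Cfsg.IrrCharacter G) : G → ℂ) 1
      + ((Cfsg.Agent.Lib.Helper24.trivIrr G : Cfsg.IrrCharacter G) : G → ℂ) t)
      * conj (((Cfsg.Agent.Lib.Helper24.trivIrr G : Cfsg.IrrCharacter G) : G → ℂ) s)).re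
      = 2 := by
    simp only [Cfsg.Agent.Lib.Helper24.trivIrr_apply, map_one, mul_one, Complex.add_re,
      Complex.one_re]
    norm_num
  have h4 : (2 : ℝ) ≤ 0 := by
    rw [← e]
    exact h3
  linarith

end Cfsg.Agent.Lib.Lead.ZStarCore
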