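import Mathlib
import Cfsg.Agent.Lib.Helper1.Coprime
import Cfsg.Agent.Lib.Helper17.Coprime

/-!
# The Baer trick and a theorem on odd `p`

* `Cfsg.Agent.Lib.Lead.Baer.B H h`: for a group `H` of class at most two in which `c ↦ c ^ h`
  is a square root, the abelian group on the same carrier with `x ⊕ y = x y [y,x]^h`.
* `abelian_fixed`: coprime averaging for an abelian `p`-group.
* `centralizes_of_odd`: for `p` odd, `A` a `p`-group, `Q` an `A`-invariant `p'`-group, both acting
  on the `p`-group `P`: if `Q` centralizes every element of order `p` of `C_P(A)`, then `Q`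
  centralizes `P`.
-/

set_option autoImplicit false

namespace Cfsg.Agent.Lib.Lead.Baer

open scoped commutatorElement

universe u v

section Cl2

variable {H : Type u} [Group H]

/-- Nilpotency class at most two, elementwise: all commutators are central. -/
def Cl2 (H : Type u) [Group H] : Prop := ∀ x y z : H, ⁅x, y⁆ * z = z * ⁅x, y⁆

theorem Cl2.comm_mem_center (hc : Cl2 H) (x y : H) : ⁅x, y⁆ ∈ Subgroup.center H :=
  Subgroup.mem_center_iff.mpr fun z => (hc x y z).symm

theorem central_comm {c : H} (hc : c ∈ Subgroup.center H) (w : H) : c * w = w * c :=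
  (Subgroup.mem_center_iff.mp hc w).symm

theorem Cl2.comm_mul_left (hc : Cl2 H) (x y z : H) : ⁅x * y, z⁆ = ⁅x, z⁆ * ⁅y, z⁆ := by
  calc ⁅x * y, z⁆ = x * ⁅y, z⁆ * x⁻¹ * ⁅x, z⁆ := by
        simp only [commutatorElement_def]; group
    _ = ⁅y, z⁆ * x * x⁻¹ * ⁅x, z⁆ := by rw [← hc y z x]
    _ = ⁅y, z⁆ * ⁅x, z⁆ := by rw [mul_inv_cancel_right]
    _ = ⁅x, z⁆ * ⁅y, z⁆ := hc y z _

theorem Cl2.comm_mul_right (hc : Cl2 H) (x y z : H) : ⁅x, y * z⁆ = ⁅x, y⁆ * ⁅x, z⁆ := by
  calc ⁅x, y * z⁆ = ⁅x, y⁆ * (y * ⁅x, z⁆) * y⁻¹ := by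
        simp only [commutatorElement_def]; group
    _ = ⁅x, y⁆ * (⁅x, z⁆ * y) * y⁻¹ := by rw [← hc x z y]
    _ = ⁅x, y⁆ * ⁅x, z⁆ := by group

theorem Cl2.comm_central_right (hc : Cl2 H) {c : H} (hcc : c ∈ Subgroup.center H) (x w : H) :
    ⁅x, w * c⁆ = ⁅x, w⁆ := by
  rw [hc.comm_mul_right,
    commutatorElement_eq_one_iff_commute.mpr (Subgroup.mem_center_iff.mp hcc x), mul_one]

theorem Cl2.comm_central_left (hc : Cl2 H) {c : H} (hcc : c ∈ Subgroup.center H) (w x : H) :
    ⁅w * c, x⁆ = ⁅w, x⁆ := by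
  rw [hc.comm_mul_left,
    commutatorElement_eq_one_iff_commute.mpr (central_comm hcc x), mul_one]

/-- The Baer sum. -/
def badd (h : ℕ) (x y : H) : H := x * y * ⁅y, x⁆ ^ h

theorem badd_assoc (hc : Cl2 H) (h : ℕ) (x y z : H) :
    badd h (badd h x y) z = badd h x (badd h y z) := by
  have ha : ⁅y, x⁆ ^ h ∈ Subgroup.center H := Subgroup.pow_mem _ (hc.comm_mem_center y x) h
  have hcc : ⁅z, y⁆ ^ h ∈ Subgroup.center H := Subgroup.pow_mem _ (hc.comm_mem_center z y) h
  have e1 : ⁅z, x * y * ⁅y, x⁆ ^ h⁆ = ⁅z, x⁆ * ⁅z, y⁆ := by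
    rw [hc.comm_central_right ha, hc.comm_mul_right]
  have e2 : ⁅y * z * ⁅z, y⁆ ^ h, x⁆ = ⁅y, x⁆ * ⁅z, x⁆ := by
    rw [hc.comm_central_left hcc, hc.comm_mul_left]
  have e3 : (⁅z, x⁆ * ⁅z, y⁆) ^ h = ⁅z, x⁆ ^ h * ⁅z, y⁆ ^ h :=
    Commute.mul_pow (show Commute ⁅z, x⁆ ⁅z, y⁆ from hc z x _) h
  have e4 : (⁅y, x⁆ * ⁅z, x⁆) ^ h = ⁅y, x⁆ ^ h * ⁅z, x⁆ ^ h :=
    Commute.mul_pow (show Commute ⁅y, x⁆ ⁅z, x⁆ from hc y x _) h
  unfold badd
  rw [e1, e2, e3, e4]
  generalize ⁅y, x⁆ ^ h = a at *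
  generalize ⁅z, x⁆ ^ h = b at *
  generalize ⁅z, y⁆ ^ h = c at *
  calc x * y * a * z * (b * c) = x * y * (a * z) * (b * c) := by simp only [mul_assoc]
    _ = x * y * (z * a) * (b * c) := by rw [central_comm ha z]
    _ = x * y * z * (a * b * c) := by simp only [mul_assoc]
    _ = x * y * z * (c * (a * b)) := by rw [← central_comm hcc (a * b)]
    _ = x * (y * z * c) * (a * b) := by simp only [mul_assoc]

theorem badd_comm (hc : Cl2 H) {h : ℕ} (hh : ∀ c : H, c ^ h * c ^ h = c) (x y : H) :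
    badd h x y = badd h y x := by
  unfold badd
  have hz : ⁅x, y⁆ ∈ Subgroup.center H := hc.comm_mem_center x y
  have e1 : x * y = y * x * ⁅x, y⁆ := by
    rw [← central_comm hz (y * x)]; simp only [commutatorElement_def]; group
  have e2 : ⁅y, x⁆ = ⁅x, y⁆⁻¹ := (commutatorElement_inv x y).symm
  have e3 : ⁅x, y⁆ * (⁅x, y⁆ ^ h)⁻¹ = ⁅x, y⁆ ^ h := by
    rw [mul_inv_eq_iff_eq_mul]; exact (hh _).symm
  rw [e1, e2, inv_pow, mul_assoc, e3]

theorem badd_one_left (h : ℕ) (x : H) : badd h 1 x = x := by simp [badd]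

theorem badd_one_right (h : ℕ) (x : H) : badd h x 1 = x := by simp [badd]

theorem badd_inv_left (h : ℕ) (x : H) : badd h x⁻¹ x = 1 := by
  have : ⁅x, x⁻¹⁆ = 1 := by simp [commutatorElement_def]
  simp [badd, this]

/-- Hypotheses for the Baer group: class at most two, and `c ↦ c ^ h` is a square root. -/
structure Hyp (H : Type u) [Group H] (h : ℕ) : Prop where
  cl2 : Cl2 H
  half : ∀ c : H, c ^ h * c ^ h = c

/-- Baer's abelian group on the same carrier. -/
def B (H : Type u) (_h : ℕ) : Type u := H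

namespace B

variable {h : ℕ}

/-- into the Baer group -/
def mk (x : H) : B H h := x

/-- out of the Baer group -/
def val (x : B H h) : H := x

omit [Group H] in
@[simp] theorem val_mk (x : H) : (mk x : B H h).val = x := rfl

omit [Group H] in
@[simp] theorem mk_val (x : B H h) : mk x.val = x := rfl

omit [Group H] in
theorem ext {x y : B H h} (hxy : x.val = y.val) : x = y := hxy

instance instMul : Mul (B H h) := ⟨fun x y => mk (badd h x.val y.val)⟩

instance instOne : One (B H h) := ⟨mk 1⟩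

instance instInv : Inv (B H h) := ⟨fun x => mk x.val⁻¹⟩

theorem val_mul (x y : B H h) : (x * y).val = badd h x.val y.val := rfl

theorem val_one : (1 : B H h).val = 1 := rfl

theorem val_inv (x : B H h) : (x⁻¹).val = x.val⁻¹ := rfl

instance instCommGroup [hh : Fact (Hyp H h)] : CommGroup (B H h) where
  mul_assoc x y z := ext (badd_assoc hh.out.cl2 h x.val y.val z.val)
  one_mul x := ext (badd_one_left h x.val)
  mul_one x := ext (badd_one_right h x.val)
  inv_mul_cancel x := ext (badd_inv_left h x.val)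
  mul_comm x y := ext (badd_comm hh.out.cl2 hh.out.half x.val y.val)

theorem val_pow [Fact (Hyp H h)] (x : B H h) (n : ℕ) : (x ^ n).val = x.val ^ n := by
  induction n with
  | zero => rw [pow_zero, pow_zero]; rfl
  | succ n ih =>
    rw [pow_succ, val_mul, ih, badd]
    have : ⁅x.val, x.val ^ n⁆ = 1 :=
      commutatorElement_eq_one_iff_commute.mpr (Commute.pow_right (Commute.refl _) n)
    rw [this, one_pow, mul_one, pow_succ]

instance instFinite [Finite H] : Finite (B H h) := inferInstanceAs (Finite H)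

instance instMulDistribMulAction {Γ : Type v} [Group Γ] [MulDistribMulAction Γ H]
    [Fact (Hyp H h)] : MulDistribMulAction Γ (B H h) where
  smul γ x := mk (γ • x.val)
  one_smul x := ext (one_smul Γ x.val)
  mul_smul a b x := ext (mul_smul a b x.val)
  smul_mul γ x y := by
    apply ext
    show γ • badd h x.val y.val = badd h (γ • x.val) (γ • y.val)
    simp only [badd, commutatorElement_def, smul_mul', smul_pow', smul_inv']
  smul_one γ := ext (smul_one γ)

theorem val_smul {Γ : Type v} [Group Γ] [MulDistribMulAction Γ H] [Fact (Hyp H h)]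
    (γ : Γ) (x : B H h) : (γ • x).val = γ • x.val := rfl

end B

end Cl2

section Abelian

variable {M : Type u} {Γ : Type v} [CommGroup M] [Finite M] [Group Γ] [MulDistribMulAction Γ M]

/-- Coprime averaging on an abelian `p`-group: if the `p'`-group `Q`, normalized by the `p`-group
`A`, fixes every element of order dividing `p` fixed by `A`, then `Q` acts trivially. -/
theorem abelian_fixed {p : ℕ} [Fact p.Prime] (hM : IsPGroup p M) (A Q : Subgroup Γ) [Finite Q]
    (hA : IsPGroup p A) (hQ : (Nat.card Q).Coprime p)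
    (hAQ : ∀ a ∈ A, ∀ g ∈ Q, a * g * a⁻¹ ∈ Q)
    (hyp : ∀ m : M, m ^ p = 1 → (∀ a ∈ A, a • m = m) → ∀ g ∈ Q, g • m = m) :
    ∀ m : M, ∀ g ∈ Q, g • m = m := by
  classical
  let _ : Fintype Q := Fintype.ofFinite Q
  obtain ⟨k, hk⟩ := hM.exists_card_eq
  have hcop : (Nat.card M).Coprime (Nat.card Q) := by
    rw [hk]; exact Nat.Coprime.pow_left k hQ.symm
  have hpow1 : ∀ x : M, x ^ Nat.card Q = 1 → x = 1 := by
    intro x hx
    have h1 : orderOf x = 1 :=
      Nat.eq_one_of_dvd_coprimes hcop (orderOf_dvd_natCard x) (orderOf_dvd_of_pow_eq_one hx)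
    exact orderOf_eq_one_iff.mp h1
  let E : M →* M := ∏ g : Q, MulDistribMulAction.toMonoidHom M (g : Γ)
  have hE : ∀ m, E m = ∏ g : Q, (g : Γ) • m := by
    intro m; simp [E]
  have hfix : ∀ m, ∀ g ∈ Q, g • E m = E m := by
    intro m g hg
    rw [hE, Finset.smul_prod']
    exact Fintype.prod_equiv (Equiv.mulLeft (⟨g, hg⟩ : Q)) _ _ (fun x => by simp [mul_smul])
  have hEfixed : ∀ m, (∀ g ∈ Q, g • m = m) → E m = m ^ Nat.card Q := by
    intro m hm
    have hm' : ∀ g : Q, (g : Γ) • m = m := fun g => hm g g.2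
    rw [hE]
    simp only [hm', Finset.prod_const, Finset.card_univ, Nat.card_eq_fintype_card]
  have hAE : ∀ a ∈ A, ∀ m, a • E m = E (a • m) := by
    intro a ha m
    have hainv : ∀ g ∈ Q, a⁻¹ * g * a ∈ Q := by
      intro g hg; simpa using hAQ a⁻¹ (inv_mem ha) g hg
    let φ : Q ≃ Q :=
      { toFun := fun g => ⟨a * g * a⁻¹, hAQ a ha g g.2⟩
        invFun := fun g => ⟨a⁻¹ * g * a, hainv g g.2⟩
        left_inv := fun g => Subtype.ext (by simp [mul_assoc])
        right_inv := fun g => Subtype.ext (by simp [mul_assoc]) }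
    rw [hE, hE, Finset.smul_prod']
    exact Fintype.prod_equiv φ _ _ (fun g => by
      show a • ((g : Γ) • m) = (a * g * a⁻¹) • (a • m)
      simp [mul_smul])
  -- the kernel of `E` is trivial
  have hker : ∀ m, E m = 1 → m = 1 := by
    by_contra hcon
    push Not at hcon
    obtain ⟨m₀, hm₀E, hm₀⟩ := hcon
    let K₁ : Subgroup M := E.ker ⊓ (powMonoidHom p : M →* M).ker
    have hK₁mem : ∀ m, m ∈ K₁ ↔ E m = 1 ∧ m ^ p = 1 := by
      intro m; simp [K₁, Subgroup.mem_inf, MonoidHom.mem_ker]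
    have hKp : IsPGroup p E.ker := hM.to_subgroup _
    have hKdvd : p ∣ Nat.card E.ker := by
      rcases hKp.card_eq_or_dvd with h1 | h1
      · exfalso
        have h2 : E.ker = ⊥ := Subgroup.card_eq_one.mp h1
        have hm : m₀ ∈ E.ker := MonoidHom.mem_ker.mpr hm₀E
        rw [h2, Subgroup.mem_bot] at hm
        exact hm₀ hm
      · exact h1
    obtain ⟨x, hx⟩ := exists_prime_orderOf_dvd_card' p hKdvd
    have hx1 : (x : M) ≠ 1 := by
      intro h
      have h2 : x = 1 := Subtype.ext h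
      rw [h2, orderOf_one] at hx
      exact (Fact.out : p.Prime).one_lt.ne hx
    have hxp : (x : M) ^ p = 1 := by
      have h2 := pow_orderOf_eq_one x
      rw [hx] at h2
      exact_mod_cast congrArg Subtype.val h2
    have hxK₁ : (x : M) ∈ K₁ := (hK₁mem _).mpr ⟨MonoidHom.mem_ker.mp x.2, hxp⟩
    have hK₁p : IsPGroup p K₁ := hM.to_subgroup _
    have hdvd : p ∣ Nat.card K₁ := by
      rcases hK₁p.card_eq_or_dvd with h1 | h1
      · exfalso
        have h2 : K₁ = ⊥ := Subgroup.card_eq_one.mp h1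
        rw [h2, Subgroup.mem_bot] at hxK₁
        exact hx1 hxK₁
      · exact h1
    let act : MulAction A K₁ :=
      { smul := fun a m => ⟨(a : Γ) • (m : M), (hK₁mem _).mpr
          ⟨by rw [← hAE a a.2, ((hK₁mem _).mp m.2).1, smul_one],
           by rw [← smul_pow', ((hK₁mem _).mp m.2).2, smul_one]⟩⟩
        one_smul := fun m => Subtype.ext (one_smul Γ (m : M))
        mul_smul := fun a b m => Subtype.ext (mul_smul (a : Γ) (b : Γ) (m : M)) }
    have h1fix : (1 : K₁) ∈ MulAction.fixedPoints A K₁ :=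
      fun a => Subtype.ext (smul_one (a : Γ))
    obtain ⟨b, hb, hb1⟩ :=
      hA.exists_fixed_point_of_prime_dvd_card_of_fixed_point K₁ hdvd h1fix
    have hbA : ∀ a ∈ A, a • (b : M) = b := fun a ha => congrArg Subtype.val (hb ⟨a, ha⟩)
    have hbQ := hyp b ((hK₁mem _).mp b.2).2 hbA
    have hEb : E b = (b : M) ^ Nat.card Q := hEfixed b hbQ
    have hb1' : (b : M) ^ Nat.card Q = 1 := by rw [← hEb]; exact ((hK₁mem _).mp b.2).1
    exact hb1 (Subtype.ext (hpow1 _ hb1').symm)
  intro m g hg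
  have h1 : E (E m) = E (m ^ Nat.card Q) := by rw [hEfixed (E m) (hfix m), map_pow]
  have h2 : E m = m ^ Nat.card Q := by
    have h3 : E (E m * (m ^ Nat.card Q)⁻¹) = 1 := by rw [map_mul, map_inv, h1, mul_inv_cancel]
    exact mul_inv_eq_one.mp (hker _ h3)
  have h3 : (g • m) ^ Nat.card Q = m ^ Nat.card Q := by rw [← smul_pow', ← h2, hfix m g hg]
  have h4 : (g • m * m⁻¹) ^ Nat.card Q = 1 := by rw [mul_pow, inv_pow, h3, mul_inv_cancel]
  exact mul_inv_eq_one.mp (hpow1 _ h4)

end Abelian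

section Glue

variable {G : Type u} [Group G]

/-- The conjugation action of the normalizer of `P` on `P`. -/
@[reducible] def normAct (P : Subgroup G) :
    MulDistribMulAction ↥(Subgroup.normalizer (P : Set G)) ↥P where
  smul n x := ⟨(n : G) * x * (n : G)⁻¹, (Subgroup.mem_normalizer_iff.mp n.2 x).mp x.2⟩
  one_smul x := Subtype.ext (by
    show ((1 : ↥(Subgroup.normalizer (P : Set G))) : G) * x *
      ((1 : ↥(Subgroup.normalizer (P : Set G))) : G)⁻¹ = x
    simp)
  mul_smul a b x := Subtype.ext (by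
    show ((a * b : ↥(Subgroup.normalizer (P : Set G))) : G) * x *
      ((a * b : ↥(Subgroup.normalizer (P : Set G))) : G)⁻¹ =
        (a : G) * ((b : G) * x * (b : G)⁻¹) * (a : G)⁻¹
    simp [mul_assoc])
  smul_mul a x y := Subtype.ext (by
    show (a : G) * ((x * y : ↥P) : G) * (a : G)⁻¹ =
      ((a : G) * x * (a : G)⁻¹) * ((a : G) * y * (a : G)⁻¹)
    simp [mul_assoc])
  smul_one a := Subtype.ext (by
    show (a : G) * ((1 : ↥P) : G) * (a : G)⁻¹ = 1
    simp)

theorem normalizes_commutator {B H₁ H₂ : Subgroup G}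
    (h₁ : B ≤ Subgroup.normalizer (H₁ : Set G)) (h₂ : B ≤ Subgroup.normalizer (H₂ : Set G)) :
    B ≤ Subgroup.normalizer ((⁅H₁, H₂⁆ : Subgroup G) : Set G) := by
  apply Cfsg.Agent.Lib.Helper1.le_normalizer_of_forall_conj_mem
  intro b hb y hy
  have hmap : (⁅H₁, H₂⁆).map (MulAut.conj b).toMonoidHom ≤ ⁅H₁, H₂⁆ := by
    rw [Subgroup.map_commutator]
    apply Subgroup.commutator_mono
    · rintro _ ⟨x, hx, rfl⟩
      exact (Subgroup.mem_normalizer_iff.mp (h₁ hb) x).mp hx
    · rintro _ ⟨x, hx, rfl⟩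
      exact (Subgroup.mem_normalizer_iff.mp (h₂ hb) x).mp hx
  exact hmap ⟨y, hy, rfl⟩

/-- The class-two case, by the Baer trick. -/
theorem centralizes_cl2 [Finite G] {p : ℕ} [Fact p.Prime] (hp2 : p ≠ 2) {P A Q : Subgroup G}
    (hP : IsPGroup p P) (hA : IsPGroup p A) (hQ : (Nat.card Q).Coprime p)
    (hAQ : A ≤ Subgroup.normalizer (Q : Set G)) (hAP : A ≤ Subgroup.normalizer (P : Set G))
    (hQP : Q ≤ Subgroup.normalizer (P : Set G))
    (hcl : ∀ x ∈ P, ∀ y ∈ P, ∀ z ∈ P, ⁅x, y⁆ * z = z * ⁅x, y⁆)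
    (hC : ∀ x ∈ P, x ^ p = 1 → (∀ a ∈ A, a * x = x * a) → ∀ g ∈ Q, g * x = x * g) :
    ∀ x ∈ P, ∀ g ∈ Q, g * x = x * g := by
  classical
  obtain ⟨k, hk⟩ := hP.exists_card_eq
  have hodd : Odd (Nat.card P) := by
    rw [hk]; exact Odd.pow ((Fact.out : p.Prime).odd_of_ne_two hp2)
  obtain ⟨j, hj⟩ := hodd
  have hyp : Hyp ↥P (j + 1) :=
    { cl2 := fun x y z => Subtype.ext (by
        have := hcl x x.2 y y.2 z z.2
        simpa [commutatorElement_def] using this)
      half := fun c => by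
        rw [← pow_add]
        have h1 : j + 1 + (j + 1) = Nat.card P + 1 := by omega
        rw [h1, pow_succ, pow_card_eq_one', one_mul] }
  have hfact : Fact (Hyp ↥P (j + 1)) := ⟨hyp⟩
  let _ := normAct P
  have hMp : IsPGroup p (B ↥P (j + 1)) := by
    intro m
    obtain ⟨k, hk⟩ := hP m.val
    exact ⟨k, B.ext (by rw [B.val_pow, hk]; rfl)⟩
  have hA' : IsPGroup p (A.subgroupOf (Subgroup.normalizer (P : Set G))) := hA.comap_subtype
  have hQ' : (Nat.card (Q.subgroupOf (Subgroup.normalizer (P : Set G)))).Coprime p := by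
    rw [Nat.card_congr (Subgroup.subgroupOfEquivOfLe hQP).toEquiv]; exact hQ
  have hAQ' : ∀ a ∈ A.subgroupOf (Subgroup.normalizer (P : Set G)),
      ∀ g ∈ Q.subgroupOf (Subgroup.normalizer (P : Set G)),
        a * g * a⁻¹ ∈ Q.subgroupOf (Subgroup.normalizer (P : Set G)) := by
    intro a ha g hg
    rw [Subgroup.mem_subgroupOf] at ha hg ⊢
    simp only [Subgroup.coe_mul, Subgroup.coe_inv]
    exact (Subgroup.mem_normalizer_iff.mp (hAQ ha) _).mp hg
  have key := abelian_fixed (M := B ↥P (j + 1)) hMp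
    (A.subgroupOf (Subgroup.normalizer (P : Set G)))
    (Q.subgroupOf (Subgroup.normalizer (P : Set G))) hA' hQ' hAQ' (by
      intro m hmp hmA g hg
      have hx : ((m.val : ↥P) : G) ^ p = 1 := by
        have h1 := congrArg B.val hmp
        rw [B.val_pow] at h1
        have h2 := congrArg Subtype.val h1
        simpa [B.val_one] using h2
      have h1 := hC m.val m.val.2 hx (fun a ha => by
        have h2 := hmA ⟨a, hAP ha⟩ (Subgroup.mem_subgroupOf.mpr ha)
        have h3 : a * ((m.val : ↥P) : G) * a⁻¹ = ((m.val : ↥P) : G) :=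
          congrArg (fun t => ((B.val t : ↥P) : G)) h2
        calc a * ((m.val : ↥P) : G) = a * ((m.val : ↥P) : G) * a⁻¹ * a := by group
          _ = ((m.val : ↥P) : G) * a := by rw [h3]) g (Subgroup.mem_subgroupOf.mp hg)
      apply B.ext
      apply Subtype.ext
      show (g : G) * ((m.val : ↥P) : G) * (g : G)⁻¹ = ((m.val : ↥P) : G)
      rw [h1]; group)
  intro x hx g hg
  have h1 := key (B.mk ⟨x, hx⟩) ⟨g, hQP hg⟩ (Subgroup.mem_subgroupOf.mpr hg)
  have h2 : g * x * g⁻¹ = x := congrArg (fun t => ((B.val t : ↥P) : G)) h1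
  calc g * x = g * x * g⁻¹ * g := by group
    _ = x * g := by rw [h2]

/-- **Theorem.** Let `p` be odd, `A` a `p`-group, `Q` an `A`-invariant `p'`-group, both
normalizing the `p`-group `P`. If `Q` centralizes every element of order `p` of `C_P(A)`,
then `Q` centralizes `P`. -/
theorem centralizes_of_odd [Finite G] {p : ℕ} [Fact p.Prime] (hp2 : p ≠ 2)
    {A Q : Subgroup G} (hA : IsPGroup p A) (hQ : (Nat.card Q).Coprime p)
    (hAQ : A ≤ Subgroup.normalizer (Q : Set G)) :
    ∀ (n : ℕ) (P : Subgroup G), Nat.card P = n → IsPGroup p P →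
      A ≤ Subgroup.normalizer (P : Set G) → Q ≤ Subgroup.normalizer (P : Set G) →
      (∀ x ∈ P, orderOf x = p → (∀ a ∈ A, a * x = x * a) → ∀ g ∈ Q, g * x = x * g) →
      ∀ x ∈ P, ∀ g ∈ Q, g * x = x * g := by
  intro n
  induction n using Nat.strong_induction_on with
  | _ n ih =>
    intro P hn hP hAP hQP hC
    have hQord : ∀ g ∈ Q, (orderOf g).Coprime p := fun g hg =>
      Nat.Coprime.coprime_dvd_left (Subgroup.orderOf_dvd_natCard Q hg) hQ
    have hRle : ⁅P, Q⁆ ≤ P := Subgroup.le_normalizer_iff_commutator_le_left.mp hQP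
    have hsub : ∀ P₁ : Subgroup G, P₁ < P → A ≤ Subgroup.normalizer (P₁ : Set G) →
        Q ≤ Subgroup.normalizer (P₁ : Set G) → ∀ x ∈ P₁, ∀ g ∈ Q, g * x = x * g := by
      intro P₁ hlt hA₁ hQ₁
      have hcard : Nat.card P₁ < n := by
        rw [← hn]
        exact Set.Finite.card_lt_card (Set.toFinite _) (by exact_mod_cast hlt)
      exact ih _ hcard P₁ rfl (hP.to_le hlt.le) hA₁ hQ₁ (fun x hx => hC x (hlt.le hx))
    by_cases hR : ⁅P, Q⁆ = P
    · by_cases hD : P ≤ ⁅P, P⁆
      · have hbot : P = ⊥ :=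
          Cfsg.Agent.Lib.Helper17.eq_bot_of_le_commutator_pgroups hP hP Subgroup.le_normalizer hD
        intro x hx g hg
        rw [hbot, Subgroup.mem_bot] at hx
        rw [hx, mul_one, one_mul]
      · have hDle : ⁅P, P⁆ ≤ P :=
          Subgroup.le_normalizer_iff_commutator_le_left.mp Subgroup.le_normalizer
        have hDlt : ⁅P, P⁆ < P := lt_of_le_of_ne hDle (fun h => hD h.ge)
        have hDc := hsub _ hDlt (normalizes_commutator hAP hAP) (normalizes_commutator hQP hQP)
        have hDQbot : ⁅⁅P, P⁆, Q⁆ = ⊥ := by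
          rw [Subgroup.commutator_eq_bot_iff_le_centralizer]
          intro x hx
          rw [Subgroup.mem_centralizer_iff]
          intro g hg
          exact hDc x hx g hg
        have h1 : ⁅⁅Q, ⁅P, P⁆⁆, P⁆ = ⊥ := by
          rw [Subgroup.commutator_comm Q, hDQbot, Subgroup.commutator_bot_left]
        have h2 : ⁅⁅⁅P, P⁆, P⁆, Q⁆ = ⊥ := by
          rw [eq_bot_iff, ← hDQbot]
          exact Subgroup.commutator_mono (Subgroup.commutator_mono hDle le_rfl) le_rfl
        have h3 := Subgroup.commutator_commutator_eq_bot_of_rotate h1 h2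
        rw [hR, Subgroup.commutator_eq_bot_iff_le_centralizer] at h3
        have hcl : ∀ x ∈ P, ∀ y ∈ P, ∀ z ∈ P, ⁅x, y⁆ * z = z * ⁅x, y⁆ := by
          intro x hx y hy z hz
          exact Subgroup.mem_centralizer_iff.mp (h3 hz) _ (Subgroup.commutator_mem_commutator hx hy)
        refine centralizes_cl2 hp2 hP hA hQ hAQ hAP hQP hcl ?_
        intro x hx hxp hxA g hg
        by_cases hx1 : x = 1
        · rw [hx1, mul_one, one_mul]
        · exact hC x hx (orderOf_eq_prime hxp hx1) hxA g hg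
    · have hRlt : ⁅P, Q⁆ < P := lt_of_le_of_ne hRle hR
      have hRc := hsub _ hRlt (normalizes_commutator hAP hAQ)
        (Subgroup.normalizer_commutator_ge_right P Q)
      intro x hx g hg
      exact Cfsg.Agent.Lib.Helper17.stability_centralizes hP (hQord g hg) hRle
        (fun y hy => Subgroup.commutator_mem_commutator hy hg) (fun y hy => hRc y hy g hg) x hx

end Glue

end Cfsg.Agent.Lib.Lead.Baer
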