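import Mathlib
import Cfsg.Prelude
import Cfsg.Agent.Lib.Lead.Baer
import Cfsg.Agent.H5.PStableZJ

/-!
# Invariant `p'`-subgroups of `p`-constrained groups, `p` odd

`le_pPrimeCore_of_odd`: in a `p`-constrained group `X`, `p` odd, if the `p`-subgroup `A` contains
every element of order `p` of `C_X(A)`, then every `A`-invariant `p'`-subgroup lies in `O_{p'}(X)`.
-/

set_option autoImplicit false

namespace Cfsg.Agent.Lib.Lead.PCInv

open scoped commutatorElement

/-- Lifting: an element of order `p` of `X / N` (`N` a normal `p'`-subgroup) centralizing the image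
of the `p`-subgroup `A` is the image of an element of order `p` of `C_X(A)`. -/
theorem exists_lift_order_p {X : Type*} [Group X] [Finite X] {p : ℕ} [Fact p.Prime]
    (N : Subgroup X) [N.Normal] (hN : (Nat.card N).Coprime p) (A : Subgroup X)
    (hAp : IsPGroup p A) (xb : X ⧸ N) (hxb : orderOf xb = p)
    (hcent : ∀ a ∈ A, (QuotientGroup.mk' N a) * xb = xb * (QuotientGroup.mk' N a)) :
    ∃ s ∈ Subgroup.centralizer (A : Set X), orderOf s = p ∧ QuotientGroup.mk' N s = xb := by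
  classical
  have hp : p.Prime := Fact.out
  let F := {y : X // QuotientGroup.mk' N y = xb}
  let act : MulAction A F :=
    { smul := fun a y => ⟨(a : X) * y.1 * (a : X)⁻¹, by
        rw [map_mul, map_mul, map_inv, y.2, hcent a a.2, mul_inv_cancel_right]⟩
      one_smul := fun y => Subtype.ext (by
        show ((1 : A) : X) * y.1 * ((1 : A) : X)⁻¹ = y.1
        simp)
      mul_smul := fun a b y => Subtype.ext (by
        show ((a * b : A) : X) * y.1 * ((a * b : A) : X)⁻¹ =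
          (a : X) * ((b : X) * y.1 * (b : X)⁻¹) * (a : X)⁻¹
        simp [mul_assoc]) }
  obtain ⟨x₀, hx₀⟩ := QuotientGroup.mk'_surjective N xb
  let e : N ≃ F :=
    { toFun := fun n => ⟨x₀ * n, by
        have h1 : QuotientGroup.mk' N (n : X) = 1 := (QuotientGroup.eq_one_iff (n : X)).2 n.2
        rw [map_mul, hx₀, h1, mul_one]⟩
      invFun := fun y => ⟨x₀⁻¹ * y.1, by
        have h1 : QuotientGroup.mk' N (x₀⁻¹ * y.1) = 1 := by
          rw [map_mul, map_inv, hx₀, y.2, inv_mul_cancel]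
        exact (QuotientGroup.eq_one_iff _).1 h1⟩
      left_inv := fun n => Subtype.ext (by simp)
      right_inv := fun y => Subtype.ext (by simp) }
  have hcardF : Nat.card F = Nat.card N := (Nat.card_congr e).symm
  have hnd : ¬ p ∣ Nat.card F := by
    rw [hcardF]
    intro h
    exact hp.one_lt.ne' (Nat.Coprime.eq_one_of_dvd hN.symm h)
  obtain ⟨s, hs⟩ := hAp.nonempty_fixed_point_of_prime_not_dvd_card F hnd
  have hsA : s.1 ∈ Subgroup.centralizer (A : Set X) := by
    rw [Subgroup.mem_centralizer_iff]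
    intro a ha
    have h1 : a * s.1 * a⁻¹ = s.1 := congrArg Subtype.val (hs ⟨a, ha⟩)
    calc a * s.1 = a * s.1 * a⁻¹ * a := by group
      _ = s.1 * a := by rw [h1]
  obtain ⟨j, -, hj⟩ := Nat.exists_mul_mod_eq_one_of_coprime hN hp.one_lt
  refine ⟨s.1 ^ (Nat.card N * j), Subgroup.pow_mem _ hsA _, ?_, ?_⟩
  · have hmk : QuotientGroup.mk' N (s.1 ^ (Nat.card N * j)) = xb := by
      rw [map_pow, s.2, ← pow_mod_orderOf, hxb, hj, pow_one]
    have hne : s.1 ^ (Nat.card N * j) ≠ 1 := by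
      intro h
      rw [h, map_one] at hmk
      rw [← hmk, orderOf_one] at hxb
      exact hp.one_lt.ne hxb
    refine orderOf_eq_prime ?_ hne
    have hspN : s.1 ^ p ∈ N := by
      rw [← QuotientGroup.eq_one_iff]
      have h1 : QuotientGroup.mk' N (s.1 ^ p) = 1 := by
        rw [map_pow, s.2, ← hxb, pow_orderOf_eq_one]
      exact h1
    have h2 : (s.1 ^ p) ^ Nat.card N = 1 := by
      have h3 := pow_card_eq_one' (G := N) (x := ⟨s.1 ^ p, hspN⟩)
      exact congrArg Subtype.val h3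
    calc (s.1 ^ (Nat.card N * j)) ^ p = ((s.1 ^ p) ^ Nat.card N) ^ j := by
          rw [← pow_mul, ← pow_mul, ← pow_mul]; ring_nf
      _ = 1 := by rw [h2, one_pow]
  · rw [map_pow, s.2, ← pow_mod_orderOf, hxb, hj, pow_one]

/-- In a `p`-constrained group, `p` odd, if the `p`-subgroup `A` contains every element of order
`p` of `C_X(A)`, then every `A`-invariant `p'`-subgroup lies in `O_{p'}(X)`. -/
theorem le_pPrimeCore_of_odd {X : Type*} [Group X] [Finite X] {p : ℕ} [Fact p.Prime] (hp : p ≠ 2)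
    (hX : Cfsg.IsPConstrained p X) (A : Subgroup X) (hAp : IsPGroup p ↥A)
    (hΩ : ∀ x ∈ Subgroup.centralizer (A : Set X), orderOf x = p → x ∈ A) (Q : Subgroup X)
    (hQ : (Nat.card ↥Q).Coprime p) (hAQ : A ≤ Subgroup.normalizer (Q : Set X)) :
    Q ≤ Cfsg.pPrimeCore p X := by
  classical
  have hNcop : (Nat.card (Cfsg.pPrimeCore p X)).Coprime p := Cfsg.H5.coprime_card_pPrimeCore p X
  have hPp : IsPGroup p (Cfsg.pCore p (X ⧸ Cfsg.pPrimeCore p X)) := Cfsg.H5.pCore_isPGroup p _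
  have hPn : (Cfsg.pCore p (X ⧸ Cfsg.pPrimeCore p X)).Normal := inferInstance
  have hCP := Cfsg.H5.PSt.centralizer_pCore_quotient_le hX
  have hAbp : IsPGroup p (A.map (QuotientGroup.mk' (Cfsg.pPrimeCore p X))) := hAp.map _
  have hQbcop : (Nat.card (Q.map (QuotientGroup.mk' (Cfsg.pPrimeCore p X)))).Coprime p :=
    Nat.Coprime.coprime_dvd_left
      (Subgroup.card_dvd_of_surjective ((QuotientGroup.mk' (Cfsg.pPrimeCore p X)).subgroupMap Q)
        ((QuotientGroup.mk' (Cfsg.pPrimeCore p X)).subgroupMap_surjective Q)) hQ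
  have hAbQb : A.map (QuotientGroup.mk' (Cfsg.pPrimeCore p X)) ≤
      Subgroup.normalizer ((Q.map (QuotientGroup.mk' (Cfsg.pPrimeCore p X))) :
        Set (X ⧸ Cfsg.pPrimeCore p X)) :=
    (Subgroup.map_mono hAQ).trans (Subgroup.le_normalizer_map _)
  have htop : Subgroup.normalizer ((Cfsg.pCore p (X ⧸ Cfsg.pPrimeCore p X)) :
      Set (X ⧸ Cfsg.pPrimeCore p X)) = ⊤ :=
    Subgroup.normalizer_eq_top_iff.mpr hPn
  have hdisj : ∀ y, y ∈ Cfsg.pCore p (X ⧸ Cfsg.pPrimeCore p X) →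
      y ∈ Q.map (QuotientGroup.mk' (Cfsg.pPrimeCore p X)) → y = 1 := fun y hyP hyQ =>
    Cfsg.H5.eq_one_of_coprime_of_mem_pgroup (Cfsg.H5.coprime_orderOf_of_mem hQbcop hyQ) hPp hyP
  have key := Cfsg.Agent.Lib.Lead.Baer.centralizes_of_odd hp hAbp hQbcop hAbQb _
    (Cfsg.pCore p (X ⧸ Cfsg.pPrimeCore p X)) rfl hPp (by rw [htop]; exact le_top)
    (by rw [htop]; exact le_top) (by
      intro x hxP hxo hxA g hg
      obtain ⟨s, hsA, hso, hsx⟩ := exists_lift_order_p (Cfsg.pPrimeCore p X) hNcop A hAp x hxo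
        (fun a ha => hxA _ (Subgroup.mem_map_of_mem _ ha))
      have hxAb : x ∈ A.map (QuotientGroup.mk' (Cfsg.pPrimeCore p X)) :=
        ⟨s, hΩ s hsA hso, hsx⟩
      have h1 : x * g * x⁻¹ ∈ Q.map (QuotientGroup.mk' (Cfsg.pPrimeCore p X)) :=
        (Subgroup.mem_normalizer_iff.mp (hAbQb hxAb) g).mp hg
      have h2 : x * g * x⁻¹ * g⁻¹ ∈ Q.map (QuotientGroup.mk' (Cfsg.pPrimeCore p X)) :=
        mul_mem h1 (inv_mem hg)
      have h3 : x * g * x⁻¹ * g⁻¹ ∈ Cfsg.pCore p (X ⧸ Cfsg.pPrimeCore p X) := by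
        have h4 : x * g * x⁻¹ * g⁻¹ = x * (g * x⁻¹ * g⁻¹) := by group
        rw [h4]
        exact mul_mem hxP (hPn.conj_mem _ (inv_mem hxP) g)
      have h5 := hdisj _ h3 h2
      calc g * x = (x * g * x⁻¹ * g⁻¹)⁻¹ * (x * g) := by group
        _ = x * g := by rw [h5, inv_one, one_mul])
  -- so the image of `Q` centralizes `O_p`, hence lies in it, hence is trivial
  intro q hq
  have hqb : QuotientGroup.mk' (Cfsg.pPrimeCore p X) q ∈
      Q.map (QuotientGroup.mk' (Cfsg.pPrimeCore p X)) := Subgroup.mem_map_of_mem _ hq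
  have hqC : QuotientGroup.mk' (Cfsg.pPrimeCore p X) q ∈
      Subgroup.centralizer ((Cfsg.pCore p (X ⧸ Cfsg.pPrimeCore p X)) :
        Set (X ⧸ Cfsg.pPrimeCore p X)) := by
    rw [Subgroup.mem_centralizer_iff]
    intro x hx
    exact (key x hx _ hqb).symm
  have h1 := hdisj _ (hCP hqC) hqb
  exact (QuotientGroup.eq_one_iff q).1 h1

end Cfsg.Agent.Lib.Lead.PCInv
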