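import Mathlib
import Cfsg.Prelude
import Cfsg.Agent.Lib.Lead.PConstrainedInv
import Cfsg.Agent.Lib.Helper1.CoprimeSylow
import Cfsg.Agent.Lib.Helper1.NoncyclicAbelian

/-!
# Thompson's transitivity theorem: the combinatorial core and the key lemmas

* `exists_lift_p_element`, `le_pPrimeCore_of_normal`: the key lemma on invariant `p'`-subgroups of
  `p`-constrained groups when `A` is normal in every Sylow `p`-subgroup containing it.
* `exists_large_centralizer`: hyperplane lemma for an elementary abelian group acting coprimely.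
* `mem_piCoreOf_centralizer`: `p'`-elements of `C_G(E)` lie in `O_{p'}(C_G(E))` when `E` is a central
  Sylow `p`-subgroup of `C_G(E)`.
* `transitivity_core`: the transitivity argument.
-/

set_option autoImplicit false

namespace Cfsg.Agent.Lib.Lead.Trans

open scoped commutatorElement

/-! ### Lifting `p`-elements -/

theorem exists_lift_p_element {X : Type*} [Group X] [Finite X] {p : ℕ} [Fact p.Prime]
    (N : Subgroup X) [N.Normal] (hN : (Nat.card N).Coprime p) (A : Subgroup X)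
    (hAp : IsPGroup p A) (xb : X ⧸ N) (k : ℕ) (hxb : xb ^ p ^ k = 1)
    (hcent : ∀ a ∈ A, (QuotientGroup.mk' N a) * xb = xb * (QuotientGroup.mk' N a)) :
    ∃ s ∈ Subgroup.centralizer (A : Set X), s ^ p ^ k = 1 ∧ QuotientGroup.mk' N s = xb := by
  classical
  have hp : p.Prime := Fact.out
  by_cases hk : k = 0
  · subst hk
    rw [pow_zero, pow_one] at hxb
    exact ⟨1, Subgroup.one_mem _, by simp, by rw [map_one, hxb]⟩
  let F := {y : X // QuotientGroup.mk' N y = xb}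
  let act : MulAction A F :=
    { smul := fun a y => ⟨(a : X) * y.1 * (a : X)⁻¹, by
        rw [map_mul, map_mul, map_inv, y.2, hcent a a.2, mul_inv_cancel_right]⟩
      one_smul := fun y => Subtype.ext (by
        show ((1 : A) : X) * y.1 * ((1 : A) : X)⁻¹ = y.1
        simp)
      mul_smul := fun a b y => Subtype.ext (by
        show ((a * b : A) : X) * y.1 * ((a * b : A) : X)⁻¹ =
          (a : X) * ((b : X) * y.1 * (b : X)⁻¹) * (a : X)⁻¹
        simp [mul_assoc]) }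
  obtain ⟨x₀, hx₀⟩ := QuotientGroup.mk'_surjective N xb
  let e : N ≃ F :=
    { toFun := fun n => ⟨x₀ * n, by
        have h1 : QuotientGroup.mk' N (n : X) = 1 := (QuotientGroup.eq_one_iff (n : X)).2 n.2
        rw [map_mul, hx₀, h1, mul_one]⟩
      invFun := fun y => ⟨x₀⁻¹ * y.1, by
        have h1 : QuotientGroup.mk' N (x₀⁻¹ * y.1) = 1 := by
          rw [map_mul, map_inv, hx₀, y.2, inv_mul_cancel]
        exact (QuotientGroup.eq_one_iff _).1 h1⟩
      left_inv := fun n => Subtype.ext (by simp)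
      right_inv := fun y => Subtype.ext (by simp) }
  have hcardF : Nat.card F = Nat.card N := (Nat.card_congr e).symm
  have hnd : ¬ p ∣ Nat.card F := by
    rw [hcardF]
    intro h
    exact hp.one_lt.ne' (Nat.Coprime.eq_one_of_dvd hN.symm h)
  obtain ⟨s, hs⟩ := hAp.nonempty_fixed_point_of_prime_not_dvd_card F hnd
  have hsA : s.1 ∈ Subgroup.centralizer (A : Set X) := by
    rw [Subgroup.mem_centralizer_iff]
    intro a ha
    have h1 : a * s.1 * a⁻¹ = s.1 := congrArg Subtype.val (hs ⟨a, ha⟩)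
    calc a * s.1 = a * s.1 * a⁻¹ * a := by group
      _ = s.1 * a := by rw [h1]
  have hpk : 1 < p ^ k := Nat.one_lt_pow hk hp.one_lt
  obtain ⟨j, -, hj⟩ := Nat.exists_mul_mod_eq_one_of_coprime (Nat.Coprime.pow_right k hN) hpk
  have hspN : s.1 ^ p ^ k ∈ N := by
    rw [← QuotientGroup.eq_one_iff]
    have h1 : QuotientGroup.mk' N (s.1 ^ p ^ k) = 1 := by rw [map_pow, s.2, hxb]
    exact h1
  have h2 : (s.1 ^ p ^ k) ^ Nat.card N = 1 := by
    have h3 := pow_card_eq_one' (G := N) (x := ⟨s.1 ^ p ^ k, hspN⟩)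
    exact congrArg Subtype.val h3
  refine ⟨s.1 ^ (Nat.card N * j), Subgroup.pow_mem _ hsA _, ?_, ?_⟩
  · calc (s.1 ^ (Nat.card N * j)) ^ p ^ k = ((s.1 ^ p ^ k) ^ Nat.card N) ^ j := by
          rw [← pow_mul, ← pow_mul, ← pow_mul]; ring_nf
      _ = 1 := by rw [h2, one_pow]
  · rw [map_pow, s.2]
    have h3 : Nat.card N * j = p ^ k * (Nat.card N * j / p ^ k) + 1 := by
      have h4 := Nat.div_add_mod (Nat.card N * j) (p ^ k)
      rw [hj] at h4
      exact h4.symm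
    rw [h3, pow_succ, pow_mul, hxb, one_pow, one_mul]

/-! ### The key lemma when `A` is normal in the Sylow subgroups containing it -/

theorem le_pPrimeCore_of_normal {X : Type*} [Group X] [Finite X] {p : ℕ} [Fact p.Prime]
    (hX : Cfsg.IsPConstrained p X) (A : Subgroup X) (hAp : IsPGroup p ↥A)
    (hfull : ∀ x ∈ Subgroup.centralizer (A : Set X), (∃ k : ℕ, x ^ p ^ k = 1) → x ∈ A)
    (hnorm : ∀ S : Sylow p X, A ≤ S → (S : Subgroup X) ≤ Subgroup.normalizer (A : Set X))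
    (Q : Subgroup X) (hQ : (Nat.card ↥Q).Coprime p) (hAQ : A ≤ Subgroup.normalizer (Q : Set X)) :
    Q ≤ Cfsg.pPrimeCore p X := by
  classical
  have hNcop : (Nat.card (Cfsg.pPrimeCore p X)).Coprime p := Cfsg.H5.coprime_card_pPrimeCore p X
  have hPp : IsPGroup p (Cfsg.pCore p (X ⧸ Cfsg.pPrimeCore p X)) := Cfsg.H5.pCore_isPGroup p _
  have hPn : (Cfsg.pCore p (X ⧸ Cfsg.pPrimeCore p X)).Normal := inferInstance
  have hCP := Cfsg.H5.PSt.centralizer_pCore_quotient_le hX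
  have hAbp : IsPGroup p (A.map (QuotientGroup.mk' (Cfsg.pPrimeCore p X))) := hAp.map _
  have hQbcop : (Nat.card (Q.map (QuotientGroup.mk' (Cfsg.pPrimeCore p X)))).Coprime p :=
    Nat.Coprime.coprime_dvd_left
      (Subgroup.card_dvd_of_surjective ((QuotientGroup.mk' (Cfsg.pPrimeCore p X)).subgroupMap Q)
        ((QuotientGroup.mk' (Cfsg.pPrimeCore p X)).subgroupMap_surjective Q)) hQ
  have hAbQb : A.map (QuotientGroup.mk' (Cfsg.pPrimeCore p X)) ≤
      Subgroup.normalizer ((Q.map (QuotientGroup.mk' (Cfsg.pPrimeCore p X))) :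
        Set (X ⧸ Cfsg.pPrimeCore p X)) :=
    (Subgroup.map_mono hAQ).trans (Subgroup.le_normalizer_map _)
  have htop : Subgroup.normalizer ((Cfsg.pCore p (X ⧸ Cfsg.pPrimeCore p X)) :
      Set (X ⧸ Cfsg.pPrimeCore p X)) = ⊤ :=
    Subgroup.normalizer_eq_top_iff.mpr hPn
  have hdisj : ∀ y, y ∈ Cfsg.pCore p (X ⧸ Cfsg.pPrimeCore p X) →
      y ∈ Q.map (QuotientGroup.mk' (Cfsg.pPrimeCore p X)) → y = 1 := fun y hyP hyQ =>
    Cfsg.H5.eq_one_of_coprime_of_mem_pgroup (Cfsg.H5.coprime_orderOf_of_mem hQbcop hyQ) hPp hyP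
  -- a Sylow subgroup containing `A`
  obtain ⟨S, hAS⟩ := hAp.exists_le_sylow
  have hSb : Cfsg.pCore p (X ⧸ Cfsg.pPrimeCore p X) ≤
      (S : Subgroup X).map (QuotientGroup.mk' (Cfsg.pPrimeCore p X)) := by
    have h1 := Cfsg.Agent.Lib.Helper1.pCore_le_sylow
      (S.mapSurjective (QuotientGroup.mk'_surjective (Cfsg.pPrimeCore p X)))
    simpa using h1
  have hSA : (S : Subgroup X).map (QuotientGroup.mk' (Cfsg.pPrimeCore p X)) ≤
      Subgroup.normalizer ((A.map (QuotientGroup.mk' (Cfsg.pPrimeCore p X))) :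
        Set (X ⧸ Cfsg.pPrimeCore p X)) :=
    (Subgroup.map_mono (hnorm S hAS)).trans (Subgroup.le_normalizer_map _)
  have hconj : ∀ x ∈ Cfsg.pCore p (X ⧸ Cfsg.pPrimeCore p X),
      ∀ a ∈ A.map (QuotientGroup.mk' (Cfsg.pPrimeCore p X)),
        x * a * x⁻¹ ∈ A.map (QuotientGroup.mk' (Cfsg.pPrimeCore p X)) := fun x hx a ha =>
    (Subgroup.mem_normalizer_iff.mp (hSA (hSb hx)) a).mp ha
  -- the image of `Q` centralizes `Ā ∩ P̄`
  have hB : ∀ y, y ∈ A.map (QuotientGroup.mk' (Cfsg.pPrimeCore p X)) →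
      y ∈ Cfsg.pCore p (X ⧸ Cfsg.pPrimeCore p X) →
      ∀ g ∈ Q.map (QuotientGroup.mk' (Cfsg.pPrimeCore p X)), g * y = y * g := by
    intro x hxAb hxP g hg
    have h1 : x * g * x⁻¹ ∈ Q.map (QuotientGroup.mk' (Cfsg.pPrimeCore p X)) :=
      (Subgroup.mem_normalizer_iff.mp (hAbQb hxAb) g).mp hg
    have h2 : x * g * x⁻¹ * g⁻¹ ∈ Q.map (QuotientGroup.mk' (Cfsg.pPrimeCore p X)) :=
      mul_mem h1 (inv_mem hg)
    have h3 : x * g * x⁻¹ * g⁻¹ ∈ Cfsg.pCore p (X ⧸ Cfsg.pPrimeCore p X) := by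
      have h4 : x * g * x⁻¹ * g⁻¹ = x * (g * x⁻¹ * g⁻¹) := by group
      rw [h4]
      exact mul_mem hxP (hPn.conj_mem _ (inv_mem hxP) g)
    have h5 := hdisj _ h3 h2
    calc g * x = (x * g * x⁻¹ * g⁻¹)⁻¹ * (x * g) := by group
      _ = x * g := by rw [h5, inv_one, one_mul]
  have hcomm_mem : ∀ x ∈ Cfsg.pCore p (X ⧸ Cfsg.pPrimeCore p X),
      ∀ a ∈ A.map (QuotientGroup.mk' (Cfsg.pPrimeCore p X)),
        ⁅x, a⁆ ∈ A.map (QuotientGroup.mk' (Cfsg.pPrimeCore p X)) ⊓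
          Cfsg.pCore p (X ⧸ Cfsg.pPrimeCore p X) := by
    intro x hx a ha
    refine Subgroup.mem_inf.mpr ⟨?_, ?_⟩
    · rw [commutatorElement_def]; exact mul_mem (hconj x hx a ha) (inv_mem ha)
    · rw [commutatorElement_def]
      have h4 : x * a * x⁻¹ * a⁻¹ = x * (a * x⁻¹ * a⁻¹) := by group
      rw [h4]
      exact mul_mem hx (hPn.conj_mem _ (inv_mem hx) a)
  -- `Ā` and `Q̄` commute
  have hAQcomm : ∀ a ∈ A.map (QuotientGroup.mk' (Cfsg.pPrimeCore p X)),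
      ∀ g ∈ Q.map (QuotientGroup.mk' (Cfsg.pPrimeCore p X)), a * g = g * a := by
    intro a ha g hg
    have hcQ : ⁅a, g⁆ ∈ Q.map (QuotientGroup.mk' (Cfsg.pPrimeCore p X)) := by
      rw [commutatorElement_def]
      exact mul_mem ((Subgroup.mem_normalizer_iff.mp (hAbQb ha) g).mp hg) (inv_mem hg)
    have hcord : (orderOf ⁅a, g⁆).Coprime p := Cfsg.H5.coprime_orderOf_of_mem hQbcop hcQ
    have h1 : ∀ x ∈ Cfsg.pCore p (X ⧸ Cfsg.pPrimeCore p X),
        ⁅x, ⁅a, g⁆⁆ ∈ A.map (QuotientGroup.mk' (Cfsg.pPrimeCore p X)) ⊓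
          Cfsg.pCore p (X ⧸ Cfsg.pPrimeCore p X) := by
      intro x hx
      have hid : ⁅x, ⁅a, g⁆⁆ = ⁅x, a⁆ * (a * (g * ⁅g⁻¹ * x * g, a⁻¹⁆ * g⁻¹) * a⁻¹) := by
        simp only [commutatorElement_def]; group
      have hy : g⁻¹ * x * g ∈ Cfsg.pCore p (X ⧸ Cfsg.pPrimeCore p X) := by
        have := hPn.conj_mem x hx g⁻¹
        simpa using this
      have hd := hcomm_mem _ hy a⁻¹ (inv_mem ha)
      have hgd : g * ⁅g⁻¹ * x * g, a⁻¹⁆ * g⁻¹ = ⁅g⁻¹ * x * g, a⁻¹⁆ := by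
        rw [hB _ hd.1 hd.2 g hg, mul_inv_cancel_right]
      rw [hid, hgd]
      refine mul_mem (hcomm_mem x hx a ha) (Subgroup.mem_inf.mpr ⟨?_, ?_⟩)
      · exact mul_mem (mul_mem ha hd.1) (inv_mem ha)
      · exact hPn.conj_mem _ hd.2 a
    have h2 : ∀ y ∈ A.map (QuotientGroup.mk' (Cfsg.pPrimeCore p X)) ⊓
        Cfsg.pCore p (X ⧸ Cfsg.pPrimeCore p X), ⁅a, g⁆ * y = y * ⁅a, g⁆ :=
      fun y hy => hB y hy.1 hy.2 _ hcQ
    have h3 := Cfsg.Agent.Lib.Helper17.stability_centralizes hPp hcord inf_le_right h1 h2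
    have hcC : ⁅a, g⁆ ∈ Subgroup.centralizer ((Cfsg.pCore p (X ⧸ Cfsg.pPrimeCore p X)) :
        Set (X ⧸ Cfsg.pPrimeCore p X)) := by
      rw [Subgroup.mem_centralizer_iff]
      intro x hx
      exact (h3 x hx).symm
    have hc1 : ⁅a, g⁆ = 1 := hdisj _ (hCP hcC) hcQ
    exact commutatorElement_eq_one_iff_commute.mp hc1
  -- Thompson's `A × B` lemma
  have key : ∀ g ∈ Q.map (QuotientGroup.mk' (Cfsg.pPrimeCore p X)),
      ∀ x ∈ Cfsg.pCore p (X ⧸ Cfsg.pPrimeCore p X), g * x = x * g := by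
    intro g hg
    have hgord := Cfsg.H5.coprime_orderOf_of_mem hQbcop hg
    refine Cfsg.Agent.Lib.Helper17.thompson_AxB hAbp hgord
      (fun b hb => (hAQcomm b hb g hg).symm) _ (Cfsg.pCore p (X ⧸ Cfsg.pPrimeCore p X)) rfl hPp
      (by rw [htop]; exact Subgroup.mem_top _) (by rw [htop]; exact le_top) ?_
    intro x hx hxA
    obtain ⟨k, hk⟩ := hPp ⟨x, hx⟩
    have hk' : x ^ p ^ k = 1 := by simpa using congrArg Subtype.val hk
    obtain ⟨s, hsA, hsk, hsx⟩ := exists_lift_p_element (Cfsg.pPrimeCore p X) hNcop A hAp x k hk'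
      (fun a ha => hxA _ (Subgroup.mem_map_of_mem _ ha))
    have hxAb : x ∈ A.map (QuotientGroup.mk' (Cfsg.pPrimeCore p X)) :=
      ⟨s, hfull s hsA ⟨k, hsk⟩, hsx⟩
    exact hB x hxAb hx g hg
  intro q hq
  have hqb : QuotientGroup.mk' (Cfsg.pPrimeCore p X) q ∈
      Q.map (QuotientGroup.mk' (Cfsg.pPrimeCore p X)) := Subgroup.mem_map_of_mem _ hq
  have hqC : QuotientGroup.mk' (Cfsg.pPrimeCore p X) q ∈
      Subgroup.centralizer ((Cfsg.pCore p (X ⧸ Cfsg.pPrimeCore p X)) :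
        Set (X ⧸ Cfsg.pPrimeCore p X)) := by
    rw [Subgroup.mem_centralizer_iff]
    intro x hx
    exact (key _ hqb x hx).symm
  have h1 := hdisj _ (hCP hqC) hqb
  exact (QuotientGroup.eq_one_iff q).1 h1

/-! ### A hyperplane lemma -/

section Hyperplane

variable {G : Type*} [Group G] [Finite G]

theorem mem_zpowers_of_mem_zpowers_prime {p : ℕ} [hp : Fact p.Prime] {v x : G}
    (hv : orderOf v = p) (hx : x ∈ Subgroup.zpowers v) (hx1 : x ≠ 1) :
    v ∈ Subgroup.zpowers x := by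
  have hle : Subgroup.zpowers x ≤ Subgroup.zpowers v := Subgroup.zpowers_le.mpr hx
  have hox : orderOf x = p := by
    have h1 : orderOf x ∣ p := hv ▸ orderOf_dvd_of_mem_zpowers hx
    rcases (Nat.dvd_prime hp.out).mp h1 with h | h
    · exact absurd (orderOf_eq_one_iff.mp h) hx1
    · exact h
  have heq : Subgroup.zpowers x = Subgroup.zpowers v :=
    Subgroup.eq_of_le_of_card_ge hle (by rw [Nat.card_zpowers, Nat.card_zpowers, hv, hox])
  rw [heq]
  exact Subgroup.mem_zpowers v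

/-- An elementary abelian `p`-group `V` acting coprimely on `R ⊄ D` has a subgroup `B` of index at
most `p` with `C_R(B) ⊄ D`. -/
theorem exists_large_centralizer {p : ℕ} [Fact p.Prime] (V R D : Subgroup G)
    (hVc : ∀ x ∈ V, ∀ y ∈ V, x * y = y * x) (hVp : ∀ x ∈ V, x ^ p = 1)
    (hVR : V ≤ Subgroup.normalizer (R : Set G)) (hcop : (Nat.card V).Coprime (Nat.card R))
    (hRD : ¬ R ≤ D) :
    ∃ B : Subgroup G, B ≤ V ∧ Nat.card V ≤ p * Nat.card B ∧
      ¬ (R ⊓ Subgroup.centralizer (B : Set G) ≤ D) := by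
  classical
  have hp : p.Prime := Fact.out
  let good : Subgroup G → Prop :=
    fun B => B ≤ V ∧ ¬ (R ⊓ Subgroup.centralizer (B : Set G) ≤ D)
  have hbot : good ⊥ := by
    refine ⟨bot_le, fun h => hRD (fun x hx => h (Subgroup.mem_inf.mpr ⟨hx, ?_⟩))⟩
    rw [Subgroup.mem_centralizer_iff]
    intro y hy
    have hy1 : y = 1 := by simpa using hy
    rw [hy1, one_mul, mul_one]
  obtain ⟨B, -, hBmax⟩ := Finite.exists_le_maximal (p := good) hbot
  have hB : good B := hBmax.prop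
  refine ⟨B, hB.1, ?_, hB.2⟩
  by_contra hlt
  push Not at hlt
  have hnormV : ∀ X Y : Subgroup G, X ≤ V → Y ≤ V → X ≤ Subgroup.normalizer (Y : Set G) := by
    intro X Y hX hY
    apply Cfsg.Agent.Lib.Helper1.le_normalizer_of_forall_conj_mem
    intro x hx y hy
    have h1 : x * y * x⁻¹ = y := by rw [hVc x (hX hx) y (hY hy), mul_inv_cancel_right]
    rw [h1]; exact hy
  have hBV : B < V := by
    refine lt_of_le_of_ne hB.1 (fun h => ?_)
    rw [h] at hlt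
    exact absurd hlt (not_lt.mpr (Nat.le_mul_of_pos_left _ hp.pos))
  obtain ⟨v₁, hv₁V, hv₁B⟩ := SetLike.exists_of_lt hBV
  have hv₁1 : v₁ ≠ 1 := fun h => hv₁B (h ▸ B.one_mem)
  have hov₁ : orderOf v₁ = p := orderOf_eq_prime (hVp v₁ hv₁V) hv₁1
  have hZ₁V : Subgroup.zpowers v₁ ≤ V := Subgroup.zpowers_le.mpr hv₁V
  have hZ₁B : Subgroup.zpowers v₁ ⊓ B = ⊥ := by
    rw [Subgroup.eq_bot_iff_forall]
    intro x hx
    by_contra hx1
    exact hv₁B (Subgroup.zpowers_le.mpr hx.2 (mem_zpowers_of_mem_zpowers_prime hov₁ hx.1 hx1))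
  have hc1 : Nat.card (Subgroup.zpowers v₁ ⊔ B : Subgroup G) = p * Nat.card B := by
    have h := Cfsg.H5.card_sup_mul_card_inf (hnormV _ _ hZ₁V hB.1)
    rw [hZ₁B, Subgroup.card_bot, mul_one, Nat.card_zpowers, hov₁] at h
    exact h
  have hB₁V : Subgroup.zpowers v₁ ⊔ B < V := by
    refine lt_of_le_of_ne (sup_le hZ₁V hB.1) (fun h => ?_)
    rw [h] at hc1
    rw [hc1] at hlt
    exact lt_irrefl _ hlt
  obtain ⟨v₂, hv₂V, hv₂B⟩ := SetLike.exists_of_lt hB₁V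
  have hv₂1 : v₂ ≠ 1 := fun h => hv₂B (h ▸ Subgroup.one_mem _)
  have hov₂ : orderOf v₂ = p := orderOf_eq_prime (hVp v₂ hv₂V) hv₂1
  have hZ₂V : Subgroup.zpowers v₂ ≤ V := Subgroup.zpowers_le.mpr hv₂V
  have hZ₂B : Subgroup.zpowers v₂ ⊓ (Subgroup.zpowers v₁ ⊔ B) = ⊥ := by
    rw [Subgroup.eq_bot_iff_forall]
    intro x hx
    by_contra hx1
    exact hv₂B (Subgroup.zpowers_le.mpr hx.2 (mem_zpowers_of_mem_zpowers_prime hov₂ hx.1 hx1))
  have hc2 : Nat.card (Subgroup.zpowers v₂ ⊔ (Subgroup.zpowers v₁ ⊔ B) : Subgroup G) =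
      p * (p * Nat.card B) := by
    have h := Cfsg.H5.card_sup_mul_card_inf (hnormV _ _ hZ₂V (sup_le hZ₁V hB.1))
    rw [hZ₂B, Subgroup.card_bot, mul_one, Nat.card_zpowers, hov₂, hc1] at h
    exact h
  have hWV : Subgroup.zpowers v₂ ⊔ Subgroup.zpowers v₁ ≤ V := sup_le hZ₂V hZ₁V
  have hWle : Nat.card (Subgroup.zpowers v₂ ⊔ Subgroup.zpowers v₁ : Subgroup G) ≤ p * p := by
    have h := Cfsg.H5.card_sup_mul_card_inf (hnormV _ _ hZ₂V hZ₁V)
    rw [Nat.card_zpowers, Nat.card_zpowers, hov₁, hov₂] at h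
    exact Nat.le_of_dvd (Nat.mul_pos hp.pos hp.pos) (Dvd.intro _ h)
  have hWB := Cfsg.H5.card_sup_mul_card_inf (hnormV _ _ hWV hB.1)
  rw [sup_assoc, hc2] at hWB
  have hBpos : 0 < Nat.card B := Nat.card_pos
  have hinfpos : 0 < Nat.card ((Subgroup.zpowers v₂ ⊔ Subgroup.zpowers v₁) ⊓ B : Subgroup G) :=
    Nat.card_pos
  have hinf1 : Nat.card ((Subgroup.zpowers v₂ ⊔ Subgroup.zpowers v₁) ⊓ B : Subgroup G) = 1 := by
    have h1 : p * (p * Nat.card B) *
        Nat.card ((Subgroup.zpowers v₂ ⊔ Subgroup.zpowers v₁) ⊓ B : Subgroup G) ≤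
        p * (p * Nat.card B) * 1 := by
      rw [hWB, mul_one]
      calc Nat.card (Subgroup.zpowers v₂ ⊔ Subgroup.zpowers v₁ : Subgroup G) * Nat.card B
          ≤ p * p * Nat.card B := Nat.mul_le_mul_right _ hWle
        _ = p * (p * Nat.card B) := by ring
    have h3 := Nat.le_of_mul_le_mul_left h1 (Nat.mul_pos hp.pos (Nat.mul_pos hp.pos hBpos))
    exact le_antisymm h3 hinfpos
  have hWBbot : (Subgroup.zpowers v₂ ⊔ Subgroup.zpowers v₁) ⊓ B = ⊥ :=
    Subgroup.card_eq_one.mp hinf1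
  have hWcard : Nat.card (Subgroup.zpowers v₂ ⊔ Subgroup.zpowers v₁ : Subgroup G) = p * p := by
    rw [hinf1, mul_one] at hWB
    have h1 : Nat.card (Subgroup.zpowers v₂ ⊔ Subgroup.zpowers v₁ : Subgroup G) * Nat.card B =
        (p * p) * Nat.card B := by rw [← hWB]; ring
    exact Nat.eq_of_mul_eq_mul_right hBpos h1
  have hWnc : ¬ IsCyclic (Subgroup.zpowers v₂ ⊔ Subgroup.zpowers v₁ : Subgroup G) := by
    intro hcyc
    obtain ⟨g, hg⟩ := IsCyclic.exists_ofOrder_eq_natCard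
      (α := (Subgroup.zpowers v₂ ⊔ Subgroup.zpowers v₁ : Subgroup G))
    have hgp : g ^ p = 1 := Subtype.ext (by simpa using hVp g.1 (hWV g.2))
    have h1 : orderOf g ∣ p := orderOf_dvd_of_pow_eq_one hgp
    rw [hg, hWcard] at h1
    have h2 := Nat.le_of_dvd hp.pos h1
    nlinarith [hp.one_lt]
  have : IsMulCommutative (Subgroup.zpowers v₂ ⊔ Subgroup.zpowers v₁ : Subgroup G) :=
    ⟨⟨fun a b => Subtype.ext (hVc a.1 (hWV a.2) b.1 (hWV b.2))⟩⟩
  have hWR' : Subgroup.zpowers v₂ ⊔ Subgroup.zpowers v₁ ≤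
      Subgroup.normalizer ((R ⊓ Subgroup.centralizer (B : Set G) : Subgroup G) : Set G) := by
    apply Cfsg.Agent.Lib.Helper1.le_normalizer_of_forall_conj_mem
    intro w hw x hx
    refine Subgroup.mem_inf.mpr
      ⟨(Subgroup.mem_normalizer_iff.mp (hVR (hWV hw)) x).mp (Subgroup.mem_inf.mp hx).1, ?_⟩
    rw [Subgroup.mem_centralizer_iff]
    intro b hb
    have hbw : b * w = w * b := hVc b (hB.1 hb) w (hWV hw)
    have hbx : b * x = x * b := Subgroup.mem_centralizer_iff.mp (Subgroup.mem_inf.mp hx).2 b hb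
    have hbw' : b * w⁻¹ = w⁻¹ * b := (Commute.inv_right (show Commute b w from hbw)).eq
    calc b * (w * x * w⁻¹) = (b * w) * x * w⁻¹ := by simp only [mul_assoc]
      _ = (w * b) * x * w⁻¹ := by rw [hbw]
      _ = w * (b * x) * w⁻¹ := by simp only [mul_assoc]
      _ = w * (x * b) * w⁻¹ := by rw [hbx]
      _ = w * x * (b * w⁻¹) := by simp only [mul_assoc]
      _ = w * x * (w⁻¹ * b) := by rw [hbw']
      _ = w * x * w⁻¹ * b := by simp only [mul_assoc]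
  have hgen := Cfsg.Agent.Lib.Helper1.iSup_inf_centralizer_eq_of_not_isCyclic
    (Subgroup.zpowers v₂ ⊔ Subgroup.zpowers v₁) (R ⊓ Subgroup.centralizer (B : Set G)) hWnc hWR'
    (Nat.Coprime.coprime_dvd_left (Subgroup.card_dvd_of_le hWV)
      (Nat.Coprime.coprime_dvd_right (Subgroup.card_dvd_of_le inf_le_left) hcop))
  apply hB.2
  rw [← hgen]
  apply iSup₂_le
  intro a ha
  obtain ⟨haW, ha1⟩ := ha
  have haB : a ∉ B := fun h =>
    ha1 ((Subgroup.eq_bot_iff_forall _).mp hWBbot a (Subgroup.mem_inf.mpr ⟨haW, h⟩))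
  have hnot : ¬ good (B ⊔ Subgroup.zpowers a) := by
    intro hg
    have h1 := hBmax.le_of_ge hg le_sup_left
    exact haB (h1 (Subgroup.mem_sup_right (Subgroup.mem_zpowers a)))
  have h1 : R ⊓ Subgroup.centralizer ((B ⊔ Subgroup.zpowers a : Subgroup G) : Set G) ≤ D := by
    by_contra h
    exact hnot ⟨sup_le hB.1 (Subgroup.zpowers_le.mpr (hWV haW)), h⟩
  refine le_trans ?_ h1
  intro x hx
  obtain ⟨h12, hxa⟩ := Subgroup.mem_inf.mp hx
  obtain ⟨hxR, hxB⟩ := Subgroup.mem_inf.mp h12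
  refine Subgroup.mem_inf.mpr ⟨hxR, ?_⟩
  have hsub : B ⊔ Subgroup.zpowers a ≤ Subgroup.centralizer ({x} : Set G) := by
    refine sup_le ?_ (Subgroup.zpowers_le.mpr ?_)
    · intro b hb
      rw [Subgroup.mem_centralizer_iff]
      intro y hy
      rw [Set.mem_singleton_iff.mp hy]
      exact (Subgroup.mem_centralizer_iff.mp hxB b hb).symm
    · rw [Subgroup.mem_centralizer_iff]
      intro y hy
      rw [Set.mem_singleton_iff.mp hy]
      exact (Subgroup.mem_centralizer_iff.mp hxa a (Set.mem_singleton a)).symm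
  rw [Subgroup.mem_centralizer_iff]
  intro h hh
  exact (Subgroup.mem_centralizer_iff.mp (hsub hh) x (Set.mem_singleton x)).symm

end Hyperplane

/-! ### `p'`-elements of `C_G(E)` -/

section PiCore

variable {G : Type*} [Group G] [Finite G]

theorem mem_piCoreOf_centralizer {p : ℕ} [Fact p.Prime] (E : Subgroup G)
    (hEfull : ∀ x ∈ Subgroup.centralizer (E : Set G), IsPGroup p (Subgroup.zpowers x) → x ∈ E)
    {c : G} (hc : c ∈ Subgroup.centralizer (E : Set G)) (hcord : (orderOf c).Coprime p) :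
    c ∈ Cfsg.piCoreOf (Cfsg.primesNotDvd p) (Subgroup.centralizer (E : Set G)) := by
  classical
  have hp : p.Prime := Fact.out
  obtain ⟨P⟩ : Nonempty (Sylow p (Subgroup.centralizer (E : Set G))) := inferInstance
  have hPE : ∀ x : Subgroup.centralizer (E : Set G), x ∈ P → (x : G) ∈ E := by
    intro x hx
    apply hEfull x.1 x.2
    obtain ⟨k, hk⟩ := P.isPGroup' ⟨x, hx⟩
    have hk' : (x : G) ^ p ^ k = 1 := by
      have h1 := congrArg Subtype.val (congrArg Subtype.val hk)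
      simpa using h1
    have hdvd : orderOf (x : G) ∣ p ^ k := orderOf_dvd_of_pow_eq_one hk'
    obtain ⟨m, -, hm⟩ := (Nat.dvd_prime_pow hp).mp hdvd
    exact IsPGroup.of_card (n := m) (by rw [Nat.card_zpowers, hm])
  have hPcent : Subgroup.normalizer ((P : Subgroup (Subgroup.centralizer (E : Set G))) :
      Set (Subgroup.centralizer (E : Set G))) ≤
      Subgroup.centralizer ((P : Subgroup (Subgroup.centralizer (E : Set G))) :
        Set (Subgroup.centralizer (E : Set G))) := by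
    intro y _
    rw [Subgroup.mem_centralizer_iff]
    intro x hx
    apply Subtype.ext
    exact Subgroup.mem_centralizer_iff.mp y.2 x.1 (hPE x hx)
  have hnd := MonoidHom.not_dvd_card_ker_transferSylow P hPcent
  have hcker : (⟨c, hc⟩ : Subgroup.centralizer (E : Set G)) ∈
      (MonoidHom.transferSylow P hPcent).ker := by
    rw [MonoidHom.mem_ker]
    have h1 : orderOf (MonoidHom.transferSylow P hPcent ⟨c, hc⟩) ∣
        orderOf (⟨c, hc⟩ : Subgroup.centralizer (E : Set G)) := orderOf_map_dvd _ _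
    have h2 : orderOf (⟨c, hc⟩ : Subgroup.centralizer (E : Set G)) = orderOf c :=
      Subgroup.orderOf_mk c hc
    obtain ⟨k, hk⟩ := P.isPGroup' (MonoidHom.transferSylow P hPcent ⟨c, hc⟩)
    have h3 : orderOf (MonoidHom.transferSylow P hPcent ⟨c, hc⟩) ∣ p ^ k :=
      orderOf_dvd_of_pow_eq_one hk
    have h4 : orderOf (MonoidHom.transferSylow P hPcent ⟨c, hc⟩) = 1 :=
      Nat.eq_one_of_dvd_coprimes (Nat.Coprime.pow_right k hcord) (h2 ▸ h1) h3
    exact orderOf_eq_one_iff.mp h4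
  have hle : (MonoidHom.transferSylow P hPcent).ker ≤
      Cfsg.piCore (Cfsg.primesNotDvd p) (Subgroup.centralizer (E : Set G)) := by
    apply le_sSup
    refine ⟨inferInstance, ?_⟩
    intro r hr hrd
    refine ⟨hr, fun hrp => ?_⟩
    have hrp' : r = p := (Nat.prime_dvd_prime_iff_eq hr hp).mp hrp
    exact hnd (hrp' ▸ hrd)
  unfold Cfsg.piCoreOf
  exact Subgroup.mem_map.mpr ⟨⟨c, hc⟩, hle hcker, rfl⟩

end PiCore

/-! ### The transitivity argument -/

section Core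

open Pointwise

variable {G : Type*} [Group G]

/-- `E`-invariant `q`-subgroups. -/
def Inv (E : Subgroup G) (q : ℕ) (Y : Subgroup G) : Prop :=
  IsPGroup q Y ∧ E ≤ Subgroup.normalizer (Y : Set G)

/-- maximal `E`-invariant `q`-subgroups. -/
def MaxInv (E : Subgroup G) (q : ℕ) (Y : Subgroup G) : Prop :=
  Inv E q Y ∧ ∀ R : Subgroup G, Inv E q R → Y ≤ R → R = Y

theorem mem_normalizer_inf {g : G} {X Y : Subgroup G}
    (hX : g ∈ Subgroup.normalizer (X : Set G)) (hY : g ∈ Subgroup.normalizer (Y : Set G)) :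
    g ∈ Subgroup.normalizer ((X ⊓ Y : Subgroup G) : Set G) := by
  rw [← Cfsg.Agent.Lib.Helper1.conj_smul_eq_self_iff_mem_normalizer] at hX hY ⊢
  rw [Subgroup.smul_inf, hX, hY]

theorem mem_normalizer_sup {g : G} {X Y : Subgroup G}
    (hX : g ∈ Subgroup.normalizer (X : Set G)) (hY : g ∈ Subgroup.normalizer (Y : Set G)) :
    g ∈ Subgroup.normalizer ((X ⊔ Y : Subgroup G) : Set G) := by
  rw [← Cfsg.Agent.Lib.Helper1.conj_smul_eq_self_iff_mem_normalizer] at hX hY ⊢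
  rw [Subgroup.smul_sup, hX, hY]

theorem le_normalizer_inf {A X Y : Subgroup G} (hX : A ≤ Subgroup.normalizer (X : Set G))
    (hY : A ≤ Subgroup.normalizer (Y : Set G)) :
    A ≤ Subgroup.normalizer ((X ⊓ Y : Subgroup G) : Set G) :=
  fun _ ha => mem_normalizer_inf (hX ha) (hY ha)

theorem le_normalizer_sup {A X Y : Subgroup G} (hX : A ≤ Subgroup.normalizer (X : Set G))
    (hY : A ≤ Subgroup.normalizer (Y : Set G)) :
    A ≤ Subgroup.normalizer ((X ⊔ Y : Subgroup G) : Set G) :=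
  fun _ ha => mem_normalizer_sup (hX ha) (hY ha)

theorem inv_conj {E : Subgroup G} {q : ℕ} {c : G} (hc : c ∈ Subgroup.centralizer (E : Set G))
    {Y : Subgroup G} (hY : Inv E q Y) : Inv E q (MulAut.conj c • Y) := by
  refine ⟨?_, ?_⟩
  · rw [Cfsg.Agent.Lib.Helper1.conj_smul_eq_map]; exact hY.1.map _
  · intro e he
    rw [← Cfsg.Agent.Lib.Helper1.conj_smul_eq_self_iff_mem_normalizer, smul_smul, ← map_mul]
    have hec : e * c = c * e := Subgroup.mem_centralizer_iff.mp hc e he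
    rw [hec, map_mul, ← smul_smul,
      Cfsg.Agent.Lib.Helper1.conj_smul_eq_self_iff_mem_normalizer.mpr (hY.2 he)]

theorem maxInv_conj {E : Subgroup G} {q : ℕ} {c : G} (hc : c ∈ Subgroup.centralizer (E : Set G))
    {Y : Subgroup G} (hY : MaxInv E q Y) : MaxInv E q (MulAut.conj c • Y) := by
  refine ⟨inv_conj hc hY.1, fun R hR hle => ?_⟩
  have hc' : c⁻¹ ∈ Subgroup.centralizer (E : Set G) := inv_mem hc
  have h1 : Y ≤ MulAut.conj c⁻¹ • R := by
    rw [map_inv]; exact Subgroup.pointwise_smul_subset_iff.mp hle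
  have h2 := hY.2 _ (inv_conj hc' hR) h1
  rw [← h2, map_inv, smul_inv_smul]

theorem exists_normalizer_not_mem [Finite G] {q : ℕ} [Fact q.Prime] {D Q : Subgroup G}
    (hQ : IsPGroup q Q) (hlt : D < Q) :
    ∃ x ∈ Q, x ∈ Subgroup.normalizer (D : Set G) ∧ x ∉ D := by
  have hnil : Group.IsNilpotent ↥Q := hQ.isNilpotent
  have hH : D.subgroupOf Q < ⊤ := by
    rw [lt_top_iff_ne_top]
    intro h
    rw [Subgroup.subgroupOf_eq_top] at h
    exact hlt.not_ge h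
  have h1 := Group.normalizerCondition_of_isNilpotent (G := ↥Q) _ hH
  obtain ⟨x, hxN, hxD⟩ := SetLike.exists_of_lt h1
  refine ⟨x.1, x.2, ?_, fun h => hxD (Subgroup.mem_subgroupOf.mpr h)⟩
  rw [← Subgroup.subgroupOf_normalizer_eq hlt.le] at hxN
  exact Subgroup.mem_subgroupOf.mp hxN

/-- **Thompson transitivity**, combinatorial core. -/
theorem transitivity_core [Finite G] {p q : ℕ} [Fact p.Prime] [Fact q.Prime] (hqp : q ≠ p)
    (E : Subgroup G) (hEp : IsPGroup p E) (hEc : ∀ x ∈ E, ∀ y ∈ E, x * y = y * x)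
    (V : Subgroup G) (hVE : V ≤ E) (hVp : ∀ x ∈ V, x ^ p = 1) (hVcard : p ^ 2 < Nat.card V)
    (K₀ : Subgroup G)
    (hK₀ : ∀ c ∈ Subgroup.centralizer (E : Set G), (orderOf c).Coprime p → c ∈ K₀)
    (KL : ∀ a ∈ E, a ≠ 1 → ∃ K : Subgroup G, (Nat.card K).Coprime p ∧
        E ≤ Subgroup.normalizer (K : Set G) ∧
        ∀ T : Subgroup G, T ≤ Subgroup.centralizer ({a} : Set G) → (Nat.card T).Coprime p →
          E ≤ Subgroup.normalizer (T : Set G) → T ≤ K) :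
    ∀ (d : ℕ) (Q₁ Q₂ : Subgroup G), MaxInv E q Q₁ → MaxInv E q Q₂ →
      Nat.card G - Nat.card (Q₁ ⊓ Q₂ : Subgroup G) = d →
      ∃ k ∈ K₀, Q₂ = MulAut.conj k • Q₁ := by
  classical
  have hp : p.Prime := Fact.out
  have hq : q.Prime := Fact.out
  have hqcop : ∀ Y : Subgroup G, IsPGroup q Y → (Nat.card Y).Coprime p := by
    intro Y hY
    obtain ⟨n, hn⟩ := hY.exists_card_eq
    rw [hn]
    exact Nat.Coprime.pow_left n ((Nat.coprime_primes hq hp).mpr hqp)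
  have hVpg : IsPGroup p V := hEp.to_le hVE
  have hVc : ∀ x ∈ V, ∀ y ∈ V, x * y = y * x := fun x hx y hy => hEc x (hVE hx) y (hVE hy)
  have hnormV : ∀ X Y : Subgroup G, X ≤ V → Y ≤ V → X ≤ Subgroup.normalizer (Y : Set G) := by
    intro X Y hX hY
    apply Cfsg.Agent.Lib.Helper1.le_normalizer_of_forall_conj_mem
    intro x hx y hy
    have h1 : x * y * x⁻¹ = y := by rw [hVc x (hX hx) y (hY hy), mul_inv_cancel_right]
    rw [h1]; exact hy
  intro d
  induction d using Nat.strong_induction_on with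
  | _ d ih =>
    intro Q₁ Q₂ h₁ h₂ hd
    have IH : ∀ Q₁' Q₂' : Subgroup G, MaxInv E q Q₁' → MaxInv E q Q₂' →
        Nat.card (Q₁ ⊓ Q₂ : Subgroup G) < Nat.card (Q₁' ⊓ Q₂' : Subgroup G) →
        ∃ k ∈ K₀, Q₂' = MulAut.conj k • Q₁' := by
      intro Q₁' Q₂' h₁' h₂' hlt
      have hle : Nat.card (Q₁' ⊓ Q₂' : Subgroup G) ≤ Nat.card G := Subgroup.card_le_card_group _
      exact ih _ (by omega) Q₁' Q₂' h₁' h₂' rfl
    by_cases heq : Q₁ = Q₂
    · exact ⟨1, K₀.one_mem, by rw [map_one, one_smul, heq]⟩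
    have hD1 : Q₁ ⊓ Q₂ < Q₁ := by
      refine lt_of_le_of_ne inf_le_left (fun h => heq ?_)
      exact (h₁.2 Q₂ h₂.1 (inf_eq_left.mp h)).symm
    have hD2 : Q₁ ⊓ Q₂ < Q₂ := by
      refine lt_of_le_of_ne inf_le_right (fun h => heq ?_)
      exact h₂.2 Q₁ h₁.1 (inf_eq_right.mp h)
    have hED : E ≤ Subgroup.normalizer ((Q₁ ⊓ Q₂ : Subgroup G) : Set G) :=
      le_normalizer_inf h₁.1.2 h₂.1.2
    have hER₁ := Cfsg.Agent.Lib.Helper1.CoprimeAct.le_normalizer_normalizer_inf hED h₁.1.2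
    have hER₂ := Cfsg.Agent.Lib.Helper1.CoprimeAct.le_normalizer_normalizer_inf hED h₂.1.2
    obtain ⟨x₁, hx₁Q, hx₁N, hx₁D⟩ := exists_normalizer_not_mem h₁.1.1 hD1
    obtain ⟨x₂, hx₂Q, hx₂N, hx₂D⟩ := exists_normalizer_not_mem h₂.1.1 hD2
    have hR₁D : ¬ (Subgroup.normalizer ((Q₁ ⊓ Q₂ : Subgroup G) : Set G) ⊓ Q₁ ≤ Q₁ ⊓ Q₂) :=
      fun h => hx₁D (h (Subgroup.mem_inf.mpr ⟨hx₁N, hx₁Q⟩))
    have hR₂D : ¬ (Subgroup.normalizer ((Q₁ ⊓ Q₂ : Subgroup G) : Set G) ⊓ Q₂ ≤ Q₁ ⊓ Q₂) :=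
      fun h => hx₂D (h (Subgroup.mem_inf.mpr ⟨hx₂N, hx₂Q⟩))
    have hcopV : ∀ Y : Subgroup G, IsPGroup q Y → (Nat.card V).Coprime (Nat.card Y) := by
      intro Y hY
      obtain ⟨n, hn⟩ := hVpg.exists_card_eq
      rw [hn]
      exact Nat.Coprime.pow_left n (hqcop Y hY).symm
    obtain ⟨B₁, hB₁V, hB₁c, hB₁D⟩ := exists_large_centralizer V _ (Q₁ ⊓ Q₂) hVc hVp
      (hVE.trans hER₁) (hcopV _ (h₁.1.1.to_le inf_le_right)) hR₁D
    obtain ⟨B₂, hB₂V, hB₂c, hB₂D⟩ := exists_large_centralizer V _ (Q₁ ⊓ Q₂) hVc hVp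
      (hVE.trans hER₂) (hcopV _ (h₂.1.1.to_le inf_le_right)) hR₂D
    have hBB : B₁ ⊓ B₂ ≠ ⊥ := by
      intro hbot
      have h := Cfsg.H5.card_sup_mul_card_inf (hnormV B₁ B₂ hB₁V hB₂V)
      rw [hbot, Subgroup.card_bot, mul_one] at h
      have hle : Nat.card (B₁ ⊔ B₂ : Subgroup G) ≤ Nat.card V :=
        Subgroup.card_le_of_le (sup_le hB₁V hB₂V)
      have h1 : Nat.card V * Nat.card V ≤ (p * Nat.card B₁) * (p * Nat.card B₂) :=
        Nat.mul_le_mul hB₁c hB₂c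
      have h2 : (p * Nat.card B₁) * (p * Nat.card B₂) = p ^ 2 * (Nat.card B₁ * Nat.card B₂) := by
        ring
      have h3 : p ^ 2 * (Nat.card B₁ * Nat.card B₂) ≤ p ^ 2 * Nat.card V :=
        Nat.mul_le_mul_left _ (h ▸ hle)
      have h4 : p ^ 2 * Nat.card V < Nat.card V * Nat.card V :=
        Nat.mul_lt_mul_of_pos_right hVcard Nat.card_pos
      have h5 : Nat.card V * Nat.card V < Nat.card V * Nat.card V :=
        calc Nat.card V * Nat.card V ≤ (p * Nat.card B₁) * (p * Nat.card B₂) := h1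
          _ = p ^ 2 * (Nat.card B₁ * Nat.card B₂) := h2
          _ ≤ p ^ 2 * Nat.card V := h3
          _ < Nat.card V * Nat.card V := h4
      exact lt_irrefl _ h5
    obtain ⟨a, haBB, ha1⟩ : ∃ a ∈ B₁ ⊓ B₂, a ≠ 1 := by
      by_contra hcon
      push Not at hcon
      exact hBB ((Subgroup.eq_bot_iff_forall _).mpr hcon)
    have haB₁ : a ∈ B₁ := (Subgroup.mem_inf.mp haBB).1
    have haB₂ : a ∈ B₂ := (Subgroup.mem_inf.mp haBB).2
    have haE : a ∈ E := hVE (hB₁V haB₁)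
    have hT₁D : ¬ (Subgroup.normalizer ((Q₁ ⊓ Q₂ : Subgroup G) : Set G) ⊓ Q₁ ⊓
        Subgroup.centralizer ({a} : Set G) ≤ Q₁ ⊓ Q₂) := fun h =>
      hB₁D (le_trans (inf_le_inf_left _
        (Subgroup.centralizer_le (Set.singleton_subset_iff.mpr haB₁))) h)
    have hT₂D : ¬ (Subgroup.normalizer ((Q₁ ⊓ Q₂ : Subgroup G) : Set G) ⊓ Q₂ ⊓
        Subgroup.centralizer ({a} : Set G) ≤ Q₁ ⊓ Q₂) := fun h =>
      hB₂D (le_trans (inf_le_inf_left _
        (Subgroup.centralizer_le (Set.singleton_subset_iff.mpr haB₂))) h)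
    obtain ⟨K, hKcop, hEK, hKT⟩ := KL a haE ha1
    have hEca : E ≤ Subgroup.normalizer ((Subgroup.centralizer ({a} : Set G) : Subgroup G) :
        Set G) := by
      intro e he
      apply Subgroup.le_normalizer
      rw [Subgroup.mem_centralizer_iff]
      intro y hy
      rw [Set.mem_singleton_iff.mp hy]
      exact hEc a haE e he
    have hET₁ := le_normalizer_inf hER₁ hEca
    have hET₂ := le_normalizer_inf hER₂ hEca
    have hT₁K := hKT _ inf_le_right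
      (hqcop _ (h₁.1.1.to_le (inf_le_left.trans inf_le_right))) hET₁
    have hT₂K := hKT _ inf_le_right
      (hqcop _ (h₂.1.1.to_le (inf_le_left.trans inf_le_right))) hET₂
    -- the `p'`-group `M`
    have hENN : E ≤ Subgroup.normalizer
        ((Subgroup.normalizer ((Q₁ ⊓ Q₂ : Subgroup G) : Set G) : Subgroup G) : Set G) :=
      hED.trans Subgroup.le_normalizer
    have hEM : E ≤ Subgroup.normalizer
        (((K ⊓ Subgroup.normalizer ((Q₁ ⊓ Q₂ : Subgroup G) : Set G)) ⊔ (Q₁ ⊓ Q₂) :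
          Subgroup G) : Set G) :=
      le_normalizer_sup (le_normalizer_inf hEK hENN) hED
    have hMcop : (Nat.card ((K ⊓ Subgroup.normalizer ((Q₁ ⊓ Q₂ : Subgroup G) : Set G)) ⊔
        (Q₁ ⊓ Q₂) : Subgroup G)).Coprime p := by
      have h := Cfsg.H5.card_sup_mul_card_inf
        (H := K ⊓ Subgroup.normalizer ((Q₁ ⊓ Q₂ : Subgroup G) : Set G)) (N := Q₁ ⊓ Q₂)
        inf_le_right
      refine Nat.Coprime.coprime_dvd_left (Dvd.intro _ h) (Nat.Coprime.mul_left ?_ ?_)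
      · exact Nat.Coprime.coprime_dvd_left (Subgroup.card_dvd_of_le inf_le_left) hKcop
      · exact hqcop _ (h₁.1.1.to_le inf_le_left)
    have hcopEM : Cfsg.Agent.Lib.Helper1.CoprimeAct E
        ((K ⊓ Subgroup.normalizer ((Q₁ ⊓ Q₂ : Subgroup G) : Set G)) ⊔ (Q₁ ⊓ Q₂)) := by
      refine ⟨hEM, ?_, Or.inl (Group.isSolvable_of_comm
        (fun a b : E => Subtype.ext (hEc a.1 a.2 b.1 b.2)))⟩
      obtain ⟨n, hn⟩ := hEp.exists_card_eq
      rw [hn]
      exact Nat.Coprime.pow_left n hMcop.symm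
    -- `U_i = T_i ⊔ D`
    have hU₁M : Subgroup.normalizer ((Q₁ ⊓ Q₂ : Subgroup G) : Set G) ⊓ Q₁ ⊓
        Subgroup.centralizer ({a} : Set G) ⊔ (Q₁ ⊓ Q₂) ≤
        (K ⊓ Subgroup.normalizer ((Q₁ ⊓ Q₂ : Subgroup G) : Set G)) ⊔ (Q₁ ⊓ Q₂) :=
      sup_le (le_sup_of_le_left (le_inf hT₁K (inf_le_left.trans inf_le_left))) le_sup_right
    have hU₂M : Subgroup.normalizer ((Q₁ ⊓ Q₂ : Subgroup G) : Set G) ⊓ Q₂ ⊓
        Subgroup.centralizer ({a} : Set G) ⊔ (Q₁ ⊓ Q₂) ≤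
        (K ⊓ Subgroup.normalizer ((Q₁ ⊓ Q₂ : Subgroup G) : Set G)) ⊔ (Q₁ ⊓ Q₂) :=
      sup_le (le_sup_of_le_left (le_inf hT₂K (inf_le_left.trans inf_le_left))) le_sup_right
    have hU₁Q : Subgroup.normalizer ((Q₁ ⊓ Q₂ : Subgroup G) : Set G) ⊓ Q₁ ⊓
        Subgroup.centralizer ({a} : Set G) ⊔ (Q₁ ⊓ Q₂) ≤ Q₁ :=
      sup_le (inf_le_left.trans inf_le_right) inf_le_left
    have hU₂Q : Subgroup.normalizer ((Q₁ ⊓ Q₂ : Subgroup G) : Set G) ⊓ Q₂ ⊓
        Subgroup.centralizer ({a} : Set G) ⊔ (Q₁ ⊓ Q₂) ≤ Q₂ :=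
      sup_le (inf_le_left.trans inf_le_right) inf_le_right
    have hEU₁ := le_normalizer_sup hET₁ hED
    have hEU₂ := le_normalizer_sup hET₂ hED
    obtain ⟨S₁, hUS₁, hES₁⟩ := hcopEM.exists_invariant_sylSet_ge _ _ rfl hU₁M
      (h₁.1.1.to_le hU₁Q) hEU₁
    obtain ⟨S₂, hUS₂, hES₂⟩ := hcopEM.exists_invariant_sylSet_ge _ _ rfl hU₂M
      (h₂.1.1.to_le hU₂Q) hEU₂
    obtain ⟨c, hcMC, hcS⟩ := hcopEM.exists_conj_sylSet S₁ S₂ hES₁ hES₂
    have hcC : c ∈ Subgroup.centralizer (E : Set G) := (Subgroup.mem_inf.mp hcMC).2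
    have hcK₀ : c ∈ K₀ :=
      hK₀ c hcC (Cfsg.H5.coprime_orderOf_of_mem hMcop (Subgroup.mem_inf.mp hcMC).1)
    -- maximal extensions
    have hInvS₁ : Inv E q S₁.1 := ⟨IsPGroup.of_card S₁.2.2, hES₁⟩
    have hInvS₂ : Inv E q S₂.1 := ⟨IsPGroup.of_card S₂.2.2, hES₂⟩
    obtain ⟨Q₁s, hS₁Q, hQ₁max⟩ := Finite.exists_le_maximal (p := Inv E q) hInvS₁
    obtain ⟨Q₂s, hS₂Q, hQ₂max⟩ := Finite.exists_le_maximal (p := Inv E q) hInvS₂
    have hQ₁s : MaxInv E q Q₁s :=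
      ⟨hQ₁max.prop, fun R hR hle => le_antisymm (hQ₁max.le_of_ge hR hle) hle⟩
    have hQ₂s : MaxInv E q Q₂s :=
      ⟨hQ₂max.prop, fun R hR hle => le_antisymm (hQ₂max.le_of_ge hR hle) hle⟩
    -- `D < U_i`
    have hDU₁ : Q₁ ⊓ Q₂ < Subgroup.normalizer ((Q₁ ⊓ Q₂ : Subgroup G) : Set G) ⊓ Q₁ ⊓
        Subgroup.centralizer ({a} : Set G) ⊔ (Q₁ ⊓ Q₂) :=
      lt_of_le_of_ne le_sup_right (fun h => hT₁D (le_sup_left.trans h.ge))
    have hDU₂ : Q₁ ⊓ Q₂ < Subgroup.normalizer ((Q₁ ⊓ Q₂ : Subgroup G) : Set G) ⊓ Q₂ ⊓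
        Subgroup.centralizer ({a} : Set G) ⊔ (Q₁ ⊓ Q₂) :=
      lt_of_le_of_ne le_sup_right (fun h => hT₂D (le_sup_left.trans h.ge))
    have hlt₁ := Cfsg.Agent.Lib.Helper1.card_lt_of_lt hDU₁
    have hlt₂ := Cfsg.Agent.Lib.Helper1.card_lt_of_lt hDU₂
    obtain ⟨k₁, hk₁K, hk₁⟩ := IH Q₁ Q₁s h₁ hQ₁s
      (lt_of_lt_of_le hlt₁ (Subgroup.card_le_of_le (le_inf hU₁Q (hUS₁.trans hS₁Q))))
    obtain ⟨k₂, hk₂K, hk₂⟩ := IH Q₂ Q₂s h₂ hQ₂s
      (lt_of_lt_of_le hlt₂ (Subgroup.card_le_of_le (le_inf hU₂Q (hUS₂.trans hS₂Q))))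
    have hS₂c : S₂.1 ≤ MulAut.conj c • Q₁s := by
      rw [← hcS]
      exact Subgroup.pointwise_smul_le_pointwise_smul_iff.mpr hS₁Q
    obtain ⟨k₃, hk₃K, hk₃⟩ := IH (MulAut.conj c • Q₁s) Q₂s (maxInv_conj hcC hQ₁s) hQ₂s
      (lt_of_lt_of_le hlt₂ (Subgroup.card_le_of_le (le_inf (hUS₂.trans hS₂c) (hUS₂.trans hS₂Q))))
    refine ⟨k₂⁻¹ * (k₃ * (c * k₁)), K₀.mul_mem (K₀.inv_mem hk₂K)
      (K₀.mul_mem hk₃K (K₀.mul_mem hcK₀ hk₁K)), ?_⟩
    rw [map_mul, map_mul, map_mul, mul_smul, mul_smul, mul_smul, ← hk₁, ← hk₃, map_inv, hk₂,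
      inv_smul_smul]

end Core

end Cfsg.Agent.Lib.Lead.Trans
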