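import Mathlib
import Cfsg.Prelude
import Cfsg.Agent.Lib.Lead.Transitivity
import Cfsg.Agent.Lib.Helper12.PiCore

/-!
# Transitivity theorems in a minimal simple group of odd order (Bender--Glauberman, section 7)

* `conj_of_inf_ne_bot`, `conj_of_common`: abstract form of the transitivity argument.
* `bg72`, `bg73`, `bg74`: the three transitivity theorems, for `MaxInv` and pointwise `smul`.
-/

set_option autoImplicit false
open Cfsg

namespace Cfsg.Agent.Lib.Lead.BGTrans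

open Pointwise
open Cfsg.Agent.Lib.Lead.Trans
open Cfsg.Agent.Lib.Helper12 (IsPiNat)

variable {G : Type*} [Group G]

section PiCoreOf

theorem piCoreOf_le (π : Set ℕ) (X : Subgroup G) : piCoreOf π X ≤ X := by
  unfold piCoreOf
  exact Subgroup.map_subtype_le _

theorem piCoreOf_conj_mem (π : Set ℕ) (X : Subgroup G) {n w : G} (hn : n ∈ X)
    (hw : w ∈ piCoreOf π X) : n * w * n⁻¹ ∈ piCoreOf π X := by
  obtain ⟨w', hw', rfl⟩ := Subgroup.mem_map.mp hw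
  have h := (piCore_normal π X).conj_mem w' hw' ⟨n, hn⟩
  exact Subgroup.mem_map.mpr ⟨_, h, rfl⟩

theorem le_normalizer_piCoreOf (π : Set ℕ) (X : Subgroup G) :
    X ≤ Subgroup.normalizer (piCoreOf π X : Set G) := by
  apply Cfsg.Agent.Lib.Helper1.le_normalizer_of_forall_conj_mem
  intro x hx w hw
  exact piCoreOf_conj_mem π X hx hw

theorem piCoreOf_isPiNat [Finite G] (π : Set ℕ) (X : Subgroup G) :
    IsPiNat π (Nat.card (piCoreOf π X)) := by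
  unfold piCoreOf
  exact (Cfsg.Agent.Lib.Helper12.piCore_isPiNat π).of_dvd (Subgroup.card_map_dvd _ _)

theorem le_piCoreOf [Finite G] {π : Set ℕ} {X W : Subgroup G} (hWX : W ≤ X)
    (hnorm : ∀ x ∈ X, ∀ w ∈ W, x * w * x⁻¹ ∈ W) (hpi : IsPiNat π (Nat.card W)) :
    W ≤ piCoreOf π X := by
  have hN : (W.subgroupOf X).Normal := by
    refine ⟨fun n hn g => ?_⟩
    rw [Subgroup.mem_subgroupOf] at hn ⊢
    exact hnorm g.1 g.2 n.1 hn
  have hcard : Nat.card (W.subgroupOf X) = Nat.card W :=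
    Nat.card_congr (Subgroup.subgroupOfEquivOfLe hWX).toEquiv
  have hle := Cfsg.Agent.Lib.Helper12.le_piCore hN (by rw [hcard]; exact hpi)
  intro w hw
  have h1 : (⟨w, hWX hw⟩ : X) ∈ W.subgroupOf X := by
    rw [Subgroup.mem_subgroupOf]; exact hw
  exact Subgroup.mem_map.mpr ⟨⟨w, hWX hw⟩, hle h1, rfl⟩

theorem coprime_of_isPiNat_primesNotDvd {m n : ℕ} (h : IsPiNat (primesNotDvd m) n) :
    n.Coprime m := by
  apply Nat.coprime_of_dvd
  intro k hk hkn hkm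
  exact (h k hk hkn).2 hkm

theorem isPiNat_of_pgroup [Finite G] {q m : ℕ} (hq : q.Prime) (hqm : ¬ q ∣ m) {T : Subgroup G}
    (hT : IsPGroup q T) : IsPiNat (primesNotDvd m) (Nat.card T) := by
  intro r hr hrd
  have : Fact q.Prime := ⟨hq⟩
  obtain ⟨n, hn⟩ := hT.exists_card_eq
  rw [hn] at hrd
  have hrq : r = q := (Nat.prime_dvd_prime_iff_eq hr hq).mp (hr.dvd_of_dvd_pow hrd)
  subst hrq
  exact ⟨hr, hqm⟩

end PiCoreOf

section Bridge

theorem inv_iff_mem [Finite G] {q : ℕ} [Fact q.Prime] (E Y : Subgroup G) :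
    Y ∈ Cfsg.invSubgroups ⊤ E {q} ↔ Inv E q Y := by
  have hq : q.Prime := Fact.out
  constructor
  · rintro ⟨-, hpi, hE⟩
    refine ⟨?_, hE⟩
    have h1 := Nat.eq_prime_pow_of_unique_prime_dvd (n := Nat.card Y) (p := q) Nat.card_pos.ne'
      (fun {d} hd hdvd => Set.mem_singleton_iff.mp (hpi d hd hdvd))
    exact IsPGroup.of_card h1
  · rintro ⟨hY, hE⟩
    refine ⟨le_top, ?_, hE⟩
    intro r hr hrd
    obtain ⟨n, hn⟩ := hY.exists_card_eq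
    rw [hn] at hrd
    exact Set.mem_singleton_iff.mpr ((Nat.prime_dvd_prime_iff_eq hr hq).mp (hr.dvd_of_dvd_pow hrd))

theorem maxInv_of_mem [Finite G] {q : ℕ} [Fact q.Prime] {E Y : Subgroup G}
    (h : Y ∈ Cfsg.maxInvSubgroups ⊤ E {q}) : MaxInv E q Y :=
  ⟨(inv_iff_mem E Y).mp h.1, fun R hR hle => h.2 R ((inv_iff_mem E R).mpr hR) hle⟩

theorem mem_of_maxInv [Finite G] {q : ℕ} [Fact q.Prime] {E Y : Subgroup G}
    (h : MaxInv E q Y) : Y ∈ Cfsg.maxInvSubgroups ⊤ E {q} :=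
  ⟨(inv_iff_mem E Y).mpr h.1, fun R hR hle => h.2 R ((inv_iff_mem E R).mp hR) hle⟩

end Bridge

section Abstract

variable [Finite G]

theorem ext_step {q : ℕ} [Fact q.Prime] {A K₀ Y : Subgroup G}
    (hcop : Cfsg.Agent.Lib.Helper1.CoprimeAct A Y)
    (hYK : Y ⊓ Subgroup.centralizer (A : Set G) ≤ K₀)
    {R₁ R₂ : Subgroup G} (hR₁ : Inv A q R₁) (hR₂ : Inv A q R₂) (h₁ : R₁ ≤ Y) (h₂ : R₂ ≤ Y) :
    ∃ (Q₁' Q₂' : Subgroup G) (c : G), MaxInv A q Q₁' ∧ MaxInv A q Q₂' ∧ c ∈ K₀ ∧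
      c ∈ Subgroup.centralizer (A : Set G) ∧ R₁ ≤ Q₁' ∧ R₂ ≤ Q₂' ∧
      R₂ ≤ MulAut.conj c • Q₁' := by
  obtain ⟨S₁, hRS₁, hAS₁⟩ := hcop.exists_invariant_sylSet_ge _ _ rfl h₁ hR₁.1 hR₁.2
  obtain ⟨S₂, hRS₂, hAS₂⟩ := hcop.exists_invariant_sylSet_ge _ _ rfl h₂ hR₂.1 hR₂.2
  obtain ⟨c, hcYC, hcS⟩ := hcop.exists_conj_sylSet S₁ S₂ hAS₁ hAS₂
  have hInvS₁ : Inv A q S₁.1 := ⟨IsPGroup.of_card S₁.2.2, hAS₁⟩
  have hInvS₂ : Inv A q S₂.1 := ⟨IsPGroup.of_card S₂.2.2, hAS₂⟩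
  obtain ⟨Q₁s, hS₁Q, hQ₁max⟩ := Finite.exists_le_maximal (p := Inv A q) hInvS₁
  obtain ⟨Q₂s, hS₂Q, hQ₂max⟩ := Finite.exists_le_maximal (p := Inv A q) hInvS₂
  refine ⟨Q₁s, Q₂s, c, ⟨hQ₁max.prop, fun R hR hle => le_antisymm (hQ₁max.le_of_ge hR hle) hle⟩,
    ⟨hQ₂max.prop, fun R hR hle => le_antisymm (hQ₂max.le_of_ge hR hle) hle⟩,
    hYK hcYC, (Subgroup.mem_inf.mp hcYC).2, hRS₁.trans hS₁Q, hRS₂.trans hS₂Q, ?_⟩
  have h3 : S₂.1 ≤ MulAut.conj c • Q₁s := by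
    rw [← hcS]
    exact Subgroup.pointwise_smul_le_pointwise_smul_iff.mpr hS₁Q
  exact hRS₂.trans h3

/-- Local hypothesis of the abstract transitivity argument: for a nontrivial `A`-invariant
`q`-subgroup `D` there is an `A`-invariant subgroup `Y` of order prime to `#A` containing every
`A`-invariant `q`-subgroup of `N(D)`, with `C_Y(A) ≤ K₀`. -/
def LocalHyp (A K₀ : Subgroup G) (q : ℕ) : Prop :=
  ∀ D : Subgroup G, D ≠ ⊥ → Inv A q D → ∃ Y : Subgroup G,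
    Cfsg.Agent.Lib.Helper1.CoprimeAct A Y ∧ Y ⊓ Subgroup.centralizer (A : Set G) ≤ K₀ ∧
    ∀ T : Subgroup G, T ≤ Subgroup.normalizer (D : Set G) → Inv A q T → T ≤ Y

theorem conj_of_inf_ne_bot {q : ℕ} [Fact q.Prime] (A K₀ : Subgroup G)
    (hloc : LocalHyp A K₀ q) :
    ∀ (d : ℕ) (Q₁ Q₂ : Subgroup G), MaxInv A q Q₁ → MaxInv A q Q₂ → Q₁ ⊓ Q₂ ≠ ⊥ →
      Nat.card G - Nat.card (Q₁ ⊓ Q₂ : Subgroup G) = d →
      ∃ k ∈ K₀, Q₂ = MulAut.conj k • Q₁ := by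
  intro d
  induction d using Nat.strong_induction_on with
  | _ d ih =>
    intro Q₁ Q₂ h₁ h₂ hne hd
    have IH : ∀ Q₁' Q₂' : Subgroup G, MaxInv A q Q₁' → MaxInv A q Q₂' →
        Nat.card (Q₁ ⊓ Q₂ : Subgroup G) < Nat.card (Q₁' ⊓ Q₂' : Subgroup G) →
        ∃ k ∈ K₀, Q₂' = MulAut.conj k • Q₁' := by
      intro Q₁' Q₂' h₁' h₂' hlt
      have hle : Nat.card (Q₁' ⊓ Q₂' : Subgroup G) ≤ Nat.card G := Subgroup.card_le_card_group _
      have hne' : Q₁' ⊓ Q₂' ≠ ⊥ := by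
        intro hbot
        rw [hbot, Subgroup.card_bot] at hlt
        have hpos : 0 < Nat.card (Q₁ ⊓ Q₂ : Subgroup G) := Nat.card_pos
        omega
      exact ih _ (by omega) Q₁' Q₂' h₁' h₂' hne' rfl
    by_cases heq : Q₁ = Q₂
    · exact ⟨1, K₀.one_mem, by rw [map_one, one_smul, heq]⟩
    have hD1 : Q₁ ⊓ Q₂ < Q₁ := by
      refine lt_of_le_of_ne inf_le_left (fun h => heq ?_)
      exact (h₁.2 Q₂ h₂.1 (inf_eq_left.mp h)).symm
    have hD2 : Q₁ ⊓ Q₂ < Q₂ := by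
      refine lt_of_le_of_ne inf_le_right (fun h => heq ?_)
      exact h₂.2 Q₁ h₁.1 (inf_eq_right.mp h)
    have hAD : A ≤ Subgroup.normalizer ((Q₁ ⊓ Q₂ : Subgroup G) : Set G) :=
      le_normalizer_inf h₁.1.2 h₂.1.2
    have hInvD : Inv A q (Q₁ ⊓ Q₂) := ⟨h₁.1.1.to_le inf_le_left, hAD⟩
    obtain ⟨Y, hcop, hYK, hY⟩ := hloc _ hne hInvD
    have hAR₁ := Cfsg.Agent.Lib.Helper1.CoprimeAct.le_normalizer_normalizer_inf hAD h₁.1.2
    have hAR₂ := Cfsg.Agent.Lib.Helper1.CoprimeAct.le_normalizer_normalizer_inf hAD h₂.1.2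
    have hInvR₁ : Inv A q (Subgroup.normalizer ((Q₁ ⊓ Q₂ : Subgroup G) : Set G) ⊓ Q₁) :=
      ⟨h₁.1.1.to_le inf_le_right, hAR₁⟩
    have hInvR₂ : Inv A q (Subgroup.normalizer ((Q₁ ⊓ Q₂ : Subgroup G) : Set G) ⊓ Q₂) :=
      ⟨h₂.1.1.to_le inf_le_right, hAR₂⟩
    obtain ⟨Q₁s, Q₂s, c, hQ₁s, hQ₂s, hcK, hcC, hR₁Q, hR₂Q, hR₂c⟩ :=
      ext_step hcop hYK hInvR₁ hInvR₂ (hY _ inf_le_left hInvR₁) (hY _ inf_le_left hInvR₂)
    obtain ⟨x₁, hx₁Q, hx₁N, hx₁D⟩ := exists_normalizer_not_mem h₁.1.1 hD1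
    obtain ⟨x₂, hx₂Q, hx₂N, hx₂D⟩ := exists_normalizer_not_mem h₂.1.1 hD2
    have hDR₁ : Q₁ ⊓ Q₂ < Subgroup.normalizer ((Q₁ ⊓ Q₂ : Subgroup G) : Set G) ⊓ Q₁ := by
      refine lt_of_le_of_ne (le_inf Subgroup.le_normalizer inf_le_left) (fun h => hx₁D ?_)
      exact h.ge (Subgroup.mem_inf.mpr ⟨hx₁N, hx₁Q⟩)
    have hDR₂ : Q₁ ⊓ Q₂ < Subgroup.normalizer ((Q₁ ⊓ Q₂ : Subgroup G) : Set G) ⊓ Q₂ := by
      refine lt_of_le_of_ne (le_inf Subgroup.le_normalizer inf_le_right) (fun h => hx₂D ?_)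
      exact h.ge (Subgroup.mem_inf.mpr ⟨hx₂N, hx₂Q⟩)
    have hlt₁ := Cfsg.Agent.Lib.Helper1.card_lt_of_lt hDR₁
    have hlt₂ := Cfsg.Agent.Lib.Helper1.card_lt_of_lt hDR₂
    obtain ⟨k₁, hk₁K, hk₁⟩ := IH Q₁ Q₁s h₁ hQ₁s
      (lt_of_lt_of_le hlt₁ (Subgroup.card_le_of_le (le_inf inf_le_right hR₁Q)))
    obtain ⟨k₂, hk₂K, hk₂⟩ := IH Q₂ Q₂s h₂ hQ₂s
      (lt_of_lt_of_le hlt₂ (Subgroup.card_le_of_le (le_inf inf_le_right hR₂Q)))
    obtain ⟨k₃, hk₃K, hk₃⟩ := IH (MulAut.conj c • Q₁s) Q₂s (maxInv_conj hcC hQ₁s) hQ₂s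
      (lt_of_lt_of_le hlt₂ (Subgroup.card_le_of_le (le_inf hR₂c hR₂Q)))
    refine ⟨k₂⁻¹ * (k₃ * (c * k₁)), K₀.mul_mem (K₀.inv_mem hk₂K)
      (K₀.mul_mem hk₃K (K₀.mul_mem hcK hk₁K)), ?_⟩
    rw [map_mul, map_mul, map_mul, mul_smul, mul_smul, mul_smul, ← hk₁, ← hk₃, map_inv, hk₂,
      inv_smul_smul]

theorem conj_of_common {q : ℕ} [Fact q.Prime] (A K₀ : Subgroup G) (hloc : LocalHyp A K₀ q)
    {Q₁ Q₂ : Subgroup G} (h₁ : MaxInv A q Q₁) (h₂ : MaxInv A q Q₂)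
    (H Y : Subgroup G) (hAH : A ≤ Subgroup.normalizer (H : Set G))
    (hcop : Cfsg.Agent.Lib.Helper1.CoprimeAct A Y)
    (hYK : Y ⊓ Subgroup.centralizer (A : Set G) ≤ K₀)
    (hY : ∀ T : Subgroup G, T ≤ H → Inv A q T → T ≤ Y)
    (hH₁ : H ⊓ Q₁ ≠ ⊥) (hH₂ : H ⊓ Q₂ ≠ ⊥) : ∃ k ∈ K₀, Q₂ = MulAut.conj k • Q₁ := by
  have hInvR₁ : Inv A q (H ⊓ Q₁) := ⟨h₁.1.1.to_le inf_le_right, le_normalizer_inf hAH h₁.1.2⟩
  have hInvR₂ : Inv A q (H ⊓ Q₂) := ⟨h₂.1.1.to_le inf_le_right, le_normalizer_inf hAH h₂.1.2⟩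
  obtain ⟨Q₁s, Q₂s, c, hQ₁s, hQ₂s, hcK, hcC, hR₁Q, hR₂Q, hR₂c⟩ :=
    ext_step hcop hYK hInvR₁ hInvR₂ (hY _ inf_le_left hInvR₁) (hY _ inf_le_left hInvR₂)
  have key : ∀ Q Q' : Subgroup G, MaxInv A q Q → MaxInv A q Q' → ∀ R : Subgroup G, R ≠ ⊥ →
      R ≤ Q → R ≤ Q' → ∃ k ∈ K₀, Q' = MulAut.conj k • Q := by
    intro Q Q' hQ hQ' R hR hRQ hRQ'
    refine conj_of_inf_ne_bot A K₀ hloc _ Q Q' hQ hQ' ?_ rfl
    intro hbot
    exact hR (le_bot_iff.mp (hbot ▸ le_inf hRQ hRQ'))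
  obtain ⟨k₁, hk₁K, hk₁⟩ := key Q₁ Q₁s h₁ hQ₁s _ hH₁ inf_le_right hR₁Q
  obtain ⟨k₂, hk₂K, hk₂⟩ := key Q₂ Q₂s h₂ hQ₂s _ hH₂ inf_le_right hR₂Q
  obtain ⟨k₃, hk₃K, hk₃⟩ := key (MulAut.conj c • Q₁s) Q₂s (maxInv_conj hcC hQ₁s) hQ₂s _ hH₂
    hR₂c hR₂Q
  refine ⟨k₂⁻¹ * (k₃ * (c * k₁)), K₀.mul_mem (K₀.inv_mem hk₂K)
    (K₀.mul_mem hk₃K (K₀.mul_mem hcK hk₁K)), ?_⟩
  rw [map_mul, map_mul, map_mul, mul_smul, mul_smul, mul_smul, ← hk₁, ← hk₃, map_inv, hk₂,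
    inv_smul_smul]

theorem inf_ne_bot_of_large {p : ℕ} (V B₁ B₂ : Subgroup G)
    (hVc : ∀ x ∈ V, ∀ y ∈ V, x * y = y * x) (hB₁V : B₁ ≤ V) (hB₂V : B₂ ≤ V)
    (hB₁c : Nat.card V ≤ p * Nat.card B₁) (hB₂c : Nat.card V ≤ p * Nat.card B₂)
    (hVcard : p ^ 2 < Nat.card V) : B₁ ⊓ B₂ ≠ ⊥ := by
  intro hbot
  have hnorm : B₁ ≤ Subgroup.normalizer (B₂ : Set G) := by
    apply Cfsg.Agent.Lib.Helper1.le_normalizer_of_forall_conj_mem
    intro x hx y hy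
    have h1 : x * y * x⁻¹ = y := by rw [hVc x (hB₁V hx) y (hB₂V hy), mul_inv_cancel_right]
    rw [h1]; exact hy
  have h := Cfsg.H5.card_sup_mul_card_inf hnorm
  rw [hbot, Subgroup.card_bot, mul_one] at h
  have hle : Nat.card (B₁ ⊔ B₂ : Subgroup G) ≤ Nat.card V :=
    Subgroup.card_le_of_le (sup_le hB₁V hB₂V)
  have h1 : Nat.card V * Nat.card V ≤ (p * Nat.card B₁) * (p * Nat.card B₂) :=
    Nat.mul_le_mul hB₁c hB₂c
  have h2 : (p * Nat.card B₁) * (p * Nat.card B₂) = p ^ 2 * (Nat.card B₁ * Nat.card B₂) := by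
    ring
  have h3 : p ^ 2 * (Nat.card B₁ * Nat.card B₂) ≤ p ^ 2 * Nat.card V :=
    Nat.mul_le_mul_left _ (h ▸ hle)
  have h4 : p ^ 2 * Nat.card V < Nat.card V * Nat.card V :=
    Nat.mul_lt_mul_of_pos_right hVcard Nat.card_pos
  have h5 : Nat.card V * Nat.card V < Nat.card V * Nat.card V :=
    calc Nat.card V * Nat.card V ≤ (p * Nat.card B₁) * (p * Nat.card B₂) := h1
      _ = p ^ 2 * (Nat.card B₁ * Nat.card B₂) := h2
      _ ≤ p ^ 2 * Nat.card V := h3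
      _ < Nat.card V * Nat.card V := h4
  exact lt_irrefl _ h5

end Abstract

section MinSimple

variable [Finite G]

theorem center_eq_bot (hG : IsMinimalSimple G) : Subgroup.center G = ⊥ := by
  have := hG.1
  rcases (inferInstance : (Subgroup.center G).Normal).eq_bot_or_eq_top with h | h
  · exact h
  · exfalso
    apply hG.2.1
    refine ⟨⟨fun a b => ?_⟩⟩
    have ha : a ∈ Subgroup.center G := h ▸ Subgroup.mem_top a
    exact (Subgroup.mem_center_iff.mp ha b).symm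

theorem normalizer_ne_top (hG : IsMinimalSimple G) {D : Subgroup G} (hD : D ≠ ⊥) (hD' : D ≠ ⊤) :
    Subgroup.normalizer (D : Set G) ≠ ⊤ := by
  intro h
  have := hG.1
  have hn : D.Normal := Subgroup.normalizer_eq_top_iff.mp h
  exact (hn.eq_bot_or_eq_top).elim hD hD'

theorem pgroup_ne_top (hG : IsMinimalSimple G) {q : ℕ} [Fact q.Prime] {D : Subgroup G}
    (hD : IsPGroup q D) : D ≠ ⊤ := by
  rintro rfl
  have hGq : IsPGroup q G := by
    intro g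
    obtain ⟨k, hk⟩ := hD ⟨g, Subgroup.mem_top g⟩
    exact ⟨k, by simpa [Subtype.ext_iff] using hk⟩
  have := hG.1
  have hnt : Nontrivial (Subgroup.center G) := hGq.center_nontrivial
  exact (Subgroup.nontrivial_iff_ne_bot _).mp hnt (center_eq_bot hG)

theorem centralizer_singleton_ne_top (hG : IsMinimalSimple G) {a : G} (ha : a ≠ 1) :
    Subgroup.centralizer ({a} : Set G) ≠ ⊤ := by
  intro h
  apply ha
  have hac : a ∈ Subgroup.center G := by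
    rw [Subgroup.mem_center_iff]
    intro g
    have hg : g ∈ Subgroup.centralizer ({a} : Set G) := h ▸ Subgroup.mem_top g
    exact (Subgroup.mem_centralizer_iff.mp hg a rfl).symm
  rw [center_eq_bot hG] at hac
  exact Subgroup.mem_bot.mp hac

/-- `C_{O_{π'}(X)}(A) ≤ O_{π'}(C_G(A))` under the transitivity hypothesis. -/
theorem centralizer_inf_piCoreOf_le (hG : IsMinimalSimple G) {A : Subgroup G}
    (hA : TransitivityHypothesis A) {X : Subgroup G} (hX : X ≠ ⊤) (hAX : A ≤ X) :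
    piCoreOf (primesNotDvd (Nat.card A)) X ⊓ Subgroup.centralizer (A : Set G) ≤
      piCoreOf (primesNotDvd (Nat.card A)) (Subgroup.centralizer (A : Set G)) := by
  have hNtop : Subgroup.normalizer (A : Set G) ≠ ⊤ := normalizer_ne_top hG hA.1 hA.2.1
  have hAN : A ≤ Subgroup.normalizer (A : Set G) := Subgroup.le_normalizer
  have hT : piCoreOf (primesNotDvd (Nat.card A)) X ⊓ Subgroup.centralizer (A : Set G) ∈
      invSubgroups (Subgroup.normalizer (A : Set G)) A (primesNotDvd (Nat.card A)) := by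
    refine ⟨inf_le_right.trans (Subgroup.centralizer_le_normalizer _), ?_, ?_⟩
    · exact (piCoreOf_isPiNat _ X).of_dvd (Subgroup.card_dvd_of_le inf_le_left)
    · apply Cfsg.Agent.Lib.Helper1.le_normalizer_of_forall_conj_mem
      intro a ha t ht
      have h1 : a * t = t * a := Subgroup.mem_centralizer_iff.mp (Subgroup.mem_inf.mp ht).2 a ha
      have h2 : a * t * a⁻¹ = t := by rw [h1, mul_inv_cancel_right]
      rw [h2]; exact ht
  have hTW : piCoreOf (primesNotDvd (Nat.card A)) X ⊓ Subgroup.centralizer (A : Set G) ≤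
      piCoreOf (primesNotDvd (Nat.card A)) (Subgroup.normalizer (A : Set G)) := by
    rw [← hA.2.2 _ hNtop hAN]
    exact le_sSup hT
  have hWA : piCoreOf (primesNotDvd (Nat.card A)) (Subgroup.normalizer (A : Set G)) ⊓ A = ⊥ :=
    disjoint_iff.mp (Subgroup.disjoint_of_coprime_natCard
      (coprime_of_isPiNat_primesNotDvd (piCoreOf_isPiNat _ _)))
  have hWC : piCoreOf (primesNotDvd (Nat.card A)) (Subgroup.normalizer (A : Set G)) ≤
      Subgroup.centralizer (A : Set G) := by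
    intro w hw
    rw [Subgroup.mem_centralizer_iff]
    intro a ha
    have hwN : w ∈ Subgroup.normalizer (A : Set G) := piCoreOf_le _ _ hw
    have h1 : w * a * w⁻¹ ∈ A := (Subgroup.mem_normalizer_iff.mp hwN a).mp ha
    have h2 : a * w⁻¹ * a⁻¹ ∈ piCoreOf (primesNotDvd (Nat.card A))
        (Subgroup.normalizer (A : Set G)) := piCoreOf_conj_mem _ _ (hAN ha) (inv_mem hw)
    have h3 : w * a * w⁻¹ * a⁻¹ ∈
        piCoreOf (primesNotDvd (Nat.card A)) (Subgroup.normalizer (A : Set G)) ⊓ A := by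
      refine Subgroup.mem_inf.mpr ⟨?_, A.mul_mem h1 (A.inv_mem ha)⟩
      have h4 : w * a * w⁻¹ * a⁻¹ = w * (a * w⁻¹ * a⁻¹) := by group
      rw [h4]; exact Subgroup.mul_mem _ hw h2
    rw [hWA, Subgroup.mem_bot] at h3
    have h5 := congrArg (· * (a * w)) h3
    simp only [mul_assoc, inv_mul_cancel_left, inv_mul_cancel, mul_one, one_mul] at h5
    exact h5.symm
  have hWK : piCoreOf (primesNotDvd (Nat.card A)) (Subgroup.normalizer (A : Set G)) ≤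
      piCoreOf (primesNotDvd (Nat.card A)) (Subgroup.centralizer (A : Set G)) :=
    le_piCoreOf hWC (fun x hx w hw =>
      piCoreOf_conj_mem _ _ (Subgroup.centralizer_le_normalizer _ hx) hw) (piCoreOf_isPiNat _ _)
  exact hTW.trans hWK

/-- Bender--Glauberman 7.2 (abstract `MaxInv` form). -/
theorem bg72 (hG : IsMinSimpleOddOrder G) (A : Subgroup G) (hA : TransitivityHypothesis A)
    (q : ℕ) [Fact q.Prime] (hqA : ¬ q ∣ Nat.card A) {Q₁ Q₂ : Subgroup G}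
    (h₁ : MaxInv A q Q₁) (h₂ : MaxInv A q Q₂)
    (H : Subgroup G) (hH : H ≠ ⊤) (hAH : A ≤ H) (hH₁ : H ⊓ Q₁ ≠ ⊥) (hH₂ : H ⊓ Q₂ ≠ ⊥) :
    ∃ k ∈ piCoreOf (primesNotDvd (Nat.card A)) (Subgroup.centralizer (A : Set G)),
      Q₂ = MulAut.conj k • Q₁ := by
  have hq : q.Prime := Fact.out
  have hms := hG.2
  have hAsolv : Group.IsSolvable A := hms.2.2 A hA.2.1
  have hle : ∀ X : Subgroup G, X ≠ ⊤ → A ≤ X → ∀ T : Subgroup G, T ≤ X → Inv A q T →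
      T ≤ piCoreOf (primesNotDvd (Nat.card A)) X := by
    intro X hX hAX T hTX hT
    rw [← hA.2.2 X hX hAX]
    exact le_sSup ⟨hTX, isPiNat_of_pgroup hq hqA hT.1, hT.2⟩
  have hY : ∀ X : Subgroup G, X ≠ ⊤ → A ≤ X →
      Cfsg.Agent.Lib.Helper1.CoprimeAct A (piCoreOf (primesNotDvd (Nat.card A)) X) ∧
      piCoreOf (primesNotDvd (Nat.card A)) X ⊓ Subgroup.centralizer (A : Set G) ≤
        piCoreOf (primesNotDvd (Nat.card A)) (Subgroup.centralizer (A : Set G)) :=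
    fun X hX hAX => ⟨⟨hAX.trans (le_normalizer_piCoreOf _ X),
      (coprime_of_isPiNat_primesNotDvd (piCoreOf_isPiNat _ X)).symm, Or.inl hAsolv⟩,
      centralizer_inf_piCoreOf_le hms hA hX hAX⟩
  have hloc : LocalHyp A
      (piCoreOf (primesNotDvd (Nat.card A)) (Subgroup.centralizer (A : Set G))) q := by
    intro D hD hInvD
    have hN : Subgroup.normalizer (D : Set G) ≠ ⊤ :=
      normalizer_ne_top hms hD (pgroup_ne_top hms hInvD.1)
    exact ⟨_, (hY _ hN hInvD.2).1, (hY _ hN hInvD.2).2,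
      fun T hT hInvT => hle _ hN hInvD.2 T hT hInvT⟩
  exact conj_of_common A _ hloc h₁ h₂ H _ (hAH.trans Subgroup.le_normalizer) (hY H hH hAH).1
    (hY H hH hAH).2 (fun T hT hInvT => hle H hH hAH T hT hInvT) hH₁ hH₂

theorem exists_elemAb_of_not_rankLE {X : Type*} [Group X] {k : ℕ} (h : ¬ RankLE k X) :
    ∃ p : ℕ, p.Prime ∧ ∃ V : Subgroup X, (∀ a ∈ V, a ^ p = 1) ∧ p ^ k < Nat.card V := by
  unfold RankLE PRankLE at h
  push Not at h
  obtain ⟨p, hp, V, -, hVp, hVc⟩ := h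
  exact ⟨p, hp, V, hVp, hVc⟩

/-- A central elementary abelian subgroup of `A` of order more than `p ^ k`, inside `G`. -/
theorem exists_central_elemAb {A : Subgroup G} {k : ℕ}
    (h : ¬ RankLE k ↥(A ⊓ Subgroup.centralizer (A : Set G))) :
    ∃ p : ℕ, p.Prime ∧ ∃ V : Subgroup G, V ≤ A ⊓ Subgroup.centralizer (A : Set G) ∧
      (∀ a ∈ V, a ^ p = 1) ∧ (∀ x ∈ V, ∀ y ∈ V, x * y = y * x) ∧ p ^ k < Nat.card V := by
  obtain ⟨p, hp, V₀, hV₀p, hV₀c⟩ := exists_elemAb_of_not_rankLE h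
  have hVZ : V₀.map (A ⊓ Subgroup.centralizer (A : Set G)).subtype ≤
      A ⊓ Subgroup.centralizer (A : Set G) := Subgroup.map_subtype_le V₀
  refine ⟨p, hp, V₀.map (A ⊓ Subgroup.centralizer (A : Set G)).subtype, hVZ, ?_, ?_, ?_⟩
  · rintro _ ⟨x, hx, rfl⟩
    have h1 := congrArg Subtype.val (hV₀p x hx)
    simpa using h1
  · intro x hx y hy
    exact Subgroup.mem_centralizer_iff.mp (Subgroup.mem_inf.mp (hVZ hy)).2 x
      (Subgroup.mem_inf.mp (hVZ hx)).1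
  · rw [Subgroup.card_subtype]; exact hV₀c

theorem coprime_card_of_pgroups {p q : ℕ} [Fact p.Prime] [Fact q.Prime] (hqp : q ≠ p)
    {V Y : Subgroup G} (hV : IsPGroup p V) (hY : IsPGroup q Y) :
    (Nat.card V).Coprime (Nat.card Y) := by
  obtain ⟨n, hn⟩ := hV.exists_card_eq
  obtain ⟨m, hm⟩ := hY.exists_card_eq
  rw [hn, hm]
  exact Nat.Coprime.pow n m ((Nat.coprime_primes Fact.out Fact.out).mpr hqp.symm)

theorem isPGroup_of_pow_eq_one {p : ℕ} {V : Subgroup G} (hVp : ∀ a ∈ V, a ^ p = 1) :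
    IsPGroup p V := by
  intro x
  refine ⟨1, ?_⟩
  rw [pow_one]
  exact Subtype.ext (by simpa using hVp x.1 x.2)

theorem le_centralizer_singleton {A : Subgroup G} {a : G}
    (ha : a ∈ Subgroup.centralizer (A : Set G)) : A ≤ Subgroup.centralizer ({a} : Set G) := by
  intro x hx
  rw [Subgroup.mem_centralizer_iff]
  intro y hy
  rw [Set.mem_singleton_iff.mp hy]
  exact (Subgroup.mem_centralizer_iff.mp ha x hx).symm

theorem centralizer_inf_ne_bot {a : G} {B Q : Subgroup G} (haB : a ∈ B)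
    (h : ¬ (Q ⊓ Subgroup.centralizer (B : Set G) ≤ ⊥)) :
    Subgroup.centralizer ({a} : Set G) ⊓ Q ≠ ⊥ := by
  intro hbot
  apply h
  rw [← hbot]
  exact le_inf (inf_le_right.trans
    (Subgroup.centralizer_le (Set.singleton_subset_iff.mpr haB))) inf_le_left

/-- Bender--Glauberman 7.3 (`MaxInv` form). -/
theorem bg73 (hG : IsMinSimpleOddOrder G) (A : Subgroup G) (hA : TransitivityHypothesis A)
    (hZ : ¬ RankLE 2 ↥(A ⊓ Subgroup.centralizer (A : Set G)))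
    (q : ℕ) [Fact q.Prime] (hqA : ¬ q ∣ Nat.card A) {Q₁ Q₂ : Subgroup G}
    (h₁ : MaxInv A q Q₁) (h₂ : MaxInv A q Q₂) :
    ∃ k ∈ piCoreOf (primesNotDvd (Nat.card A)) (Subgroup.centralizer (A : Set G)),
      Q₂ = MulAut.conj k • Q₁ := by
  obtain ⟨p, hp, V, hVZ, hVp, hVc, hVcard⟩ := exists_central_elemAb hZ
  haveI : Fact p.Prime := ⟨hp⟩
  have hVpg : IsPGroup p V := isPGroup_of_pow_eq_one hVp
  have hpA : p ∣ Nat.card A := by
    obtain ⟨n, hn⟩ := hVpg.exists_card_eq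
    have hn0 : n ≠ 0 := by
      rintro rfl
      rw [hn, pow_zero] at hVcard
      have := Nat.one_le_pow 2 p hp.pos
      omega
    have h1 : p ∣ Nat.card V := hn ▸ dvd_pow_self p hn0
    exact h1.trans (Subgroup.card_dvd_of_le (hVZ.trans inf_le_left))
  have hqp : q ≠ p := fun h => hqA (h ▸ hpA)
  by_cases hQ₁ : Q₁ = ⊥
  · have hQ₂ : Q₂ = Q₁ := h₁.2 Q₂ h₂.1 (hQ₁ ▸ bot_le)
    exact ⟨1, Subgroup.one_mem _, by rw [map_one, one_smul, hQ₂]⟩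
  by_cases hQ₂ : Q₂ = ⊥
  · exact absurd ((h₂.2 Q₁ h₁.1 (hQ₂ ▸ bot_le)).trans hQ₂) hQ₁
  obtain ⟨B₁, hB₁V, hB₁c, hB₁D⟩ := exists_large_centralizer V Q₁ ⊥ hVc hVp
    ((hVZ.trans inf_le_left).trans h₁.1.2) (coprime_card_of_pgroups hqp hVpg h₁.1.1)
    (fun h => hQ₁ (le_bot_iff.mp h))
  obtain ⟨B₂, hB₂V, hB₂c, hB₂D⟩ := exists_large_centralizer V Q₂ ⊥ hVc hVp
    ((hVZ.trans inf_le_left).trans h₂.1.2) (coprime_card_of_pgroups hqp hVpg h₂.1.1)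
    (fun h => hQ₂ (le_bot_iff.mp h))
  have hBB := inf_ne_bot_of_large V B₁ B₂ hVc hB₁V hB₂V hB₁c hB₂c hVcard
  obtain ⟨a, haBB, ha1⟩ : ∃ a ∈ B₁ ⊓ B₂, a ≠ 1 := by
    by_contra hcon
    push Not at hcon
    exact hBB ((Subgroup.eq_bot_iff_forall _).mpr hcon)
  have haB₁ : a ∈ B₁ := (Subgroup.mem_inf.mp haBB).1
  have haB₂ : a ∈ B₂ := (Subgroup.mem_inf.mp haBB).2
  have haZ : a ∈ Subgroup.centralizer (A : Set G) := (Subgroup.mem_inf.mp (hVZ (hB₁V haB₁))).2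
  exact bg72 hG A hA q hqA h₁ h₂ _ (centralizer_singleton_ne_top hG.2 ha1)
    (le_centralizer_singleton haZ) (centralizer_inf_ne_bot haB₁ hB₁D)
    (centralizer_inf_ne_bot haB₂ hB₂D)

/-- Bender--Glauberman 7.4 (`MaxInv` form). -/
theorem bg74 (hG : IsMinSimpleOddOrder G) (A : Subgroup G) (hA : TransitivityHypothesis A)
    (hZ : ¬ RankLE 1 ↥(A ⊓ Subgroup.centralizer (A : Set G)))
    (q : ℕ) [Fact q.Prime] (hqA : ¬ q ∣ Nat.card A)
    (hqC : q ∣ Nat.card (Subgroup.centralizer (A : Set G))) {Q₁ Q₂ : Subgroup G}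
    (h₁ : MaxInv A q Q₁) (h₂ : MaxInv A q Q₂) :
    ∃ k ∈ piCoreOf (primesNotDvd (Nat.card A)) (Subgroup.centralizer (A : Set G)),
      Q₂ = MulAut.conj k • Q₁ := by
  have hq : q.Prime := Fact.out
  obtain ⟨p, hp, V, hVZ, hVp, hVc, hVcard⟩ := exists_central_elemAb hZ
  haveI : Fact p.Prime := ⟨hp⟩
  have hVpg : IsPGroup p V := isPGroup_of_pow_eq_one hVp
  have hpA : p ∣ Nat.card A := by
    obtain ⟨n, hn⟩ := hVpg.exists_card_eq
    have hn0 : n ≠ 0 := by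
      rintro rfl
      rw [hn, pow_zero, pow_one] at hVcard
      have := hp.one_lt
      omega
    have h1 : p ∣ Nat.card V := hn ▸ dvd_pow_self p hn0
    exact h1.trans (Subgroup.card_dvd_of_le (hVZ.trans inf_le_left))
  have hqp : q ≠ p := fun h => hqA (h ▸ hpA)
  -- a nontrivial `q`-subgroup centralized by `A`
  obtain ⟨x₀, hx₀⟩ := exists_prime_orderOf_dvd_card' q hqC
  have hx₀o : orderOf (x₀ : G) = q := by rw [Subgroup.orderOf_coe]; exact hx₀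
  have hx₀1 : (x₀ : G) ≠ 1 := by
    intro h
    rw [h, orderOf_one] at hx₀o
    exact hq.one_lt.ne hx₀o
  have hQ₀C : Subgroup.zpowers (x₀ : G) ≤ Subgroup.centralizer (A : Set G) :=
    Subgroup.zpowers_le.mpr x₀.2
  have hQ₀ne : Subgroup.zpowers (x₀ : G) ≠ ⊥ := by
    intro h
    exact hx₀1 (Subgroup.zpowers_eq_bot.mp h)
  have hInvQ₀ : Inv A q (Subgroup.zpowers (x₀ : G)) := by
    refine ⟨IsPGroup.of_card (n := 1) (by rw [Nat.card_zpowers, hx₀o, pow_one]), ?_⟩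
    apply Cfsg.Agent.Lib.Helper1.le_normalizer_of_forall_conj_mem
    intro a ha t ht
    have h1 : a * t = t * a := Subgroup.mem_centralizer_iff.mp (hQ₀C ht) a ha
    have h2 : a * t * a⁻¹ = t := by rw [h1, mul_inv_cancel_right]
    rw [h2]; exact ht
  obtain ⟨Qs, hQ₀Qs, hQsmax⟩ := Finite.exists_le_maximal (p := Inv A q) hInvQ₀
  have hQs : MaxInv A q Qs :=
    ⟨hQsmax.prop, fun R hR hle => le_antisymm (hQsmax.le_of_ge hR hle) hle⟩
  have key : ∀ Q : Subgroup G, MaxInv A q Q →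
      ∃ k ∈ piCoreOf (primesNotDvd (Nat.card A)) (Subgroup.centralizer (A : Set G)),
        Qs = MulAut.conj k • Q := by
    intro Q hQ
    have hQne : Q ≠ ⊥ := by
      intro hbot
      have h3 : Qs = Q := hQ.2 Qs hQs.1 (hbot ▸ bot_le)
      exact hQ₀ne (le_bot_iff.mp (hbot ▸ h3 ▸ hQ₀Qs))
    obtain ⟨B, hBV, hBc, hBD⟩ := exists_large_centralizer V Q ⊥ hVc hVp
      ((hVZ.trans inf_le_left).trans hQ.1.2) (coprime_card_of_pgroups hqp hVpg hQ.1.1)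
      (fun h => hQne (le_bot_iff.mp h))
    obtain ⟨a, haB, ha1⟩ : ∃ a ∈ B, a ≠ 1 := by
      by_contra hcon
      push Not at hcon
      have hB : B = ⊥ := (Subgroup.eq_bot_iff_forall _).mpr hcon
      rw [hB, Subgroup.card_bot, mul_one] at hBc
      rw [pow_one] at hVcard
      omega
    have haZ : a ∈ Subgroup.centralizer (A : Set G) := (Subgroup.mem_inf.mp (hVZ (hBV haB))).2
    have haA : a ∈ A := (Subgroup.mem_inf.mp (hVZ (hBV haB))).1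
    refine bg72 hG A hA q hqA hQ hQs _ (centralizer_singleton_ne_top hG.2 ha1)
      (le_centralizer_singleton haZ) (centralizer_inf_ne_bot haB hBD) ?_
    intro hbot
    apply hQ₀ne
    rw [← le_bot_iff, ← hbot]
    refine le_inf (hQ₀C.trans ?_) hQ₀Qs
    exact Subgroup.centralizer_le (Set.singleton_subset_iff.mpr haA)
  obtain ⟨k₁, hk₁K, hk₁⟩ := key Q₁ h₁
  obtain ⟨k₂, hk₂K, hk₂⟩ := key Q₂ h₂
  refine ⟨k₂⁻¹ * k₁, Subgroup.mul_mem _ (Subgroup.inv_mem _ hk₂K) hk₁K, ?_⟩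
  rw [map_mul, mul_smul, ← hk₁, map_inv, hk₂, inv_smul_smul]

end MinSimple

end Cfsg.Agent.Lib.Lead.BGTrans
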