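import Mathlib
import Cfsg.Prelude
import Cfsg.Agent.Lib.Lead.BGTrans
import Cfsg.Agent.Lib.Helper1.CoprimeSylow

/-!
# Bender--Glauberman 7.5: transitivity passes up subnormal chains

* `glauberman_subgroups`: Glauberman's lemma for a conjugation-invariant set of subgroups.
* `step`, `chain`: the normal step and the induction along a subnormal chain.
* `bg75`: the theorem (in `MaxInv`/`smul` form).
-/

set_option autoImplicit false
open Cfsg

namespace Cfsg.Agent.Lib.Lead.BGTrans5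

open Pointwise
open scoped commutatorElement
open Cfsg.Agent.Lib.Lead.Trans
open Cfsg.Agent.Lib.Lead.BGTrans
open Cfsg.Agent.Lib.Helper12 (IsPiNat)
open Cfsg.Agent.Lib.Helper1 (CoprimeAct conj_smul_eq_self_iff_mem_normalizer mem_conj_smul)

variable {G : Type*} [Group G]

section Conj

theorem map_subtype_top' (H : Subgroup G) : (⊤ : Subgroup H).map H.subtype = H := by
  ext x
  constructor
  · rintro ⟨y, -, rfl⟩; exact y.2
  · intro hx; exact ⟨⟨x, hx⟩, Subgroup.mem_top _, rfl⟩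

theorem inv_conj_of_normalizer {B : Subgroup G} {q : ℕ} {g : G}
    (hg : g ∈ Subgroup.normalizer (B : Set G)) {Y : Subgroup G} (hY : Inv B q Y) :
    Inv B q (MulAut.conj g • Y) := by
  refine ⟨?_, ?_⟩
  · rw [Cfsg.Agent.Lib.Helper1.conj_smul_eq_map]; exact hY.1.map _
  · intro b hb
    rw [← conj_smul_eq_self_iff_mem_normalizer, smul_smul, ← map_mul]
    have hb' : g⁻¹ * b * g ∈ B := by
      have := (Subgroup.mem_normalizer_iff.mp (inv_mem hg) b).mp hb
      simpa using this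
    have h1 : b * g = g * (g⁻¹ * b * g) := by group
    rw [h1, map_mul, ← smul_smul, conj_smul_eq_self_iff_mem_normalizer.mpr (hY.2 hb')]

theorem maxInv_conj_of_normalizer {B : Subgroup G} {q : ℕ} {g : G}
    (hg : g ∈ Subgroup.normalizer (B : Set G)) {Y : Subgroup G} (hY : MaxInv B q Y) :
    MaxInv B q (MulAut.conj g • Y) := by
  refine ⟨inv_conj_of_normalizer hg hY.1, fun R hR hle => ?_⟩
  have hg' : g⁻¹ ∈ Subgroup.normalizer (B : Set G) := inv_mem hg
  have h1 : Y ≤ MulAut.conj g⁻¹ • R := by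
    rw [map_inv]; exact Subgroup.pointwise_smul_subset_iff.mp hle
  have h2 := hY.2 _ (inv_conj_of_normalizer hg' hR) h1
  rw [← h2, map_inv, smul_inv_smul]

theorem normalizer_le_normalizer_centralizer (B : Subgroup G) :
    Subgroup.normalizer (B : Set G) ≤
      Subgroup.normalizer ((Subgroup.centralizer (B : Set G) : Subgroup G) : Set G) := by
  apply Cfsg.Agent.Lib.Helper1.le_normalizer_of_forall_conj_mem
  intro g hgN c hc
  rw [Subgroup.mem_centralizer_iff]
  intro a ha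
  have h1 : g⁻¹ * a * g ∈ B := by
    have := (Subgroup.mem_normalizer_iff.mp (inv_mem hgN) a).mp ha
    simpa using this
  have h2 : (g⁻¹ * a * g) * c = c * (g⁻¹ * a * g) := Subgroup.mem_centralizer_iff.mp hc _ h1
  calc a * (g * c * g⁻¹) = g * ((g⁻¹ * a * g) * c) * g⁻¹ := by group
    _ = g * (c * (g⁻¹ * a * g)) * g⁻¹ := by rw [h2]
    _ = g * c * g⁻¹ * a := by group

theorem normalizer_le_normalizer_piCoreOf [Finite G] (π : Set ℕ) (X : Subgroup G) :
    Subgroup.normalizer (X : Set G) ≤ Subgroup.normalizer (piCoreOf π X : Set G) := by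
  apply Cfsg.Agent.Lib.Helper1.le_normalizer_of_forall_conj_mem
  intro g hg w hw
  have hle : MulAut.conj g • piCoreOf π X ≤ piCoreOf π X := by
    apply le_piCoreOf
    · exact Cfsg.Agent.Lib.Helper1.conj_smul_le_of_mem_normalizer hg (piCoreOf_le π X)
    · intro x hx v hv
      rw [mem_conj_smul] at hv ⊢
      have hx' : g⁻¹ * x * g ∈ X := by
        have := (Subgroup.mem_normalizer_iff.mp (inv_mem hg) x).mp hx
        simpa using this
      have h1 := piCoreOf_conj_mem π X hx' hv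
      have h2 : g⁻¹ * (x * v * x⁻¹) * g =
          (g⁻¹ * x * g) * (g⁻¹ * v * g) * (g⁻¹ * x * g)⁻¹ := by group
      rw [h2]; exact h1
    · rw [Cfsg.Agent.Lib.Helper1.card_conj_smul]; exact piCoreOf_isPiNat π X
  apply hle
  rw [mem_conj_smul]
  have h3 : g⁻¹ * (g * w * g⁻¹) * g = w := by group
  rw [h3]; exact hw

theorem piCoreOf_centralizer_inf_le [Finite G] (π : Set ℕ) {B C : Subgroup G} (hBC : B ≤ C) :
    piCoreOf π (Subgroup.centralizer (B : Set G)) ⊓ Subgroup.centralizer (C : Set G) ≤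
      piCoreOf π (Subgroup.centralizer (C : Set G)) := by
  apply le_piCoreOf inf_le_right
  · intro x hx w hw
    have hxB : x ∈ Subgroup.centralizer (B : Set G) :=
      Subgroup.centralizer_le (SetLike.coe_subset_coe.mpr hBC) hx
    exact Subgroup.mem_inf.mpr ⟨piCoreOf_conj_mem π _ hxB (Subgroup.mem_inf.mp hw).1,
      Subgroup.mul_mem _ (Subgroup.mul_mem _ hx (Subgroup.mem_inf.mp hw).2)
        (Subgroup.inv_mem _ hx)⟩
  · exact (piCoreOf_isPiNat π _).of_dvd (Subgroup.card_dvd_of_le inf_le_left)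

end Conj

section Glauberman

/-- elements preserving a set of subgroups under conjugation -/
def setStab (S : Set (Subgroup G)) : Subgroup G where
  carrier := {l | ∀ Q : Subgroup G, MulAut.conj l • Q ∈ S ↔ Q ∈ S}
  one_mem' := by
    intro Q
    rw [map_one, one_smul]
  mul_mem' := by
    intro a b ha hb Q
    rw [map_mul, mul_smul]
    exact (ha _).trans (hb Q)
  inv_mem' := by
    intro a ha Q
    exact (ha (MulAut.conj a⁻¹ • Q)).symm.trans
      (by rw [← mul_smul, ← map_mul, mul_inv_cancel, map_one, one_smul])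

theorem mem_setStab {S : Set (Subgroup G)} {l : G} :
    l ∈ setStab S ↔ ∀ Q : Subgroup G, MulAut.conj l • Q ∈ S ↔ Q ∈ S := Iff.rfl

theorem le_setStab {S : Set (Subgroup G)} {A : Subgroup G}
    (hSA : ∀ g ∈ A, ∀ Q ∈ S, MulAut.conj g • Q ∈ S) : A ≤ setStab S := by
  intro a ha
  rw [mem_setStab]
  intro Q
  constructor
  · intro h
    have := hSA a⁻¹ (inv_mem ha) _ h
    rwa [← mul_smul, ← map_mul, inv_mul_cancel, map_one, one_smul] at this
  · exact hSA a ha Q

/-- A subgroup preserving `S` acts on `S` by conjugation. -/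
@[reducible] def setAction (S : Set (Subgroup G)) (L : Subgroup G) (hL : L ≤ setStab S) :
    MulAction L S where
  smul l Q := ⟨MulAut.conj (l : G) • Q.1, ((mem_setStab.mp (hL l.2)) Q.1).mpr Q.2⟩
  one_smul Q := by
    apply Subtype.ext
    change MulAut.conj ((1 : L) : G) • Q.1 = Q.1
    rw [Subgroup.coe_one, map_one, one_smul]
  mul_smul l₁ l₂ Q := by
    apply Subtype.ext
    change MulAut.conj ((l₁ * l₂ : L) : G) • Q.1 =
      MulAut.conj (l₁ : G) • MulAut.conj (l₂ : G) • Q.1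
    rw [Subgroup.coe_mul, map_mul, mul_smul]

variable [Finite G]

/-- Glauberman's lemma for a conjugation-invariant set of subgroups. -/
theorem glauberman_subgroups {A K : Subgroup G} (h : CoprimeAct A K) (S : Set (Subgroup G))
    (hSne : S.Nonempty)
    (hSA : ∀ g ∈ A, ∀ Q ∈ S, MulAut.conj g • Q ∈ S)
    (hSK : ∀ g ∈ K, ∀ Q ∈ S, MulAut.conj g • Q ∈ S)
    (htr : ∀ Q₁ ∈ S, ∀ Q₂ ∈ S, ∃ k ∈ K, Q₂ = MulAut.conj k • Q₁) :
    (∃ Q ∈ S, A ≤ Subgroup.normalizer (Q : Set G)) ∧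
    ∀ Q₁ ∈ S, ∀ Q₂ ∈ S, A ≤ Subgroup.normalizer (Q₁ : Set G) →
      A ≤ Subgroup.normalizer (Q₂ : Set G) →
      ∃ c ∈ K ⊓ Subgroup.centralizer (A : Set G), Q₂ = MulAut.conj c • Q₁ := by
  have hΓ : A ⊔ K ≤ setStab S := sup_le (le_setStab hSA) (le_setStab hSK)
  let _ := setAction S (A ⊔ K) hΓ
  have := h.normal
  have : Nonempty S := hSne.to_subtype
  have htrans : MulAction.IsPretransitive (K.subgroupOf (A ⊔ K)) S := by
    constructor
    intro P Q
    obtain ⟨k, hk, hkPQ⟩ := htr P.1 P.2 Q.1 Q.2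
    refine ⟨⟨⟨k, Subgroup.mem_sup_right hk⟩, hk⟩, ?_⟩
    exact Subtype.ext hkPQ.symm
  have hfix : ∀ R : S, A ≤ Subgroup.normalizer (R.1 : Set G) →
      ∀ a ∈ A.subgroupOf (A ⊔ K), a • R = R := by
    intro R hR a ha
    apply Subtype.ext
    exact conj_smul_eq_self_iff_mem_normalizer.mpr (hR ha)
  constructor
  · obtain ⟨x, hx⟩ := Cfsg.Agent.Lib.Helper1.glauberman_exists (K.subgroupOf (A ⊔ K))
      (A.subgroupOf (A ⊔ K)) h.complement h.hall h.solvable htrans
    refine ⟨x.1, x.2, ?_⟩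
    intro a ha
    have h1 := hx ⟨a, Subgroup.mem_sup_left ha⟩ ha
    have h2 : MulAut.conj a • x.1 = x.1 := congrArg Subtype.val h1
    exact conj_smul_eq_self_iff_mem_normalizer.mp h2
  · intro Q₁ hQ₁ Q₂ hQ₂ hA₁ hA₂
    obtain ⟨k, hk, hkPQ⟩ := Cfsg.Agent.Lib.Helper1.glauberman_conj (K.subgroupOf (A ⊔ K))
      (A.subgroupOf (A ⊔ K)) h.complement h.hall h.solvable htrans ⟨Q₁, hQ₁⟩ ⟨Q₂, hQ₂⟩
      (hfix _ hA₁) (hfix _ hA₂)
    obtain ⟨hk1, hk2⟩ := Subgroup.mem_inf.mp hk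
    refine ⟨k, Subgroup.mem_inf.mpr ⟨hk1, ?_⟩, (congrArg Subtype.val hkPQ).symm⟩
    rw [Subgroup.mem_centralizer_iff] at hk2 ⊢
    intro a ha
    have := hk2 ⟨a, Subgroup.mem_sup_left ha⟩ ha
    exact congrArg Subtype.val this

end Glauberman

section Step

variable [Finite G]

/-- transitivity of `O_{π'}(C_G(B))` on the maximal `B`-invariant `q`-subgroups -/
def TransOn (π' : Set ℕ) (B : Subgroup G) (q : ℕ) : Prop :=
  ∀ Q₁ Q₂ : Subgroup G, MaxInv B q Q₁ → MaxInv B q Q₂ →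
    ∃ k ∈ piCoreOf π' (Subgroup.centralizer (B : Set G)), Q₂ = MulAut.conj k • Q₁

theorem coprime_of_pi {π' : Set ℕ} {m n : ℕ} (hm : ∀ r : ℕ, r.Prime → r ∣ m → r ∉ π')
    (hn : IsPiNat π' n) : m.Coprime n := by
  apply Nat.coprime_of_dvd
  intro k hk hkm hkn
  exact hm k hk hkm (hn k hk hkn)

theorem exists_maxInv (B : Subgroup G) (q : ℕ) {Y : Subgroup G} (hY : Inv B q Y) :
    ∃ Q : Subgroup G, Y ≤ Q ∧ MaxInv B q Q := by
  obtain ⟨Q, hYQ, hQmax⟩ := Finite.exists_le_maximal (p := Inv B q) hY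
  exact ⟨Q, hYQ, hQmax.prop, fun R hR hle => le_antisymm (hQmax.le_of_ge hR hle) hle⟩

theorem inv_bot (B : Subgroup G) (q : ℕ) : Inv B q ⊥ := by
  refine ⟨IsPGroup.of_bot, ?_⟩
  apply Cfsg.Agent.Lib.Helper1.le_normalizer_of_forall_conj_mem
  intro x _ n hn
  rw [Subgroup.mem_bot] at hn ⊢
  rw [hn, mul_one, mul_inv_cancel]

/-- The normal step of Bender--Glauberman 7.5. -/
theorem step (hG : IsMinSimpleOddOrder G) (π' : Set ℕ) {q : ℕ} [Fact q.Prime] (hqπ : q ∈ π')
    {A B C : Subgroup G} (hAB : A ≤ B) (hBC : B ≤ C)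
    (hCN : C ≤ Subgroup.normalizer (B : Set G)) (hC : C ≠ ⊤)
    (hπC : ∀ r : ℕ, r.Prime → r ∣ Nat.card C → r ∉ π')
    (hTH : ∀ X : Subgroup G, X ≠ ⊤ → A ≤ X → ∀ T : Subgroup G, T ≤ X →
      IsPiNat π' (Nat.card T) → A ≤ Subgroup.normalizer (T : Set G) → T ≤ piCoreOf π' X)
    (htrB : TransOn π' B q) :
    (∀ Q : Subgroup G, MaxInv C q Q → MaxInv B q Q) ∧ TransOn π' C q := by
  have hq : q.Prime := Fact.out
  have hms := hG.2
  have hCsolv : Group.IsSolvable C := hms.2.2 C hC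
  have hqpi : ∀ T : Subgroup G, IsPGroup q T → IsPiNat π' (Nat.card T) := by
    intro T hT r hr hrd
    obtain ⟨n, hn⟩ := hT.exists_card_eq
    rw [hn] at hrd
    have hrq : r = q := (Nat.prime_dvd_prime_iff_eq hr hq).mp (hr.dvd_of_dvd_pow hrd)
    rw [hrq]; exact hqπ
  have hCK : C ≤ Subgroup.normalizer
      (piCoreOf π' (Subgroup.centralizer (B : Set G)) : Set G) :=
    hCN.trans ((normalizer_le_normalizer_centralizer B).trans
      (normalizer_le_normalizer_piCoreOf π' _))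
  have hcopCK : CoprimeAct C (piCoreOf π' (Subgroup.centralizer (B : Set G))) :=
    ⟨hCK, coprime_of_pi hπC (piCoreOf_isPiNat π' _), Or.inl hCsolv⟩
  have hSne : {Q : Subgroup G | MaxInv B q Q}.Nonempty := by
    obtain ⟨Q, -, hQ⟩ := exists_maxInv B q (inv_bot B q)
    exact ⟨Q, hQ⟩
  obtain ⟨⟨Q₀, hQ₀S, hCQ₀⟩, hconj⟩ := glauberman_subgroups hcopCK
    {Q : Subgroup G | MaxInv B q Q} hSne
    (fun g hg Q hQ => maxInv_conj_of_normalizer (hCN hg) hQ)
    (fun g hg Q hQ => maxInv_conj (piCoreOf_le π' _ hg) hQ)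
    (fun Q₁ hQ₁ Q₂ hQ₂ => htrB Q₁ Q₂ hQ₁ hQ₂)
  have hi : ∀ Q : Subgroup G, MaxInv C q Q → MaxInv B q Q := by
    intro Q hQ
    have hInvB : Inv B q Q := ⟨hQ.1.1, hBC.trans hQ.1.2⟩
    refine ⟨hInvB, fun R hR hQR => ?_⟩
    by_cases hQbot : Q = ⊥
    · have hQ₀ : Q₀ = Q := hQ.2 Q₀ ⟨hQ₀S.1.1, hCQ₀⟩ (hQbot ▸ bot_le)
      have hQ₀' : MaxInv B q Q₀ := hQ₀S
      rw [hQ₀] at hQ₀'
      exact hQ₀'.2 R hR hQR
    · by_contra hRQ
      have hlt : Q < R := lt_of_le_of_ne hQR (fun h => hRQ h.symm)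
      have hXtop : Subgroup.normalizer (Q : Set G) ≠ ⊤ :=
        normalizer_ne_top hms hQbot (pgroup_ne_top hms hQ.1.1)
      have hAQ : A ≤ Subgroup.normalizer (Q : Set G) := (hAB.trans hBC).trans hQ.1.2
      have hQY : Q ≤ piCoreOf π' (Subgroup.normalizer (Q : Set G)) :=
        hTH _ hXtop hAQ Q Subgroup.le_normalizer (hqpi Q hQ.1.1) hAQ
      have hcopCY : CoprimeAct C (piCoreOf π' (Subgroup.normalizer (Q : Set G))) :=
        ⟨hQ.1.2.trans (le_normalizer_piCoreOf π' _),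
          coprime_of_pi hπC (piCoreOf_isPiNat π' _), Or.inl hCsolv⟩
      obtain ⟨S₁, hQS, hCS⟩ := hcopCY.exists_invariant_sylSet_ge _ Q rfl hQY hQ.1.1 hQ.1.2
      have hS₁ : S₁.1 = Q := hQ.2 S₁.1 ⟨IsPGroup.of_card S₁.2.2, hCS⟩ hQS
      obtain ⟨x, hxR, hxN, hxQ⟩ := exists_normalizer_not_mem hR.1 hlt
      have hAR : A ≤ Subgroup.normalizer (R : Set G) := hAB.trans hR.2
      have hAT := Cfsg.Agent.Lib.Helper1.CoprimeAct.le_normalizer_normalizer_inf hAQ hAR
      have hTq : IsPGroup q (Subgroup.normalizer (Q : Set G) ⊓ R : Subgroup G) :=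
        hR.1.to_le inf_le_right
      have hTY : Subgroup.normalizer (Q : Set G) ⊓ R ≤
          piCoreOf π' (Subgroup.normalizer (Q : Set G)) :=
        hTH _ hXtop hAQ _ inf_le_left (hqpi _ hTq) hAT
      have hTQq : IsPGroup q ((Subgroup.normalizer (Q : Set G) ⊓ R) ⊔ Q : Subgroup G) :=
        IsPGroup.to_sup_of_normal_right' hTq hQ.1.1 inf_le_left
      obtain ⟨m, hm⟩ := hTQq.exists_card_eq
      have hdvd : q ^ m ∣ Nat.card (piCoreOf π' (Subgroup.normalizer (Q : Set G))) := by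
        rw [← hm]; exact Subgroup.card_dvd_of_le (sup_le hTY hQY)
      have hmle : m ≤
          (Nat.card (piCoreOf π' (Subgroup.normalizer (Q : Set G)))).factorization q :=
        (hq.pow_dvd_iff_le_factorization Nat.card_pos.ne').mp hdvd
      have hcardS : Nat.card S₁.1 =
          q ^ (Nat.card (piCoreOf π' (Subgroup.normalizer (Q : Set G)))).factorization q :=
        S₁.2.2
      rw [hS₁] at hcardS
      have hcard : Nat.card ((Subgroup.normalizer (Q : Set G) ⊓ R) ⊔ Q : Subgroup G) ≤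
          Nat.card Q := by
        rw [hm, hcardS]
        exact Nat.pow_le_pow_right hq.pos hmle
      have heq : Q = (Subgroup.normalizer (Q : Set G) ⊓ R) ⊔ Q :=
        Subgroup.eq_of_le_of_card_ge le_sup_right hcard
      exact hxQ (heq.ge (Subgroup.mem_sup_left (Subgroup.mem_inf.mpr ⟨hxN, hxR⟩)))
  refine ⟨hi, fun Q₁ Q₂ h₁ h₂ => ?_⟩
  obtain ⟨c, hc, hcQ⟩ := hconj Q₁ (hi Q₁ h₁) Q₂ (hi Q₂ h₂) h₁.1.2 h₂.1.2
  exact ⟨c, piCoreOf_centralizer_inf_le π' hBC hc, hcQ⟩

theorem map_le_normalizer_map {P : Subgroup G} {H K : Subgroup P} (hle : H ≤ K)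
    (hN : (H.subgroupOf K).Normal) :
    K.map P.subtype ≤ Subgroup.normalizer ((H.map P.subtype : Subgroup G) : Set G) := by
  apply Cfsg.Agent.Lib.Helper1.le_normalizer_of_forall_conj_mem
  rintro _ ⟨k, hk, rfl⟩ _ ⟨h, hh, rfl⟩
  have h1 := hN.conj_mem ⟨h, hle hh⟩ (Subgroup.mem_subgroupOf.mpr hh) ⟨k, hk⟩
  rw [Subgroup.mem_subgroupOf] at h1
  exact Subgroup.mem_map.mpr ⟨k * h * k⁻¹, h1, rfl⟩

/-- Induction along a subnormal chain. -/
theorem chain (hG : IsMinSimpleOddOrder G) (π' : Set ℕ) {q : ℕ} [Fact q.Prime] (hqπ : q ∈ π')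
    {A P : Subgroup G} (hP : P ≠ ⊤) (hπP : ∀ r : ℕ, r.Prime → r ∣ Nat.card P → r ∉ π')
    (hTH : ∀ X : Subgroup G, X ≠ ⊤ → A ≤ X → ∀ T : Subgroup G, T ≤ X →
      IsPiNat π' (Nat.card T) → A ≤ Subgroup.normalizer (T : Set G) → T ≤ piCoreOf π' X)
    (H : Subgroup P) (hH : H.IsSubnormal) :
    A ≤ H.map P.subtype → TransOn π' (H.map P.subtype) q →
      (∀ Q : Subgroup G, MaxInv P q Q → MaxInv (H.map P.subtype) q Q) ∧ TransOn π' P q := by
  induction hH with
  | top =>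
    intro _ htr
    rw [map_subtype_top'] at htr ⊢
    exact ⟨fun Q hQ => hQ, htr⟩
  | step H K hle hK hN ih =>
    intro hAH htr
    have hHK : H.map P.subtype ≤ K.map P.subtype := Subgroup.map_mono hle
    have hKP : K.map P.subtype ≤ P := Subgroup.map_subtype_le K
    have hKtop : K.map P.subtype ≠ ⊤ := fun h => hP (top_le_iff.mp (h ▸ hKP))
    have hπK : ∀ r : ℕ, r.Prime → r ∣ Nat.card (K.map P.subtype) → r ∉ π' :=
      fun r hr hrd => hπP r hr (hrd.trans (Subgroup.card_dvd_of_le hKP))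
    obtain ⟨h1, h2⟩ := step hG π' hqπ hAH hHK (map_le_normalizer_map hle hN) hKtop hπK hTH htr
    obtain ⟨h3, h4⟩ := ih (hAH.trans hHK) h2
    exact ⟨fun Q hQ => h1 Q (h3 Q hQ), h4⟩

end Step

section Commutator

theorem commutator_sup_le {L M : Subgroup G} (hnorm : M ≤ Subgroup.normalizer (L : Set G)) :
    ⁅L ⊔ M, L ⊔ M⁆ ≤ L ⊔ ⁅M, M⁆ := by
  have hLN : L ≤ L ⊔ M := le_sup_left
  have hMN : M ≤ L ⊔ M := le_sup_right
  have hLn : (L.subgroupOf (L ⊔ M)).Normal :=
    (Subgroup.normal_subgroupOf_iff_le_normalizer hLN).mpr (sup_le Subgroup.le_normalizer hnorm)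
  have htop : (⊤ : Subgroup ↥(L ⊔ M)) = L.subgroupOf (L ⊔ M) ⊔ M.subgroupOf (L ⊔ M) := by
    rw [← Subgroup.subgroupOf_sup hLN hMN, Subgroup.subgroupOf_self]
  have hmap : Subgroup.map (QuotientGroup.mk' (L.subgroupOf (L ⊔ M))) ⊤ =
      Subgroup.map (QuotientGroup.mk' (L.subgroupOf (L ⊔ M))) (M.subgroupOf (L ⊔ M)) := by
    rw [htop, Subgroup.map_sup, QuotientGroup.map_mk'_self, bot_sup_eq]
  have h1 : ⁅(⊤ : Subgroup ↥(L ⊔ M)), ⊤⁆ ≤
      ⁅M.subgroupOf (L ⊔ M), M.subgroupOf (L ⊔ M)⁆ ⊔ L.subgroupOf (L ⊔ M) := by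
    have h2 := Subgroup.le_comap_map (QuotientGroup.mk' (L.subgroupOf (L ⊔ M)))
      ⁅(⊤ : Subgroup ↥(L ⊔ M)), ⊤⁆
    rw [Subgroup.map_commutator, hmap, ← Subgroup.map_commutator, Subgroup.comap_map_eq,
      QuotientGroup.ker_mk'] at h2
    exact h2
  have h3 := Subgroup.map_mono (f := (L ⊔ M).subtype) h1
  rw [Subgroup.map_commutator, map_subtype_top', Subgroup.map_sup, Subgroup.map_commutator,
    Subgroup.map_subgroupOf_eq_of_le hMN, Subgroup.map_subgroupOf_eq_of_le hLN] at h3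
  exact h3.trans (le_of_eq (sup_comm _ _))

theorem commutator_self_le (M : Subgroup G) : ⁅M, M⁆ ≤ M :=
  Subgroup.commutator_le.mpr (fun a ha b hb => by
    rw [commutatorElement_def]
    exact M.mul_mem (M.mul_mem (M.mul_mem ha hb) (M.inv_mem ha)) (M.inv_mem hb))

theorem conj_mem_commutator_self {M : Subgroup G} {g c : G} (hg : g ∈ M) (hc : c ∈ ⁅M, M⁆) :
    g * c * g⁻¹ ∈ ⁅M, M⁆ := by
  have h1 : ⁅g, c⁆ ∈ ⁅M, M⁆ :=
    Subgroup.commutator_mem_commutator hg (commutator_self_le M hc)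
  have h2 : g * c * g⁻¹ = ⁅g, c⁆ * c := by rw [commutatorElement_def]; group
  rw [h2]; exact Subgroup.mul_mem _ h1 hc

theorem pow_mul_inv_mem {D M : Subgroup G} (hMD : ∀ g ∈ M, ∀ c ∈ D, g * c * g⁻¹ ∈ D) {d l : G}
    (hd : d ∈ D) (hl : l ∈ M) : ∀ k : ℕ, (d * l) ^ k * (l ^ k)⁻¹ ∈ D := by
  intro k
  induction k with
  | zero => simp
  | succ k ih =>
    have hlk : l ^ k ∈ M := M.pow_mem hl k
    have h1 : (d * l) ^ (k + 1) * (l ^ (k + 1))⁻¹ =
        ((d * l) ^ k * (l ^ k)⁻¹) * (l ^ k * d * (l ^ k)⁻¹) := by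
      rw [pow_succ, pow_succ]
      generalize (d * l) ^ k = u
      generalize l ^ k = v
      group
    rw [h1]
    exact D.mul_mem ih (hMD _ hlk d hd)

theorem inf_commutator_le [Finite G] {P L M : Subgroup G} (N : Subgroup G) (hN : N = L ⊔ M)
    (hML : M ≤ Subgroup.normalizer (L : Set G)) (hPM : P ≤ M)
    (hcop : (Nat.card P).Coprime (Nat.card L)) : P ⊓ ⁅N, N⁆ ≤ ⁅M, M⁆ := by
  subst hN
  intro x hx
  obtain ⟨hxP, hxN⟩ := Subgroup.mem_inf.mp hx
  have h1 : x ∈ L ⊔ ⁅M, M⁆ := commutator_sup_le hML hxN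
  have hDM : ⁅M, M⁆ ≤ M := commutator_self_le M
  have h2 : ((⁅M, M⁆ ⊔ L : Subgroup G) : Set G) = ((⁅M, M⁆ : Subgroup G) : Set G) * (L : Set G) :=
    Subgroup.coe_mul_of_left_le_normalizer_right _ _ (hDM.trans hML)
  have h3 : x ∈ ((⁅M, M⁆ ⊔ L : Subgroup G) : Set G) := by
    rw [sup_comm]; exact h1
  rw [h2] at h3
  obtain ⟨d, hd, l, hl, rfl⟩ := Set.mem_mul.mp h3
  have hlM : l ∈ M := by
    have h4 : l = d⁻¹ * (d * l) := by group
    rw [h4]; exact M.mul_mem (M.inv_mem (hDM hd)) (hPM hxP)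
  have h5 := pow_mul_inv_mem (D := ⁅M, M⁆) (M := M)
    (fun g hg c hc => conj_mem_commutator_self hg hc) hd hlM (orderOf l)
  rw [pow_orderOf_eq_one, inv_one, mul_one] at h5
  have hcop' : (orderOf l).Coprime (orderOf (d * l)) := by
    have ho1 : orderOf l ∣ Nat.card L := Subgroup.orderOf_dvd_natCard L hl
    have ho2 : orderOf (d * l) ∣ Nat.card P := Subgroup.orderOf_dvd_natCard P hxP
    exact Nat.Coprime.coprime_dvd_left ho1 (Nat.Coprime.coprime_dvd_right ho2 hcop.symm)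
  obtain ⟨m, hm⟩ := exists_pow_eq_self_of_coprime hcop'
  rw [← hm]
  exact Subgroup.pow_mem _ h5 m

end Commutator

section Main

variable [Finite G]

theorem frattini_d2 {π' : Set ℕ} {P : Subgroup G} {q : ℕ} (htr : TransOn π' P q)
    {Q : Subgroup G} (hQ : MaxInv P q Q) :
    Subgroup.normalizer (P : Set G) = piCoreOf π' (Subgroup.centralizer (P : Set G)) ⊔
      (Subgroup.normalizer (P : Set G) ⊓ Subgroup.normalizer (Q : Set G)) := by
  apply le_antisymm
  · intro g hg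
    obtain ⟨k, hk, hkQ⟩ := htr Q (MulAut.conj g • Q) hQ (maxInv_conj_of_normalizer hg hQ)
    have hkC : k ∈ Subgroup.centralizer (P : Set G) := piCoreOf_le π' _ hk
    have hkN : k ∈ Subgroup.normalizer (P : Set G) := Subgroup.centralizer_le_normalizer _ hkC
    have h1 : k⁻¹ * g ∈ Subgroup.normalizer (Q : Set G) := by
      rw [← conj_smul_eq_self_iff_mem_normalizer, map_mul, mul_smul, hkQ, ← mul_smul, ← map_mul,
        inv_mul_cancel, map_one, one_smul]
    have h2 : g = k * (k⁻¹ * g) := by group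
    rw [h2]
    exact Subgroup.mul_mem _ (Subgroup.mem_sup_left hk) (Subgroup.mem_sup_right
      (Subgroup.mem_inf.mpr ⟨Subgroup.mul_mem _ (Subgroup.inv_mem _ hkN) hg, h1⟩))
  · exact sup_le ((piCoreOf_le π' _).trans (Subgroup.centralizer_le_normalizer _)) inf_le_left

/-- Bender--Glauberman 7.5 (`MaxInv` form). -/
theorem bg75 (hG : IsMinSimpleOddOrder G) (A : Subgroup G) (hA : TransitivityHypothesis A)
    (q : ℕ) [Fact q.Prime] (hqA : ¬ q ∣ Nat.card A)
    (P : Subgroup G) (hP : P ≠ ⊤)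
    (hPπ : ∀ r : ℕ, r.Prime → r ∣ Nat.card P → r ∣ Nat.card A) (hAP : A ≤ P)
    (hsn : (A.subgroupOf P).IsSubnormal)
    (htr : TransOn (primesNotDvd (Nat.card A)) A q) :
    piCoreOf (primesNotDvd (Nat.card A)) (Subgroup.centralizer (A : Set G)) ⊓
        Subgroup.centralizer (P : Set G) =
      piCoreOf (primesNotDvd (Nat.card A)) (Subgroup.centralizer (P : Set G)) ∧
    TransOn (primesNotDvd (Nat.card A)) P q ∧
    (∀ Q : Subgroup G, MaxInv P q Q → MaxInv A q Q) ∧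
    ∀ Q : Subgroup G, MaxInv P q Q →
      P ⊓ ⁅Subgroup.normalizer (P : Set G), Subgroup.normalizer (P : Set G)⁆ ≤
        ⁅Subgroup.normalizer (Q : Set G), Subgroup.normalizer (Q : Set G)⁆ ∧
      Subgroup.normalizer (P : Set G) =
        piCoreOf (primesNotDvd (Nat.card A)) (Subgroup.centralizer (P : Set G)) ⊔
          (Subgroup.normalizer (P : Set G) ⊓ Subgroup.normalizer (Q : Set G)) := by
  have hq : q.Prime := Fact.out
  have hms := hG.2
  have hqπ : q ∈ primesNotDvd (Nat.card A) := ⟨hq, hqA⟩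
  have hπP : ∀ r : ℕ, r.Prime → r ∣ Nat.card P → r ∉ primesNotDvd (Nat.card A) :=
    fun r hr hrd h => h.2 (hPπ r hr hrd)
  have hTH : ∀ X : Subgroup G, X ≠ ⊤ → A ≤ X → ∀ T : Subgroup G, T ≤ X →
      IsPiNat (primesNotDvd (Nat.card A)) (Nat.card T) → A ≤ Subgroup.normalizer (T : Set G) →
      T ≤ piCoreOf (primesNotDvd (Nat.card A)) X := by
    intro X hX hAX T hTX hTpi hAT
    rw [← hA.2.2 X hX hAX]
    exact le_sSup ⟨hTX, hTpi, hAT⟩
  have hmapA : (A.subgroupOf P).map P.subtype = A := Subgroup.map_subgroupOf_eq_of_le hAP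
  have hchain := chain hG (primesNotDvd (Nat.card A)) hqπ hP hπP hTH (A.subgroupOf P) hsn
  rw [hmapA] at hchain
  obtain ⟨hc, hb⟩ := hchain le_rfl htr
  refine ⟨?_, hb, hc, fun Q hQ => ?_⟩
  · apply le_antisymm (piCoreOf_centralizer_inf_le _ hAP)
    refine le_inf ?_ (piCoreOf_le _ _)
    have hNtop : Subgroup.normalizer (A : Set G) ≠ ⊤ := normalizer_ne_top hms hA.1 hA.2.1
    have hWC : piCoreOf (primesNotDvd (Nat.card A)) (Subgroup.centralizer (P : Set G)) ≤
        Subgroup.centralizer (A : Set G) :=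
      (piCoreOf_le _ _).trans (Subgroup.centralizer_le (SetLike.coe_subset_coe.mpr hAP))
    have hWN : piCoreOf (primesNotDvd (Nat.card A)) (Subgroup.centralizer (P : Set G)) ≤
        piCoreOf (primesNotDvd (Nat.card A)) (Subgroup.normalizer (A : Set G)) := by
      apply hTH _ hNtop Subgroup.le_normalizer _
        (hWC.trans (Subgroup.centralizer_le_normalizer _)) (piCoreOf_isPiNat _ _)
      apply Cfsg.Agent.Lib.Helper1.le_normalizer_of_forall_conj_mem
      intro a ha t ht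
      have h1 : a * t = t * a := Subgroup.mem_centralizer_iff.mp (hWC ht) a ha
      have h2 : a * t * a⁻¹ = t := by rw [h1, mul_inv_cancel_right]
      rw [h2]; exact ht
    exact (le_inf hWN hWC).trans
      (centralizer_inf_piCoreOf_le hms hA hNtop Subgroup.le_normalizer)
  · have hd2 := frattini_d2 hb hQ
    refine ⟨?_, hd2⟩
    have hML : Subgroup.normalizer (P : Set G) ⊓ Subgroup.normalizer (Q : Set G) ≤
        Subgroup.normalizer
          (piCoreOf (primesNotDvd (Nat.card A)) (Subgroup.centralizer (P : Set G)) : Set G) :=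
      inf_le_left.trans ((normalizer_le_normalizer_centralizer P).trans
        (normalizer_le_normalizer_piCoreOf _ _))
    have h1 := inf_commutator_le (Subgroup.normalizer (P : Set G)) hd2 hML
      (le_inf Subgroup.le_normalizer hQ.1.2) (coprime_of_pi hπP (piCoreOf_isPiNat _ _))
    exact h1.trans (Subgroup.commutator_mono inf_le_right inf_le_right)

end Main

end Cfsg.Agent.Lib.Lead.BGTrans5
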