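import Mathlib
import Cfsg.Prelude
import Cfsg.Agent.Lib.Lead.BGTrans
import Cfsg.Agent.Lib.Lead.PConstrainedInv
import Cfsg.Agent.Lib.Helper25.PSolv
import Cfsg.Agent.S0629

/-!
# Criteria for the transitivity hypothesis (Bender--Glauberman 7.1)
-/

set_option autoImplicit false
open Cfsg

namespace Cfsg.Agent.Lib.Lead.BGTransHyp

open Cfsg.Agent.Lib.Lead.Trans
open Cfsg.Agent.Lib.Lead.BGTrans

theorem isPConstrained_of_isSolvable {X : Type*} [Group X] [Finite X] (p : ℕ) [Fact p.Prime]
    (hX : Group.IsSolvable X) : IsPConstrained p X := by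
  intro P
  exact Cfsg.Agent.S0629.result P
    (Cfsg.Agent.Lib.Helper25.isPSolvable_of_isSolvable p inferInstance) P

variable {G : Type*} [Group G] [Finite G]

/-- In a Sylow `p`-subgroup `P` with `A ∈ SCN(P)`, every element of order `p` of `C_G(A)` lies in
`A`. -/
theorem mem_of_scn {p : ℕ} [Fact p.Prime] (P : Sylow p G) {A : Subgroup G}
    (hscn : IsSCN (P : Subgroup G) A) {y : G} (hy : y ∈ Subgroup.centralizer (A : Set G))
    (hyo : orderOf y = p) : y ∈ A := by
  obtain ⟨hAP, hPN, hPC⟩ := hscn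
  have hp : p.Prime := Fact.out
  by_contra hyA
  have hAC : A ≤ Subgroup.centralizer (A : Set G) := hPC.ge.trans inf_le_right
  have hPnC : (P : Subgroup G) ≤
      Subgroup.normalizer ((Subgroup.centralizer (A : Set G) : Subgroup G) : Set G) := by
    apply Cfsg.Agent.Lib.Helper1.le_normalizer_of_forall_conj_mem
    intro g hg c hc
    have hgN := hPN hg
    rw [Subgroup.mem_centralizer_iff]
    intro a ha
    have h1 : g⁻¹ * a * g ∈ A := by
      have := (Subgroup.mem_normalizer_iff.mp (inv_mem hgN) a).mp ha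
      simpa using this
    have h2 : (g⁻¹ * a * g) * c = c * (g⁻¹ * a * g) := Subgroup.mem_centralizer_iff.mp hc _ h1
    calc a * (g * c * g⁻¹) = g * ((g⁻¹ * a * g) * c) * g⁻¹ := by group
      _ = g * (c * (g⁻¹ * a * g)) * g⁻¹ := by rw [h2]
      _ = g * c * g⁻¹ * a := by group
  have h1 := Cfsg.H5.card_sup_mul_card_inf hPnC
  rw [hPC] at h1
  have hyN : Subgroup.zpowers y ≤ Subgroup.normalizer (A : Set G) :=
    Subgroup.zpowers_le.mpr (Subgroup.centralizer_le_normalizer _ hy)
  have h2 := Cfsg.H5.card_sup_mul_card_inf hyN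
  have hinf : Subgroup.zpowers y ⊓ A = ⊥ := by
    rw [Subgroup.eq_bot_iff_forall]
    intro x hx
    by_contra hx1
    exact hyA (Subgroup.zpowers_le.mpr (Subgroup.mem_inf.mp hx).2
      (mem_zpowers_of_mem_zpowers_prime hyo (Subgroup.mem_inf.mp hx).1 hx1))
  rw [hinf, Subgroup.card_bot, mul_one, Nat.card_zpowers, hyo] at h2
  have hDC : Subgroup.zpowers y ⊔ A ≤ Subgroup.centralizer (A : Set G) :=
    sup_le (Subgroup.zpowers_le.mpr hy) hAC
  have h3 : p * Nat.card A ∣ Nat.card (Subgroup.centralizer (A : Set G)) := by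
    rw [← h2]; exact Subgroup.card_dvd_of_le hDC
  obtain ⟨m, hm⟩ := h3
  rw [hm] at h1
  have hPcard : Nat.card (P : Subgroup G) = p ^ (Nat.card G).factorization p :=
    P.card_eq_multiplicity
  have h4 : Nat.card ((P : Subgroup G) ⊔ Subgroup.centralizer (A : Set G) : Subgroup G) =
      Nat.card (P : Subgroup G) * p * m := by
    apply Nat.eq_of_mul_eq_mul_right (Nat.card_pos (α := A))
    rw [h1]; ring
  have h5 : p ^ ((Nat.card G).factorization p + 1) ∣ Nat.card G := by
    have h6 : Nat.card (P : Subgroup G) * p ∣ Nat.card G :=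
      (Dvd.intro m h4.symm).trans (Subgroup.card_subgroup_dvd_card _)
    rwa [hPcard, ← pow_succ] at h6
  exact Nat.pow_succ_factorization_not_dvd Nat.card_pos.ne' hp h5

/-- A nontrivial `p`-subgroup `A` containing all elements of order `p` of its centralizer
satisfies the transitivity hypothesis, in a minimal simple group of odd order. -/
theorem transitivityHypothesis_of_omega (hG : IsMinSimpleOddOrder G) (p : ℕ) [Fact p.Prime]
    (hp : p ∣ Nat.card G) (A : Subgroup G) (hAp : IsPGroup p A) (hA1 : A ≠ ⊥)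
    (hΩ : ∀ y ∈ Subgroup.centralizer (A : Set G), orderOf y = p → y ∈ A) :
    TransitivityHypothesis A := by
  have hp' : p.Prime := Fact.out
  have hp2 : p ≠ 2 := by
    rintro rfl
    exact (Nat.not_even_iff_odd.mpr hG.1) (even_iff_two_dvd.mpr hp)
  have hA2 : A ≠ ⊤ := pgroup_ne_top hG.2 hAp
  obtain ⟨n, hn⟩ := hAp.exists_card_eq
  have hn0 : n ≠ 0 := by
    rintro rfl
    rw [pow_zero] at hn
    exact hA1 (Subgroup.card_eq_one.mp hn)
  refine ⟨hA1, hA2, fun X hX hAX => le_antisymm (sSup_le ?_) (le_sSup ?_)⟩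
  · rintro T ⟨hTX, hTpi, hAT⟩
    have hXsolv : Group.IsSolvable X := hG.2.2.2 X hX
    have hXc : IsPConstrained p X := isPConstrained_of_isSolvable p hXsolv
    have hTcop : (Nat.card T).Coprime p := by
      have h1 := coprime_of_isPiNat_primesNotDvd hTpi
      rw [hn] at h1
      exact Nat.Coprime.coprime_dvd_right (dvd_pow_self p hn0) h1
    have hcardT : Nat.card (T.subgroupOf X) = Nat.card T :=
      Nat.card_congr (Subgroup.subgroupOfEquivOfLe hTX).toEquiv
    have key := Cfsg.Agent.Lib.Lead.PCInv.le_pPrimeCore_of_odd hp2 hXc (A.subgroupOf X)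
      hAp.comap_subtype ?_ (T.subgroupOf X) (by rw [hcardT]; exact hTcop) ?_
    · have hcore : pPrimeCore p X ≤ piCore (primesNotDvd (Nat.card A)) X := by
        apply Cfsg.Agent.Lib.Helper12.le_piCore inferInstance
        intro r hr hrd
        refine ⟨hr, fun hrA => ?_⟩
        rw [hn] at hrA
        have hrp : r = p := (Nat.prime_dvd_prime_iff_eq hr hp').mp (hr.dvd_of_dvd_pow hrA)
        rw [hrp] at hrd
        have hc := Cfsg.H5.coprime_card_pPrimeCore p X
        exact hp'.one_lt.ne' (Nat.Coprime.eq_one_of_dvd hc.symm hrd)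
      intro t ht
      have h1 : (⟨t, hTX ht⟩ : X) ∈ T.subgroupOf X := Subgroup.mem_subgroupOf.mpr ht
      exact Subgroup.mem_map.mpr ⟨⟨t, hTX ht⟩, hcore (key h1), rfl⟩
    · intro x hx hxo
      rw [Subgroup.mem_subgroupOf]
      apply hΩ
      · rw [Subgroup.mem_centralizer_iff]
        intro a ha
        have h1 := Subgroup.mem_centralizer_iff.mp hx ⟨a, hAX ha⟩
          (Subgroup.mem_subgroupOf.mpr ha)
        exact congrArg Subtype.val h1
      · rw [Subgroup.orderOf_coe]; exact hxo
    · apply Cfsg.Agent.Lib.Helper1.le_normalizer_of_forall_conj_mem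
      intro a ha t ht
      rw [Subgroup.mem_subgroupOf] at ha ht ⊢
      exact (Subgroup.mem_normalizer_iff.mp (hAT ha) t.1).mp ht
  · exact ⟨piCoreOf_le _ X, piCoreOf_isPiNat _ X, hAX.trans (le_normalizer_piCoreOf _ X)⟩

end Cfsg.Agent.Lib.Lead.BGTransHyp
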