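import Mathlib
import Cfsg.Agent.Lib.Helper10.FrobFpf
import Cfsg.Agent.S0031
import Cfsg.Agent.S0032
import Cfsg.Agent.H5.Cores
import Cfsg.Agent.H5.ZJMain

set_option autoImplicit false

/-! Fixed-point-free automorphisms of prime order: restriction to invariant subgroups and
quotients, and the Frobenius-action step. -/

namespace Cfsg.Agent.Lib.Lead.Fpf

variable {G : Type*} [Group G]

/-- `M` is invariant under the automorphism `φ` -/
def Inv (φ : G ≃* G) (M : Subgroup G) : Prop := M.map φ.toMonoidHom = M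

theorem Inv.mem {φ : G ≃* G} {M : Subgroup G} (h : Inv φ M) {x : G} (hx : x ∈ M) : φ x ∈ M := by
  have : φ.toMonoidHom x ∈ M.map φ.toMonoidHom := Subgroup.mem_map_of_mem _ hx
  rw [h] at this
  exact this

theorem Inv.exists_preimage {φ : G ≃* G} {M : Subgroup G} (h : Inv φ M) {x : G} (hx : x ∈ M) :
    ∃ y ∈ M, φ y = x := by
  rw [← h] at hx
  obtain ⟨y, hy, rfl⟩ := hx
  exact ⟨y, hy, rfl⟩

theorem inv_of_characteristic (φ : G ≃* G) (M : Subgroup G) [hM : M.Characteristic] : Inv φ M :=
  Subgroup.characteristic_iff_map_eq.1 hM φ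

theorem inv_top (φ : G ≃* G) : Inv φ (⊤ : Subgroup G) := inv_of_characteristic φ ⊤

theorem inv_bot (φ : G ≃* G) : Inv φ (⊥ : Subgroup G) := inv_of_characteristic φ ⊥

theorem Inv.inf {φ : G ≃* G} {A B : Subgroup G} (hA : Inv φ A) (hB : Inv φ B) : Inv φ (A ⊓ B) := by
  unfold Inv at *
  rw [Subgroup.map_inf _ _ _ φ.injective, hA, hB]

theorem Inv.sup {φ : G ≃* G} {A B : Subgroup G} (hA : Inv φ A) (hB : Inv φ B) : Inv φ (A ⊔ B) := by
  unfold Inv at *
  rw [Subgroup.map_sup, hA, hB]

theorem Inv.normalizer {φ : G ≃* G} {A : Subgroup G} (hA : Inv φ A) :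
    Inv φ (Subgroup.normalizer (A : Set G)) := by
  unfold Inv at *
  rw [Subgroup.map_equiv_normalizer_eq, hA]

theorem Inv.centralizer {φ : G ≃* G} {A : Subgroup G} (hA : Inv φ A) :
    Inv φ (Subgroup.centralizer (A : Set G)) := by
  unfold Inv
  ext x
  constructor
  · rintro ⟨c, hc, rfl⟩
    rw [Subgroup.mem_centralizer_iff]
    intro a ha
    obtain ⟨a', ha', rfl⟩ := hA.exists_preimage ha
    have := Subgroup.mem_centralizer_iff.1 hc a' ha'
    show φ a' * φ c = φ c * φ a'
    rw [← map_mul, ← map_mul, this]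
  · intro hx
    refine ⟨φ.symm x, ?_, φ.apply_symm_apply x⟩
    rw [SetLike.mem_coe, Subgroup.mem_centralizer_iff]
    intro a ha
    apply φ.injective
    rw [map_mul, map_mul, φ.apply_symm_apply]
    exact Subgroup.mem_centralizer_iff.1 hx _ (hA.mem ha)

/-- restriction of an automorphism to an invariant subgroup -/
noncomputable def res (φ : G ≃* G) (M : Subgroup G) (h : Inv φ M) : M ≃* M :=
  (φ.subgroupMap M).trans (MulEquiv.subgroupCongr h)

theorem res_coe (φ : G ≃* G) (M : Subgroup G) (h : Inv φ M) (x : M) :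
    ((res φ M h x : M) : G) = φ x := rfl

theorem res_iterate (φ : G ≃* G) (M : Subgroup G) (h : Inv φ M) (i : ℕ) (x : M) :
    (((⇑(res φ M h))^[i] x : M) : G) = (⇑φ)^[i] x := by
  induction i with
  | zero => rfl
  | succ i ih => rw [Function.iterate_succ_apply', Function.iterate_succ_apply', res_coe, ih]

theorem res_fpf (φ : G ≃* G) (hφ : MonoidHom.FixedPointFree (φ : G →* G)) (M : Subgroup G)
    (h : Inv φ M) : MonoidHom.FixedPointFree ((res φ M h : M ≃* M) : M →* M) := by
  intro x hx
  have h1 : φ (x : G) = x := by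
    have := congrArg Subtype.val hx
    exact this
  exact Subtype.ext (hφ _ h1)

/-- the induced automorphism on the quotient by an invariant normal subgroup -/
noncomputable def quo (φ : G ≃* G) (N : Subgroup G) [N.Normal] (h : Inv φ N) : G ⧸ N ≃* G ⧸ N :=
  QuotientGroup.congr N N φ h

theorem quo_mk (φ : G ≃* G) (N : Subgroup G) [N.Normal] (h : Inv φ N) (x : G) :
    quo φ N h (x : G ⧸ N) = ((φ x : G) : G ⧸ N) := QuotientGroup.congr_mk N N φ h x

theorem quo_iterate (φ : G ≃* G) (N : Subgroup G) [N.Normal] (h : Inv φ N) (i : ℕ) (x : G) :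
    (⇑(quo φ N h))^[i] (x : G ⧸ N) = (((⇑φ)^[i] x : G) : G ⧸ N) := by
  induction i with
  | zero => rfl
  | succ i ih => rw [Function.iterate_succ_apply', Function.iterate_succ_apply', ih, quo_mk]

theorem quo_fpf [Finite G] (φ : G ≃* G) (hφ : MonoidHom.FixedPointFree (φ : G →* G))
    (N : Subgroup G) [N.Normal] (h : Inv φ N) :
    MonoidHom.FixedPointFree ((quo φ N h : G ⧸ N ≃* G ⧸ N) : G ⧸ N →* G ⧸ N) := by
  intro x hx
  obtain ⟨x, rfl⟩ := QuotientGroup.mk_surjective x
  have h1 : quo φ N h (x : G ⧸ N) = (x : G ⧸ N) := hx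
  rw [quo_mk, QuotientGroup.eq] at h1
  have h2 := Cfsg.Agent.S0032.result φ hφ N (fun n hn => h.mem hn) x h1
  exact (QuotientGroup.eq_one_iff x).2 h2

/-- The Frobenius-action step: an abelian normal `q`-subgroup `V` and a `p`-subgroup `M`
(`p ≠ q`), both invariant under a fixed-point-free automorphism of prime order, with
`C_V(M) = 1` and `C_M(V) = 1`, force `V = 1`. -/
theorem frobenius_step [Finite G] (φ : G ≃* G) (hφ : MonoidHom.FixedPointFree (φ : G →* G))
    (r : ℕ) (hr : r.Prime) (hrφ : ∀ x : G, (⇑φ)^[r] x = x) {p q : ℕ} [hp : Fact p.Prime]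
    [hq : Fact q.Prime] (hpq : p ≠ q) (V M : Subgroup G) [hVn : V.Normal]
    (hVc : ∀ u ∈ V, ∀ v ∈ V, u * v = v * u) (hVq : IsPGroup q V) (hMp : IsPGroup p M)
    (hV : Inv φ V) (hM : Inv φ M)
    (hVM : V ⊓ Subgroup.centralizer (M : Set G) = ⊥)
    (hMV : M ⊓ Subgroup.centralizer (V : Set G) = ⊥) : V = ⊥ := by
  classical
  let _ : CommGroup V := { (inferInstance : Group V) with
    mul_comm := fun u v => Subtype.ext (hVc u u.2 v v.2) }
  let φV : MulAut V := res φ V hV
  let cM : M →* MulAut V := (MulAut.conjNormal).comp M.subtype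
  have hcM : ∀ (x : M) (v : V), ((cM x v : V) : G) = x * v * (x : G)⁻¹ := fun x v => rfl
  have hφV : ∀ v : V, ((φV v : V) : G) = φ v := fun v => rfl
  -- `φV ^ r = 1`
  have hφVr : φV ^ r = 1 := by
    apply MulEquiv.ext
    intro v
    apply Subtype.ext
    have h1 : ∀ (i : ℕ) (w : V), (φV ^ i) w = (⇑(res φ V hV))^[i] w := by
      intro i
      induction i with
      | zero => intro w; rfl
      | succ i ih =>
        intro w
        rw [pow_succ', MulAut.mul_apply, ih, Function.iterate_succ_apply']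
    rw [h1, res_iterate, hrφ]
    rfl
  -- conjugating `cM x` by `φV`
  have hconj : ∀ x : M, φV * cM x = cM ⟨φ x, hM.mem x.2⟩ * φV := by
    intro x
    apply MulEquiv.ext
    intro v
    apply Subtype.ext
    rw [MulAut.mul_apply, MulAut.mul_apply, hφV, hcM, hcM, hφV, map_mul, map_mul, map_inv]
  let ML : Subgroup (MulAut V) := cM.range
  let XL : Subgroup (MulAut V) := Subgroup.zpowers φV
  have hXM : XL ≤ Subgroup.normalizer (ML : Set (MulAut V)) := by
    rw [Subgroup.zpowers_le, Subgroup.mem_set_normalizer_iff]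
    intro g
    constructor
    · rintro ⟨x, rfl⟩
      refine ⟨⟨φ x, hM.mem x.2⟩, ?_⟩
      rw [hconj x, mul_inv_cancel_right]
    · rintro ⟨y, hy⟩
      obtain ⟨x, hx, hxy⟩ := hM.exists_preimage y.2
      refine ⟨⟨x, hx⟩, ?_⟩
      have h1 := hconj ⟨x, hx⟩
      have h2 : (⟨φ x, hM.mem hx⟩ : M) = y := Subtype.ext hxy
      rw [h2, hy] at h1
      -- h1 : φV * cM x = φV * g * φV⁻¹ * φV
      have h3 : φV * cM ⟨x, hx⟩ = φV * g := by rw [h1]; group
      exact mul_left_cancel h3
  have hfrob : ∀ g ∈ XL, g ≠ 1 → ∀ m ∈ ML, m * g = g * m → m = 1 := by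
    intro g hg hg1 m hm hcomm
    obtain ⟨k, hk⟩ := (mem_powers_iff_mem_zpowers).2 hg
    have hk' : φV ^ k = g := hk
    have hrk : ¬ r ∣ k := by
      rintro ⟨c, rfl⟩
      apply hg1
      rw [← hk', pow_mul, hφVr, one_pow]
    have hcop : Nat.Coprime k r := ((Nat.Prime.coprime_iff_not_dvd hr).2 hrk).symm
    obtain ⟨j, -, hj⟩ := Nat.exists_mul_mod_eq_one_of_coprime hcop hr.one_lt
    have hgj : g ^ j = φV := by
      rw [← hk', ← pow_mul, pow_eq_pow_mod (k * j) hφVr, hj, pow_one]
    have hcomm2 : m * φV = φV * m := by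
      rw [← hgj]
      have : Commute m g := hcomm
      exact (this.pow_right j).eq
    obtain ⟨x, rfl⟩ := hm
    have h1 := hconj x
    rw [← hcomm2] at h1
    have h2 : cM x = cM ⟨φ x, hM.mem x.2⟩ := mul_right_cancel h1
    -- so `x⁻¹ φ x` centralizes `V`
    have h3 : (x : G)⁻¹ * φ x ∈ M ⊓ Subgroup.centralizer (V : Set G) := by
      refine Subgroup.mem_inf.2 ⟨M.mul_mem (M.inv_mem x.2) (hM.mem x.2), ?_⟩
      rw [Subgroup.mem_centralizer_iff]
      intro v hv
      have h4 := congrArg (fun f : MulAut V => ((f ⟨v, hv⟩ : V) : G)) h2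
      simp only [hcM] at h4
      -- h4 : x v x⁻¹ = φ x v (φ x)⁻¹
      calc v * ((x : G)⁻¹ * φ x) = (x : G)⁻¹ * (x * v * (x : G)⁻¹) * φ x := by group
        _ = (x : G)⁻¹ * (φ x * v * (φ (x : G))⁻¹) * φ x := by rw [h4]
        _ = (x : G)⁻¹ * φ x * v := by group
    rw [hMV, Subgroup.mem_bot] at h3
    have h5 : φ (x : G) = x := by
      have : (x : G) * ((x : G)⁻¹ * φ x) = x * 1 := by rw [h3]
      rw [mul_inv_cancel_left, mul_one] at this
      exact this
    have h6 : (x : G) = 1 := hφ _ h5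
    have h7 : x = 1 := Subtype.ext h6
    rw [h7, map_one]
  have hMfix : ∀ v : V, (∀ m ∈ ML, (MonoidHom.id (MulAut V)) m v = v) → v = 1 := by
    intro v hv
    have h1 : (v : G) ∈ V ⊓ Subgroup.centralizer (M : Set G) := by
      refine Subgroup.mem_inf.2 ⟨v.2, ?_⟩
      rw [Subgroup.mem_centralizer_iff]
      intro x hx
      have h2 := hv (cM ⟨x, hx⟩) ⟨⟨x, hx⟩, rfl⟩
      have h3 := congrArg (fun w : V => (w : G)) h2
      simp only [MonoidHom.id_apply, hcM] at h3
      calc x * (v : G) = (x * v * x⁻¹) * x := by group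
        _ = v * x := by rw [h3]
    rw [hVM, Subgroup.mem_bot] at h1
    exact Subtype.ext h1
  have hXfix : ∀ v : V, (∀ g ∈ XL, (MonoidHom.id (MulAut V)) g v = v) → v = 1 := by
    intro v hv
    have h2 := hv φV (Subgroup.mem_zpowers φV)
    have h3 := congrArg (fun w : V => (w : G)) h2
    simp only [MonoidHom.id_apply, hφV] at h3
    exact Subtype.ext (hφ _ h3)
  have hMLfin : Finite ML := inferInstance
  have hXLfin : Finite XL := inferInstance
  have key := Cfsg.Agent.Lib.Helper10.pow_card_eq_one_of_frobenius_fpf (MonoidHom.id (MulAut V))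
    ML XL hXM hfrob hMfix hXfix
  -- `card ML` is a power of `p`
  have hMLp : IsPGroup p ML := by
    exact hMp.of_surjective cM.rangeRestrict cM.rangeRestrict_surjective
  obtain ⟨b, hb⟩ := hMLp.exists_card_eq
  rw [eq_bot_iff]
  intro v hv
  have h1 := key ⟨v, hv⟩
  rw [hb] at h1
  obtain ⟨s, hs⟩ := hVq ⟨v, hv⟩
  have h2 : orderOf (⟨v, hv⟩ : V) ∣ Nat.gcd (p ^ b) (q ^ s) :=
    Nat.dvd_gcd (orderOf_dvd_of_pow_eq_one h1) (orderOf_dvd_of_pow_eq_one hs)
  have hpq' : Nat.Coprime p q := (Nat.coprime_primes hp.out hq.out).2 hpq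
  rw [Nat.Coprime.pow b s hpq', Nat.dvd_one, orderOf_eq_one_iff] at h2
  rw [Subgroup.mem_bot]
  exact congrArg Subtype.val h2

section Solvable

open scoped commutatorElement

variable [Finite G] (φ : G ≃* G)

/-- Under the inductive hypotheses, a non-normal invariant Sylow subgroup supplements every
nontrivial invariant normal subgroup. -/
theorem sup_sylow_eq_top
    (hsub : ∀ M : Subgroup G, Inv φ M → M ≠ ⊤ → Group.IsNilpotent M)
    (hquo : ∀ (N : Subgroup G) [N.Normal], Inv φ N → N ≠ ⊥ → Group.IsNilpotent (G ⧸ N))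
    {p : ℕ} [hp : Fact p.Prime] (P : Sylow p G) (hP : Inv φ (P : Subgroup G))
    (hPn : ¬ (P : Subgroup G).Normal) (N : Subgroup G) [hNn : N.Normal] (hN : Inv φ N)
    (hN1 : N ≠ ⊥) : N ⊔ (P : Subgroup G) = ⊤ := by
  by_contra hne
  have hnilq : Group.IsNilpotent (G ⧸ N) := hquo N hN hN1
  let π : G →* G ⧸ N := QuotientGroup.mk' N
  have hπs : Function.Surjective π := QuotientGroup.mk'_surjective N
  let PN : Sylow p (G ⧸ N) := P.mapSurjective hπs
  have hPNn : (PN : Subgroup (G ⧸ N)).Normal := inferInstance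
  have hcm : (PN : Subgroup (G ⧸ N)).comap π = N ⊔ (P : Subgroup G) := by
    show ((P : Subgroup G).map π).comap π = _
    rw [Subgroup.comap_map_eq, QuotientGroup.ker_mk', sup_comm]
  have hUn : (N ⊔ (P : Subgroup G)).Normal := by
    rw [← hcm]
    exact hPNn.comap π
  have hUnil : Group.IsNilpotent (N ⊔ (P : Subgroup G) : Subgroup G) :=
    hsub _ (hN.sup hP) hne
  have hPU : (P : Subgroup G) ≤ N ⊔ (P : Subgroup G) := le_sup_right
  let P' : Sylow p (N ⊔ (P : Subgroup G) : Subgroup G) := P.subtype hPU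
  have hP'n : (P' : Subgroup (N ⊔ (P : Subgroup G) : Subgroup G)).Normal := inferInstance
  have hP'c : (P' : Subgroup (N ⊔ (P : Subgroup G) : Subgroup G)).Characteristic :=
    Sylow.characteristic_of_normal P' hP'n
  have hmapn : ((P' : Subgroup (N ⊔ (P : Subgroup G) : Subgroup G)).map
      (N ⊔ (P : Subgroup G)).subtype).Normal := ConjAct.normal_of_characteristic_of_normal
  apply hPn
  have e1 : (P' : Subgroup (N ⊔ (P : Subgroup G) : Subgroup G)).map
      (N ⊔ (P : Subgroup G)).subtype = (P : Subgroup G) := by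
    rw [Sylow.coe_subtype, Subgroup.subgroupOf_map_subtype, inf_of_le_left hPU]
  rw [← e1]
  exact hmapn

/-- a nontrivial invariant normal subgroup cannot normalize a non-normal invariant Sylow -/
theorem eq_bot_of_le_normalizer
    (hsub : ∀ M : Subgroup G, Inv φ M → M ≠ ⊤ → Group.IsNilpotent M)
    (hquo : ∀ (N : Subgroup G) [N.Normal], Inv φ N → N ≠ ⊥ → Group.IsNilpotent (G ⧸ N))
    {p : ℕ} [hp : Fact p.Prime] (P : Sylow p G) (hP : Inv φ (P : Subgroup G))
    (hPn : ¬ (P : Subgroup G).Normal) (N : Subgroup G) [hNn : N.Normal] (hN : Inv φ N)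
    (hNP : N ≤ Subgroup.normalizer ((P : Subgroup G) : Set G)) : N = ⊥ := by
  by_contra hN1
  have h1 := sup_sylow_eq_top φ hsub hquo P hP hPn N hN hN1
  apply hPn
  rw [← Subgroup.normalizer_eq_top_iff, eq_top_iff, ← h1]
  exact sup_le hNP Subgroup.le_normalizer

omit [Finite G] in
/-- normality from a supplement: if `V ⊔ P = ⊤` and both `V` and `P` normalize `N` then `N` is
normal -/
theorem normal_of_sup_eq_top {V P N : Subgroup G} (h : V ⊔ P = ⊤)
    (hV : V ≤ Subgroup.normalizer (N : Set G)) (hP : P ≤ Subgroup.normalizer (N : Set G)) :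
    N.Normal := by
  rw [← Subgroup.normalizer_eq_top_iff, eq_top_iff, ← h]
  exact sup_le hV hP

/-- The solvable case of Thompson's theorem, under the inductive hypotheses. -/
theorem isNilpotent_of_isSolvable (hφ : MonoidHom.FixedPointFree (φ : G →* G))
    (r : ℕ) (hr : r.Prime) (hrφ : ∀ x : G, (⇑φ)^[r] x = x)
    (hsub : ∀ M : Subgroup G, Inv φ M → M ≠ ⊤ → Group.IsNilpotent M)
    (hquo : ∀ (N : Subgroup G) [N.Normal], Inv φ N → N ≠ ⊥ → Group.IsNilpotent (G ⧸ N))
    (hsol : Group.IsSolvable G) : Group.IsNilpotent G := by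
  classical
  by_contra hnil
  -- a non-normal Sylow subgroup
  have h1 : ¬ ∀ (p : ℕ) (_hp : Fact p.Prime) (P : Sylow p G), (P : Subgroup G).Normal :=
    fun h => hnil ((Group.isNilpotent_of_finite_tfae (G := G)).out 0 3 |>.2 h)
  push Not at h1
  obtain ⟨p, hp, P₀, hP₀⟩ := h1
  obtain ⟨P, hPφ⟩ := Cfsg.Agent.S0031.aux φ hφ p
  have hP : Inv φ (P : Subgroup G) := hPφ
  have hPn : ¬ (P : Subgroup G).Normal := by
    intro hn
    obtain ⟨g, hg⟩ := MulAction.exists_smul_eq G P P₀
    rw [Sylow.smul_eq_of_normal] at hg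
    rw [← hg] at hP₀
    exact hP₀ hn
  have hnt : Nontrivial G := by
    by_contra hsub1
    rw [not_nontrivial_iff_subsingleton] at hsub1
    exact hnil Group.isNilpotent_of_subsingleton
  -- the derived subgroup
  have hG'lt : commutator G < ⊤ := Group.IsSolvable.commutator_lt_top_of_nontrivial G
  have hG'inv : Inv φ (commutator G) := inv_of_characteristic φ _
  have hG'nil : Group.IsNilpotent (commutator G) := hsub _ hG'inv (ne_of_lt hG'lt)
  have hG'1 : commutator G ≠ ⊥ := by
    intro hb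
    apply hPn
    constructor
    intro n hn g
    have h2 : ⁅g, n⁆ ∈ commutator G := Subgroup.commutator_mem_commutator (Subgroup.mem_top g)
      (Subgroup.mem_top n)
    rw [hb, Subgroup.mem_bot, commutatorElement_eq_one_iff_mul_comm] at h2
    rw [h2, mul_inv_cancel_right]
    exact hn
  have hcard1 : Nat.card (commutator G) ≠ 1 := by
    rw [Ne, Subgroup.card_eq_one]
    exact hG'1
  obtain ⟨q, hq, hqdvd⟩ := Nat.exists_prime_and_dvd hcard1
  have hqf : Fact q.Prime := ⟨hq⟩
  have Q₀ : Sylow q (commutator G) := default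
  have hQ₀n : (Q₀ : Subgroup (commutator G)).Normal := inferInstance
  have hQ₀c : (Q₀ : Subgroup (commutator G)).Characteristic :=
    Sylow.characteristic_of_normal Q₀ hQ₀n
  have hQmn : ((Q₀ : Subgroup (commutator G)).map (commutator G).subtype).Normal :=
    ConjAct.normal_of_characteristic_of_normal
  have hQmq : IsPGroup q ((Q₀ : Subgroup (commutator G)).map (commutator G).subtype) :=
    Q₀.2.map _
  have hQm1 : (Q₀ : Subgroup (commutator G)).map (commutator G).subtype ≠ ⊥ := by
    intro hb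
    apply Q₀.ne_bot_of_dvd_card hqdvd
    rw [eq_bot_iff]
    intro z hz
    have : (z : G) ∈ (Q₀ : Subgroup (commutator G)).map (commutator G).subtype :=
      Subgroup.mem_map_of_mem _ hz
    rw [hb, Subgroup.mem_bot] at this
    rw [Subgroup.mem_bot]
    exact Subtype.ext this
  -- `Q = O_q(G)`
  set Q : Subgroup G := Cfsg.pCore q G with hQdef
  have hQn : Q.Normal := Cfsg.H5.pCore_normal q G
  have hQq : IsPGroup q Q := Cfsg.H5.pCore_isPGroup q G
  have hQchar : Q.Characteristic := Cfsg.H5.pCore_characteristic q G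
  have hQinv : Inv φ Q := inv_of_characteristic φ Q
  have hQ1 : Q ≠ ⊥ := by
    intro hb
    apply hQm1
    rw [eq_bot_iff, ← hb]
    exact Cfsg.H5.le_pCore hQmn hQmq
  have hQP : Q ⊔ (P : Subgroup G) = ⊤ := sup_sylow_eq_top φ hsub hquo P hP hPn Q hQinv hQ1
  have hqp : p ≠ q := by
    rintro rfl
    have hQleP : Q ≤ (P : Subgroup G) := hQq.le_sylow_of_normal P
    rw [sup_of_le_right hQleP] at hQP
    apply hPn
    rw [hQP]
    infer_instance
  -- `V = Z(Q)`
  set V : Subgroup G := Q ⊓ Subgroup.centralizer (Q : Set G) with hVdef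
  have hVn : V.Normal := Subgroup.normal_inf_normal Q _
  have hVinv : Inv φ V := hQinv.inf hQinv.centralizer
  have hVq : IsPGroup q V := hQq.to_le inf_le_left
  have hVc : ∀ u ∈ V, ∀ v ∈ V, u * v = v * u := by
    intro u hu v hv
    exact (Subgroup.mem_centralizer_iff.1 (Subgroup.mem_inf.1 hv).2 u (Subgroup.mem_inf.1 hu).1)
  have hV1 : V ≠ ⊥ := by
    have hQnt : Nontrivial Q := (Subgroup.nontrivial_iff_ne_bot Q).2 hQ1
    have hcnt : Nontrivial (Subgroup.center Q) := hQq.center_nontrivial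
    obtain ⟨z, hz⟩ := exists_ne (1 : Subgroup.center Q)
    intro hb
    apply hz
    have hzV : ((z : Q) : G) ∈ V := by
      refine Subgroup.mem_inf.2 ⟨(z : Q).2, ?_⟩
      rw [Subgroup.mem_centralizer_iff]
      intro x hx
      have := Subgroup.mem_center_iff.1 z.2 ⟨x, hx⟩
      exact congrArg Subtype.val this
    rw [hb, Subgroup.mem_bot] at hzV
    exact Subtype.ext (Subtype.ext hzV)
  have hVP : V ⊔ (P : Subgroup G) = ⊤ := sup_sylow_eq_top φ hsub hquo P hP hPn V hVinv hV1
  have hVnorm : ∀ N : Subgroup G, N ≤ V → V ≤ Subgroup.normalizer (N : Set G) := by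
    intro N hNV v hv
    rw [Subgroup.mem_set_normalizer_iff]
    intro n
    constructor
    · intro hn
      have : v * n * v⁻¹ = n := by rw [hVc v hv n (hNV hn), mul_inv_cancel_right]
      rw [SetLike.mem_coe, this]
      exact hn
    · intro hn
      have hnV : v * n * v⁻¹ ∈ V := hNV hn
      have hnV' : n ∈ V := by
        have e1 : n = v⁻¹ * (v * n * v⁻¹) * v⁻¹⁻¹ := by group
        rw [e1]
        exact hVn.conj_mem _ hnV _
      have : v * n * v⁻¹ = n := by rw [hVc v hv n hnV', mul_inv_cancel_right]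
      rw [SetLike.mem_coe, this] at hn
      exact hn
  -- (d) `C_V(P) = 1`
  have hPcentn : (P : Subgroup G) ≤ Subgroup.normalizer
      ((Subgroup.centralizer ((P : Subgroup G) : Set G) : Subgroup G) : Set G) := by
    intro x hx
    rw [Subgroup.mem_set_normalizer_iff]
    intro c
    simp only [SetLike.mem_coe, Subgroup.mem_centralizer_iff]
    constructor
    · intro hc y hy
      have h3 := hc (x⁻¹ * y * x) ((P : Subgroup G).mul_mem ((P : Subgroup G).mul_mem
        ((P : Subgroup G).inv_mem hx) hy) hx)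
      calc y * (x * c * x⁻¹) = x * ((x⁻¹ * y * x) * c) * x⁻¹ := by group
        _ = x * (c * (x⁻¹ * y * x)) * x⁻¹ := by rw [h3]
        _ = x * c * x⁻¹ * y := by group
    · intro hc y hy
      have h3 := hc (x * y * x⁻¹) ((P : Subgroup G).mul_mem ((P : Subgroup G).mul_mem hx hy)
        ((P : Subgroup G).inv_mem hx))
      calc y * c = x⁻¹ * ((x * y * x⁻¹) * (x * c * x⁻¹)) * x := by group
        _ = x⁻¹ * ((x * c * x⁻¹) * (x * y * x⁻¹)) * x := by rw [h3]
        _ = c * y := by group
  have hPVn : (P : Subgroup G) ≤ Subgroup.normalizer (V : Set G) := by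
    rw [Subgroup.normalizer_eq_top_iff.2 hVn]
    exact le_top
  have hd : V ⊓ Subgroup.centralizer ((P : Subgroup G) : Set G) = ⊥ := by
    have hN1n : (V ⊓ Subgroup.centralizer ((P : Subgroup G) : Set G)).Normal :=
      normal_of_sup_eq_top hVP (hVnorm _ inf_le_left)
        ((le_inf hPVn hPcentn).trans (Cfsg.H5.ZJ.normalizer_inf_le _ _))
    exact eq_bot_of_le_normalizer φ hsub hquo P hP hPn _ (hVinv.inf hP.centralizer)
      (inf_le_right.trans (Subgroup.centralizer_le_normalizer _))
  -- (e) `M = Z(P)`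
  set M : Subgroup G := (P : Subgroup G) ⊓ Subgroup.centralizer ((P : Subgroup G) : Set G)
    with hMdef
  have hMinv : Inv φ M := hP.inf hP.centralizer
  have hMp : IsPGroup p M := P.2.to_le inf_le_left
  have hPM : (P : Subgroup G) ≤ Subgroup.centralizer (M : Set G) := by
    intro x hx
    rw [Subgroup.mem_centralizer_iff]
    intro m hm
    exact (Subgroup.mem_centralizer_iff.1 (Subgroup.mem_inf.1 hm).2 x hx).symm
  have hcentnorm : ∀ A : Subgroup G, Subgroup.centralizer (A : Set G) ≤
      Subgroup.normalizer ((Subgroup.centralizer (A : Set G) : Subgroup G) : Set G) :=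
    fun A => Subgroup.le_normalizer
  have he : V ⊓ Subgroup.centralizer (M : Set G) = ⊥ := by
    by_contra hne
    have hN2n : (V ⊓ Subgroup.centralizer (M : Set G)).Normal :=
      normal_of_sup_eq_top hVP (hVnorm _ inf_le_left)
        ((le_inf hPVn (hPM.trans (hcentnorm M))).trans (Cfsg.H5.ZJ.normalizer_inf_le _ _))
    have h2 := sup_sylow_eq_top φ hsub hquo P hP hPn _ (hVinv.inf hMinv.centralizer) hne
    have hctop : Subgroup.centralizer (M : Set G) = ⊤ := by
      rw [eq_top_iff, ← h2]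
      exact sup_le inf_le_right hPM
    have hMn : M.Normal := by
      constructor
      intro m hm g
      have : g ∈ Subgroup.centralizer (M : Set G) := by rw [hctop]; trivial
      have h3 := Subgroup.mem_centralizer_iff.1 this m hm
      rw [← h3, mul_inv_cancel_right]
      exact hm
    have hMbot := eq_bot_of_le_normalizer φ hsub hquo P hP hPn M hMinv
      (inf_le_left.trans Subgroup.le_normalizer)
    -- but `Z(P) ≠ 1`
    have hP1 : (P : Subgroup G) ≠ ⊥ := by
      intro hb
      apply hPn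
      rw [hb]
      infer_instance
    have hPnt : Nontrivial (P : Subgroup G) := (Subgroup.nontrivial_iff_ne_bot _).2 hP1
    have hcnt : Nontrivial (Subgroup.center (P : Subgroup G)) := P.2.center_nontrivial
    obtain ⟨z, hz⟩ := exists_ne (1 : Subgroup.center (P : Subgroup G))
    apply hz
    have hzM : ((z : (P : Subgroup G)) : G) ∈ M := by
      refine Subgroup.mem_inf.2 ⟨(z : (P : Subgroup G)).2, ?_⟩
      rw [Subgroup.mem_centralizer_iff]
      intro x hx
      have := Subgroup.mem_center_iff.1 z.2 ⟨x, hx⟩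
      exact congrArg Subtype.val this
    rw [hMbot, Subgroup.mem_bot] at hzM
    exact Subtype.ext (Subtype.ext hzM)
  -- (f) `C_M(V) = 1`
  have hf : M ⊓ Subgroup.centralizer (V : Set G) = ⊥ := by
    have hcen : Subgroup.centralizer
        ((M ⊓ Subgroup.centralizer (V : Set G) : Subgroup G) : Set G) = ⊤ := by
      rw [eq_top_iff, ← hVP]
      refine sup_le ?_ ?_
      · intro v hv
        rw [Subgroup.mem_centralizer_iff]
        intro n hn
        exact (Subgroup.mem_centralizer_iff.1 (Subgroup.mem_inf.1 hn).2 v hv).symm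
      · intro x hx
        rw [Subgroup.mem_centralizer_iff]
        intro n hn
        exact (Subgroup.mem_centralizer_iff.1 (Subgroup.mem_inf.1 (Subgroup.mem_inf.1 hn).1).2 x
          hx).symm
    have hN3n : (M ⊓ Subgroup.centralizer (V : Set G)).Normal := by
      constructor
      intro n hn g
      have : g ∈ Subgroup.centralizer
          ((M ⊓ Subgroup.centralizer (V : Set G) : Subgroup G) : Set G) := by
        rw [hcen]; trivial
      have h3 := Subgroup.mem_centralizer_iff.1 this n hn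
      rw [← h3, mul_inv_cancel_right]
      exact hn
    exact eq_bot_of_le_normalizer φ hsub hquo P hP hPn _ (hMinv.inf hVinv.centralizer)
      (inf_le_left.trans (inf_le_left.trans Subgroup.le_normalizer))
  exact hV1 (frobenius_step φ hφ r hr hrφ hqp V M hVc hVq hMp hVinv hMinv he hf)

end Solvable

end Cfsg.Agent.Lib.Lead.Fpf
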