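import Mathlib
import Cfsg.Agent.Lib.Lead.FpfAut
import Cfsg.Agent.H5.ZJDefs
import Cfsg.Agent.Lib.Helper13.Frobenius
import Cfsg.Agent.Lib.Helper13.PNilpotent
import Cfsg.Agent.Lib.Helper10.FittingHall

set_option autoImplicit false

/-! Thompson's theorem on fixed-point-free automorphisms of prime order, from a
Glauberman–Thompson normal `p`-complement theorem given as a hypothesis. -/

namespace Cfsg.Agent.Lib.Lead.Fpf

open Cfsg.H5.ZJ

universe u

/-- the centre of a nontrivial `p`-group lies in `Z(J(P))` (abelian version): `Z 0 P ≠ 1` -/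
theorem Z_ne_bot {G : Type*} [Group G] [Finite G] {p : ℕ} [hp : Fact p.Prime] (P : Subgroup G)
    (hP : IsPGroup p P) (hP1 : P ≠ ⊥) : Z 0 P ≠ ⊥ := by
  have hPnt : Nontrivial P := (Subgroup.nontrivial_iff_ne_bot _).2 hP1
  have hcnt : Nontrivial (Subgroup.center P) := hP.center_nontrivial
  obtain ⟨z, hz⟩ := exists_ne (1 : Subgroup.center P)
  have hzc : ∀ x ∈ P, x * ((z : P) : G) = ((z : P) : G) * x := by
    intro x hx
    have := Subgroup.mem_center_iff.1 z.2 ⟨x, hx⟩
    exact congrArg Subtype.val this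
  have hzA : ∀ A ∈ fam 0 P, ((z : P) : G) ∈ A := by
    intro A hA
    have hX : Good 0 (Subgroup.zpowers ((z : P) : G)) := by
      refine ⟨?_, fun a _ => pow_zero a⟩
      intro x hx y hy
      obtain ⟨i, rfl⟩ := Subgroup.mem_zpowers_iff.1 hx
      obtain ⟨j, rfl⟩ := Subgroup.mem_zpowers_iff.1 hy
      rw [← zpow_add, ← zpow_add, add_comm]
    have hgood : Good 0 (A ⊔ Subgroup.zpowers ((z : P) : G)) := by
      apply good_sup hA.2.1 hX
      intro a ha x hx
      obtain ⟨i, rfl⟩ := Subgroup.mem_zpowers_iff.1 hx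
      have hc : Commute a ((z : P) : G) := hzc a (hA.1 ha)
      exact (hc.zpow_right i).eq
    have hle : A ⊔ Subgroup.zpowers ((z : P) : G) ≤ P :=
      sup_le hA.1 (Subgroup.zpowers_le.2 (z : P).2)
    have hcard := hA.2.2 _ hle hgood
    have heq : A = A ⊔ Subgroup.zpowers ((z : P) : G) :=
      Subgroup.eq_of_le_of_card_ge le_sup_left hcard
    rw [heq]
    exact Subgroup.mem_sup_right (Subgroup.mem_zpowers _)
  obtain ⟨A₀, hA₀⟩ := fam_nonempty 0 P
  have hzZ : ((z : P) : G) ∈ Z 0 P := by
    refine ⟨le_J hA₀ (hzA A₀ hA₀), fun x hx => hzc x (J_le hx), pow_zero _⟩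
  intro hb
  rw [hb, Subgroup.mem_bot] at hzZ
  exact hz (Subtype.ext (Subtype.ext hzZ))

/-- nilpotent groups have normal `p`-complements -/
theorem hasNormalPComplement_of_isNilpotent {M : Type u} [Group M] [Finite M]
    [hM : Group.IsNilpotent M] (p : ℕ) [hp : Fact p.Prime] : Cfsg.HasNormalPComplement p M := by
  have hloc : Cfsg.Agent.Lib.Helper13.LocalCentral p M := by
    intro Q hQ g _ hcop
    rw [Subgroup.mem_centralizer_iff]
    intro x hx
    obtain ⟨k, hk⟩ := (IsPGroup.iff_orderOf.1 hQ) ⟨x, hx⟩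
    rw [Subgroup.orderOf_mk] at hk
    have hc : (orderOf x).Coprime (orderOf g) := by
      rw [hk]
      exact Nat.Coprime.pow_left k hcop.symm
    exact (Cfsg.Agent.Lib.Helper10.commute_of_coprime_orderOf M x g hc).eq
  have P : Sylow p M := default
  obtain ⟨K, hKn, hK⟩ := Cfsg.Agent.Lib.Helper13.exists_normal_complement_of_localCentral hloc P
  exact ⟨P, K, hKn, hK⟩

/-- the Glauberman–Thompson hypothesis in universe `u` -/
def GTHyp : Prop :=
  ∀ (H : Type u) [Group H] [Finite H] (p : ℕ) [Fact p.Prime], p ≠ 2 → ∀ P : Sylow p H,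
    Cfsg.HasNormalPComplement p ↥(Subgroup.normalizer ((Z 0 (P : Subgroup H) : Subgroup H) : Set H)) →
    Cfsg.HasNormalPComplement p H

theorem thompson_aux (hGT : GTHyp.{u}) (r : ℕ) (hr : r.Prime) :
    ∀ (n : ℕ) (G : Type u) [Group G] [Finite G], Nat.card G = n → ∀ φ : G ≃* G,
      MonoidHom.FixedPointFree (φ : G →* G) → (∀ x : G, (⇑φ)^[r] x = x) → Group.IsNilpotent G := by
  intro n
  induction n using Nat.strong_induction_on with
  | _ n ih =>
  intro G _ _ hcard φ hφ hrφ
  have hsub : ∀ M : Subgroup G, Inv φ M → M ≠ ⊤ → Group.IsNilpotent M := by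
    intro M hM hMtop
    have hlt : Nat.card M < n := by
      rw [← hcard]
      refine lt_of_le_of_ne (Subgroup.card_le_card_group M) ?_
      intro heq
      exact hMtop (Subgroup.eq_top_of_card_eq M heq)
    refine ih _ hlt M rfl (res φ M hM) (res_fpf φ hφ M hM) ?_
    intro x
    apply Subtype.ext
    rw [res_iterate, hrφ]
  have hquo : ∀ (N : Subgroup G) [N.Normal], Inv φ N → N ≠ ⊥ → Group.IsNilpotent (G ⧸ N) := by
    intro N _ hN hN1
    have hlt : Nat.card (G ⧸ N) < n := by
      rw [← hcard, Subgroup.card_eq_card_quotient_mul_card_subgroup N]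
      have h1 : 1 < Nat.card N := by
        have h2 : Nat.card N ≠ 1 := by
          rw [Ne, Subgroup.card_eq_one]
          exact hN1
        have h3 : 0 < Nat.card N := Nat.card_pos
        omega
      have h4 : 0 < Nat.card (G ⧸ N) := Nat.card_pos
      nlinarith
    refine ih _ hlt (G ⧸ N) rfl (quo φ N hN) (quo_fpf φ hφ N hN) ?_
    intro x
    obtain ⟨x, rfl⟩ := QuotientGroup.mk_surjective x
    rw [quo_iterate, hrφ]
  suffices hsol : Group.IsSolvable G from
    isNilpotent_of_isSolvable φ hφ r hr hrφ hsub hquo hsol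
  by_cases hodd : ∃ p : ℕ, p.Prime ∧ p ≠ 2 ∧ p ∣ Nat.card G
  · obtain ⟨p, hp, hp2, hpdvd⟩ := hodd
    have hpf : Fact p.Prime := ⟨hp⟩
    obtain ⟨P, hPφ⟩ := Cfsg.Agent.S0031.aux φ hφ p
    have hP : Inv φ (P : Subgroup G) := hPφ
    have hP1 : (P : Subgroup G) ≠ ⊥ := P.ne_bot_of_dvd_card hpdvd
    set W : Subgroup G := Z 0 (P : Subgroup G) with hW
    have hWinv : Inv φ W := by
      unfold Inv
      rw [hW, Z_map, hP]
    have hW1 : W ≠ ⊥ := Z_ne_bot _ P.2 hP1
    have hWp : IsPGroup p W := P.2.to_le Z_le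
    by_cases hM : Subgroup.normalizer (W : Set G) = ⊤
    · have hWn : W.Normal := Subgroup.normalizer_eq_top_iff.1 hM
      have hq : Group.IsNilpotent (G ⧸ W) := hquo W hWinv hW1
      have hWnil : Group.IsNilpotent W := hWp.isNilpotent
      refine Group.isSolvable_of_ker_le_range W.subtype (QuotientGroup.mk' W) ?_
      rw [QuotientGroup.ker_mk', Subgroup.range_subtype]
    · have hMnil : Group.IsNilpotent (Subgroup.normalizer (W : Set G)) :=
        hsub _ hWinv.normalizer hM
      have h1 : Cfsg.HasNormalPComplement p ↥(Subgroup.normalizer (W : Set G)) :=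
        hasNormalPComplement_of_isNilpotent p
      have h2 : Cfsg.HasNormalPComplement p G := hGT G p hp2 P h1
      obtain ⟨K, hKn, hKcop, k, hKk⟩ :=
        Cfsg.Agent.Lib.Helper13.hasNormalPComplement_iff_exists.1 h2
      have hKinv : Inv φ K := by
        have hle : K.map φ.toMonoidHom ≤ K := by
          rintro _ ⟨x, hx, rfl⟩
          apply Cfsg.Agent.Lib.Helper13.mem_of_coprime_of_index_pow K hKk
          have h3 : orderOf (φ.toMonoidHom x) = orderOf x :=
            orderOf_injective φ.toMonoidHom φ.injective x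
          rw [h3]
          have h4 : orderOf x ∣ Nat.card K := by
            have : orderOf (⟨x, hx⟩ : K) ∣ Nat.card K := orderOf_dvd_natCard _
            rwa [Subgroup.orderOf_mk] at this
          exact Nat.Coprime.coprime_dvd_left h4 hKcop
        exact Subgroup.eq_of_le_of_card_ge hle
          (le_of_eq (Subgroup.card_map_of_injective φ.injective).symm)
      have hKtop : K ≠ ⊤ := by
        intro ht
        have h3 : Nat.card K = Nat.card G := by
          rw [ht]
          exact Subgroup.card_top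
        rw [h3] at hKcop
        exact (Nat.Prime.coprime_iff_not_dvd hp).1 hKcop.symm hpdvd
      have hKnil : Group.IsNilpotent K := hsub K hKinv hKtop
      have hqp : IsPGroup p (G ⧸ K) := by
        apply IsPGroup.of_card (n := k)
        rw [← hKk, Subgroup.index]
      have hqnil : Group.IsNilpotent (G ⧸ K) := hqp.isNilpotent
      refine Group.isSolvable_of_ker_le_range K.subtype (QuotientGroup.mk' K) ?_
      rw [QuotientGroup.ker_mk', Subgroup.range_subtype]
  · push Not at hodd
    have h2 : Nat.card G = 2 ^ (Nat.card G).primeFactorsList.length := by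
      apply Nat.eq_prime_pow_of_unique_prime_dvd Nat.card_pos.ne'
      intro d hd hdvd
      by_contra hne
      exact hodd d hd hne hdvd
    have h2g : IsPGroup 2 G := IsPGroup.of_card h2
    have hnil : Group.IsNilpotent G := h2g.isNilpotent
    infer_instance

/-- Thompson's theorem from the Glauberman–Thompson hypothesis -/
theorem thompson_of_GT (hGT : GTHyp.{u}) {G : Type u} [Group G] [Finite G] (φ : G ≃* G)
    (hφ : MonoidHom.FixedPointFree (φ : G →* G)) (p : ℕ) (hp : p.Prime) (hord : orderOf φ = p) :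
    Group.IsNilpotent G := by
  refine thompson_aux hGT p hp _ G rfl φ hφ ?_
  have h1 : φ ^ p = 1 := by rw [← hord]; exact pow_orderOf_eq_one φ
  have h2 : ∀ (i : ℕ) (x : G), (φ ^ i) x = (⇑φ)^[i] x := by
    intro i
    induction i with
    | zero => intro x; rfl
    | succ i ihi =>
      intro x
      rw [pow_succ', MulAut.mul_apply, ihi, Function.iterate_succ_apply']
  intro x
  rw [← h2, h1]
  rfl

end Cfsg.Agent.Lib.Lead.Fpf
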