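import Mathlib
import Cfsg.Agent.Lib.Helper17.PResidual
import Cfsg.Agent.Lib.Helper1.Frattini
import Cfsg.Agent.Lib.Helper16.SylowInf

/-!
Tate's theorem via splitting of central extensions (transfer argument).

`tate_core`: let `K = O^p(G)`, `V ≤ G` of index prime to `p`, `R` a finite `p`-group,
`π : V →* R`, `ρ : R →* G ⧸ K` with `ρ ∘ π = mk`; if `ker ρ` is central in `R` and contained
in the Frattini subgroup of `R`, then `ρ` is injective.
-/

set_option autoImplicit false

namespace Cfsg.Agent.Lib.Lead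

open Subgroup Cfsg Cfsg.Agent.Lib.Helper17
open scoped IsMulCommutative commutatorElement

section Core

variable {G : Type*} [Group G] [Finite G] {p : ℕ} [Fact p.Prime]
variable {R : Type*} [Group R] [Finite R]

theorem tate_core (hR : IsPGroup p R) (V : Subgroup G) (hV : ¬ p ∣ V.index)
    (π : V →* R) (ρ : R →* G ⧸ pResidual p G)
    (hρπ : ∀ v : V, ρ (π v) = ((v : G) : G ⧸ pResidual p G))
    (hcent : ρ.ker ≤ center R) (hfrat : ρ.ker ≤ frattini R) : Function.Injective ρ := by
  classical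
  have hp : p.Prime := Fact.out
  set K := pResidual p G with hK
  -- `G = V K`
  have hVK : V ⊔ K = ⊤ := sup_eq_top_of_index_coprime hV quotient_pResidual_isPGroup
  have hρsurj : ∀ g : G, ∃ v : V, ((g : G) : G ⧸ K) = ρ (π v) := by
    intro g
    have hg : g ∈ V ⊔ K := hVK ▸ mem_top g
    rw [mem_sup_of_normal_right] at hg
    obtain ⟨v, hv, k, hk, rfl⟩ := hg
    refine ⟨⟨v, hv⟩, ?_⟩
    rw [hρπ, QuotientGroup.mk_mul, (QuotientGroup.eq_one_iff k).2 hk, mul_one]
  -- the pull-back extension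
  let φ : G × R →* G ⧸ K := (QuotientGroup.mk' K).comp (MonoidHom.fst G R)
  let ψ : G × R →* G ⧸ K := ρ.comp (MonoidHom.snd G R)
  let E : Subgroup (G × R) := φ.eqLocus ψ
  have hE : ∀ x : E, (((x : G × R).1 : G) : G ⧸ K) = ρ (x : G × R).2 := fun x => x.2
  let fstE : E →* G := (MonoidHom.fst G R).comp E.subtype
  let sndE : E →* R := (MonoidHom.snd G R).comp E.subtype
  have hfst_surj : Function.Surjective fstE := by
    intro g
    obtain ⟨v, hv⟩ := hρsurj g
    exact ⟨⟨(g, π v), hv⟩, rfl⟩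
  -- the subgroup over `V`
  let S : Subgroup E := V.comap fstE
  have hSidx : S.index = V.index := index_comap_of_surjective V hfst_surj
  let A : Subgroup (center R) := (ρ.ker).subgroupOf (center R)
  have hker_of : ∀ s : S, (π ⟨fstE (s : E), s.2⟩)⁻¹ * sndE (s : E) ∈ ρ.ker := by
    intro s
    rw [MonoidHom.mem_ker, map_mul, map_inv, hρπ]
    have := hE (s : E)
    change (((s : E) : G × R).1 : G ⧸ K)⁻¹ * ρ ((s : E) : G × R).2 = 1
    rw [← this, inv_mul_cancel]
  let projFun : S → A := fun s =>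
    ⟨⟨(π ⟨fstE (s : E), s.2⟩)⁻¹ * sndE (s : E), hcent (hker_of s)⟩, mem_subgroupOf.2 (hker_of s)⟩
  have hproj_val : ∀ s : S, (((projFun s : A) : center R) : R) =
      (π ⟨fstE (s : E), s.2⟩)⁻¹ * sndE (s : E) := fun s => rfl
  let proj : S →* A := MonoidHom.mk' projFun (by
    intro s t
    apply Subtype.ext
    apply Subtype.ext
    have hz : (π ⟨fstE (s : E), s.2⟩)⁻¹ * sndE (s : E) ∈ center R := hcent (hker_of s)
    have hst : (⟨fstE ((s * t : S) : E), (s * t).2⟩ : V) =
        ⟨fstE (s : E), s.2⟩ * ⟨fstE (t : E), t.2⟩ := by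
      apply Subtype.ext
      simp
    change (π ⟨fstE ((s * t : S) : E), (s * t).2⟩)⁻¹ * sndE ((s * t : S) : E) =
      ((π ⟨fstE (s : E), s.2⟩)⁻¹ * sndE (s : E)) * ((π ⟨fstE (t : E), t.2⟩)⁻¹ * sndE (t : E))
    rw [hst, map_mul, mul_inv_rev, Subgroup.coe_mul, map_mul]
    have hc := (mem_center_iff.1 hz) (π ⟨fstE (t : E), t.2⟩)⁻¹
    calc (π ⟨fstE (t : E), t.2⟩)⁻¹ * (π ⟨fstE (s : E), s.2⟩)⁻¹ * (sndE (s : E) * sndE (t : E))
        = ((π ⟨fstE (t : E), t.2⟩)⁻¹ * ((π ⟨fstE (s : E), s.2⟩)⁻¹ * sndE (s : E))) *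
            sndE (t : E) := by group
      _ = (((π ⟨fstE (s : E), s.2⟩)⁻¹ * sndE (s : E)) * (π ⟨fstE (t : E), t.2⟩)⁻¹) *
            sndE (t : E) := by rw [hc]
      _ = _ := by group)
  let τ : E →* A := MonoidHom.transfer (G := E) (H := S) (A := A) proj
  have hτker : ∀ e : E, (((τ e : A) : center R) : R) ∈ ρ.ker := fun e => mem_subgroupOf.1 (τ e).2
  have hτcen : ∀ e : E, (((τ e : A) : center R) : R) ∈ center R := fun e => (τ e : center R).2
  -- central elements
  have hzE : ∀ z : R, z ∈ ρ.ker → ((1 : G), z) ∈ E := by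
    intro z hz
    change (QuotientGroup.mk' K) 1 = ρ z
    rw [map_one, MonoidHom.mem_ker.1 hz]
  have hτz : ∀ (z : R) (hz : z ∈ ρ.ker),
      (((τ ⟨(1, z), hzE z hz⟩ : A) : center R) : R) = z ^ V.index := by
    intro z hz
    have hzc : z ∈ center R := hcent hz
    have key : ∀ (k : ℕ) (g₀ : E), g₀⁻¹ * (⟨(1, z), hzE z hz⟩ : E) ^ k * g₀ ∈ S →
        g₀⁻¹ * (⟨(1, z), hzE z hz⟩ : E) ^ k * g₀ = (⟨(1, z), hzE z hz⟩ : E) ^ k := by
      intro k g₀ _
      apply Subtype.ext
      apply Prod.ext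
      · simp
      · have hzk : z ^ k ∈ center R := pow_mem hzc k
        have := (mem_center_iff.1 hzk) ((g₀ : G × R).2)
        simp only [Subgroup.coe_mul, Subgroup.coe_inv, Subgroup.coe_pow, Prod.snd_mul,
          Prod.snd_inv, Prod.pow_snd]
        rw [mul_assoc, ← this, inv_mul_cancel_left]
    have h1 := MonoidHom.transfer_eq_pow proj (⟨(1, z), hzE z hz⟩ : E) key
    change (((MonoidHom.transfer proj (⟨(1, z), hzE z hz⟩ : E) : A) : center R) : R) = _
    rw [h1]
    have h3 : ∀ s : S, ((s : E) : G × R).1 = 1 →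
        (((proj s : A) : center R) : R) = sndE (s : E) := by
      intro s hs
      change (π ⟨fstE (s : E), s.2⟩)⁻¹ * sndE (s : E) = sndE (s : E)
      have : (⟨fstE (s : E), s.2⟩ : V) = 1 := Subtype.ext hs
      rw [this, map_one, inv_one, one_mul]
    rw [h3 _ (by simp)]
    simp [sndE, hSidx]
  -- the `m`-th root
  obtain ⟨a, ha⟩ := hR.exists_card_eq
  have hcop : Nat.Coprime V.index (Nat.card R) := by
    rw [ha]
    exact Nat.Coprime.pow_right a ((Nat.Prime.coprime_iff_not_dvd hp).2 hV).symm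
  set sI : ℤ := Nat.gcdA V.index (Nat.card R) with hsI
  set tI : ℤ := Nat.gcdB V.index (Nat.card R) with htI
  have hbez : (1 : ℤ) = V.index * sI + Nat.card R * tI := by
    have := Nat.gcd_eq_gcd_ab V.index (Nat.card R)
    rw [hcop.gcd_eq_one] at this
    exact_mod_cast this
  have hroot : ∀ z : R, (z ^ V.index) ^ sI = z := by
    intro z
    have h1 : (z ^ V.index) ^ sI = z ^ ((V.index : ℤ) * sI) := by
      rw [zpow_mul, zpow_natCast]
    have h2 : ((V.index : ℤ) * sI) = 1 - Nat.card R * tI := by linarith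
    rw [h1, h2, zpow_sub, zpow_one, zpow_mul, zpow_natCast, pow_card_eq_one', one_zpow, inv_one, mul_one]
  let cFun : E → R := fun e => ((((τ e : A) : center R) : R) ^ sI)⁻¹
  have hc_cen : ∀ e, cFun e ∈ center R := fun e => inv_mem (zpow_mem (hτcen e) sI)
  have hc_ker : ∀ e, cFun e ∈ ρ.ker := fun e => inv_mem (zpow_mem (hτker e) sI)
  have hc_mul : ∀ e₁ e₂, cFun (e₁ * e₂) = cFun e₁ * cFun e₂ := by
    intro e₁ e₂
    change ((((τ (e₁ * e₂) : A) : center R) : R) ^ sI)⁻¹ = _
    rw [map_mul]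
    change (((((τ e₁ : A) : center R) : R) * (((τ e₂ : A) : center R) : R)) ^ sI)⁻¹ = _
    have hcomm : Commute ((((τ e₁ : A) : center R) : R)) ((((τ e₂ : A) : center R) : R)) :=
      ((mem_center_iff.1 (hτcen e₁)) _).symm
    rw [hcomm.mul_zpow, mul_inv_rev]
    exact ((mem_center_iff.1 (hc_cen e₁)) (cFun e₂))
  let θ : E →* R := MonoidHom.mk' (fun e => sndE e * cFun e) (by
    intro e₁ e₂
    change sndE (e₁ * e₂) * cFun (e₁ * e₂) = (sndE e₁ * cFun e₁) * (sndE e₂ * cFun e₂)
    rw [map_mul, hc_mul]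
    have := (mem_center_iff.1 (hc_cen e₁)) (sndE e₂)
    calc sndE e₁ * sndE e₂ * (cFun e₁ * cFun e₂)
        = sndE e₁ * (sndE e₂ * cFun e₁) * cFun e₂ := by group
      _ = sndE e₁ * (cFun e₁ * sndE e₂) * cFun e₂ := by rw [this]
      _ = _ := by group)
  have hθ_apply : ∀ e, θ e = sndE e * cFun e := fun e => rfl
  have hρθ : ∀ e : E, ρ (θ e) = ((fstE e : G) : G ⧸ K) := by
    intro e
    rw [hθ_apply, map_mul, MonoidHom.mem_ker.1 (hc_ker e), mul_one]
    exact (hE e).symm
  have hθz : ∀ (z : R) (hz : z ∈ ρ.ker), θ ⟨(1, z), hzE z hz⟩ = 1 := by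
    intro z hz
    rw [hθ_apply]
    change z * ((((τ ⟨(1, z), hzE z hz⟩ : A) : center R) : R) ^ sI)⁻¹ = 1
    rw [hτz z hz, hroot, mul_inv_cancel]
  have hker_le : fstE.ker ≤ θ.ker := by
    intro e he
    rw [MonoidHom.mem_ker] at he ⊢
    have hz : ((e : G × R).2) ∈ ρ.ker := by
      rw [MonoidHom.mem_ker, ← hE e]
      have : ((e : G × R).1) = 1 := he
      rw [this]; rfl
    have : e = ⟨(1, (e : G × R).2), hzE _ hz⟩ := by
      apply Subtype.ext
      apply Prod.ext
      · exact he
      · rfl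
    rw [this]
    exact hθz _ hz
  -- `θ` is onto
  have hrange : θ.range = ⊤ := by
    apply frattini_nongenerating
    rw [eq_top_iff]
    intro r _
    obtain ⟨g, hg⟩ := QuotientGroup.mk_surjective (ρ r)
    let e : E := ⟨(g, r), hg⟩
    have h1 : r = θ e * (cFun e)⁻¹ := by
      rw [hθ_apply]
      change r = r * cFun e * (cFun e)⁻¹
      group
    rw [h1]
    exact mul_mem (mem_sup_left ⟨e, rfl⟩) (mem_sup_right (hfrat (inv_mem (hc_ker e))))
  -- the normal subgroup `B` of `G`
  let B : Subgroup G := θ.ker.map fstE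
  have hBn : B.Normal := Subgroup.Normal.map (MonoidHom.normal_ker θ) fstE hfst_surj
  have hBidx : B.index = Nat.card R := by
    rw [index_map_eq _ hfst_surj hker_le, index_ker, hrange, card_top]
  have hKB : K ≤ B := by
    apply pResidual_le_of_quotient_isPGroup
    apply IsPGroup.of_card (n := a)
    rw [← index_eq_card, hBidx, ha]
  have hBK : B ≤ K := by
    rintro x ⟨e, he, rfl⟩
    rw [← QuotientGroup.eq_one_iff, ← hρθ e, MonoidHom.mem_ker.1 he, map_one]
  have hKidx : K.index = Nat.card R := by rw [le_antisymm hKB hBK, hBidx]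
  have hsurj : Function.Surjective ρ := by
    intro y
    obtain ⟨g, rfl⟩ := QuotientGroup.mk_surjective y
    obtain ⟨v, hv⟩ := hρsurj g
    exact ⟨π v, hv.symm⟩
  have hbij := hsurj.bijective_of_nat_card_le (by rw [← index_eq_card, hKidx])
  exact hbij.1

end Core

section General

/-- In a nilpotent group, a subgroup `N` with `N ≤ ⁅N, ⊤⁆` is trivial. -/
theorem eq_bot_of_le_commutator_top {Q : Type*} [Group Q] [hQ : Group.IsNilpotent Q]
    (N : Subgroup Q) (h : N ≤ ⁅N, (⊤ : Subgroup Q)⁆) : N = ⊥ := by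
  have key : ∀ n, N ≤ (⊤ : Subgroup Q).lowerCentralSeries n := by
    intro n
    induction n with
    | zero => exact le_top
    | succ n ih =>
      rw [Subgroup.lowerCentralSeries_succ]
      exact h.trans (Subgroup.commutator_mono ih le_rfl)
  obtain ⟨n, hn⟩ := Subgroup.nilpotent_iff_lowerCentralSeries.1 hQ
  rw [eq_bot_iff, ← hn]
  exact key n

/-- The subgroup generated by commutators and `p`-th powers. -/
def frattiniP (p : ℕ) (V : Type*) [Group V] : Subgroup V :=
  _root_.commutator V ⊔ Subgroup.closure (Set.range fun x : V => x ^ p)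

theorem map_frattiniP_le_frattini {p : ℕ} [Fact p.Prime] {V R : Type*} [Group V] [Group R]
    [Finite R] (hR : IsPGroup p R) (f : V →* R) : (frattiniP p V).map f ≤ frattini R := by
  unfold frattiniP
  rw [Subgroup.map_sup]
  apply sup_le
  · refine le_trans ?_ (Cfsg.Agent.Lib.Helper1.IsPGroup.commutator_le_frattini hR)
    rw [_root_.commutator, _root_.commutator, Subgroup.map_commutator]
    exact Subgroup.commutator_mono le_top le_top
  · rw [MonoidHom.map_closure, Subgroup.closure_le]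
    rintro _ ⟨_, ⟨x, rfl⟩, rfl⟩
    change f (x ^ p) ∈ frattini R
    rw [map_pow]
    exact Cfsg.Agent.Lib.Helper1.IsPGroup.pow_mem_frattini hR (f x)

theorem frattini_le_frattiniP {p : ℕ} [Fact p.Prime] {P : Type*} [Group P] [Finite P] :
    frattini P ≤ frattiniP p P := by
  apply Cfsg.Agent.Lib.Helper1.frattini_le_of_commutator_le_of_pow_mem (p := p)
  · exact le_sup_left
  · intro x
    exact (le_sup_right : _ ≤ frattiniP p P) (Subgroup.subset_closure ⟨x, rfl⟩)

variable {G : Type*} [Group G] [Finite G] {p : ℕ} [Fact p.Prime]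

/-- **Tate's theorem**, general form: if `V ≤ G` has index prime to `p` and `V ∩ O^p(G)` lies in
the subgroup of `V` generated by commutators and `p`-th powers, then `V ∩ O^p(G) = O^p(V)`. -/
theorem tate_general (V : Subgroup G) (hV : ¬ p ∣ V.index)
    (h : (pResidual p G).subgroupOf V ≤ frattiniP p V) :
    (pResidual p G).subgroupOf V ≤ pResidual p V := by
  set K := pResidual p G with hK
  set N' : Subgroup V := K.subgroupOf V with hN'
  set L' : Subgroup V := pResidual p V with hL'
  have hLN : L' ≤ N' := by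
    apply pResidual_le_of_forall_pow_mem
    intro v
    obtain ⟨k, hk⟩ := exists_pow_mem_pResidual (p := p) (v : G)
    exact ⟨k, by rw [hN', mem_subgroupOf]; simpa using hk⟩
  set M' : Subgroup V := ⁅N', (⊤ : Subgroup V)⁆ ⊔ L' with hM'
  have hMN : M' ≤ N' := sup_le (Subgroup.commutator_le_left N' ⊤) hLN
  have hMn : M'.Normal := inferInstance
  let R := V ⧸ M'
  have hR : IsPGroup p R := by
    intro x
    induction x using QuotientGroup.induction_on with
    | H v =>
      obtain ⟨k, hk⟩ := exists_pow_mem_pResidual (p := p) v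
      refine ⟨k, ?_⟩
      rw [← QuotientGroup.mk_pow]
      exact (QuotientGroup.eq_one_iff _).2 (le_sup_right (a := ⁅N', (⊤ : Subgroup V)⁆) hk)
  let π : V →* R := QuotientGroup.mk' M'
  let ρ : R →* G ⧸ K := QuotientGroup.lift M' ((QuotientGroup.mk' K).comp V.subtype) (by
    intro x hx
    have : (x : G) ∈ K := mem_subgroupOf.1 (hMN hx)
    rw [MonoidHom.mem_ker]
    exact (QuotientGroup.eq_one_iff _).2 this)
  have hρπ : ∀ v : V, ρ (π v) = ((v : G) : G ⧸ K) := fun v => rfl
  have hker : ∀ r ∈ ρ.ker, ∃ n ∈ N', π n = r := by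
    intro r hr
    induction r using QuotientGroup.induction_on with
    | H v =>
      refine ⟨v, ?_, rfl⟩
      rw [MonoidHom.mem_ker] at hr
      rw [hN', mem_subgroupOf]
      exact (QuotientGroup.eq_one_iff _).1 hr
  have hcent : ρ.ker ≤ center R := by
    intro r hr
    obtain ⟨n, hn, rfl⟩ := hker r hr
    rw [mem_center_iff]
    intro r'
    induction r' using QuotientGroup.induction_on with
    | H v =>
      have h1 : ⁅n, v⁆ ∈ M' :=
        le_sup_left (b := L') (Subgroup.commutator_mem_commutator hn (mem_top v))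
      have h2 : π ⁅n, v⁆ = 1 := (QuotientGroup.eq_one_iff _).2 h1
      rw [commutatorElement_def, map_mul, map_mul, map_mul, map_inv, map_inv] at h2
      have h3 : π n * π v = π v * π n := by
        have := congrArg (fun t => t * π v * π n) h2
        simpa [mul_assoc] using this
      exact h3.symm
  have hfrat : ρ.ker ≤ frattini R := by
    intro r hr
    obtain ⟨n, hn, rfl⟩ := hker r hr
    exact map_frattiniP_le_frattini hR π (mem_map_of_mem π (h hn))
  have hinj := tate_core hR V hV π ρ hρπ hcent hfrat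
  have hNM : N' ≤ M' := by
    intro n hn
    have h1 : ρ (π n) = ρ 1 := by
      rw [hρπ, map_one]
      exact (QuotientGroup.eq_one_iff _).2 (mem_subgroupOf.1 hn)
    have h2 : π n = 1 := hinj h1
    exact (QuotientGroup.eq_one_iff _).1 h2
  -- pass to the `p`-group `V ⧸ L'`
  have hQp : IsPGroup p (V ⧸ L') := quotient_pResidual_isPGroup
  have : Group.IsNilpotent (V ⧸ L') := hQp.isNilpotent
  have hbar : N'.map (QuotientGroup.mk' L') ≤
      ⁅N'.map (QuotientGroup.mk' L'), (⊤ : Subgroup (V ⧸ L'))⁆ := by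
    have h1 := Subgroup.map_mono (f := QuotientGroup.mk' L') hNM
    rw [hM', Subgroup.map_sup, Subgroup.map_commutator, QuotientGroup.map_mk'_self,
      sup_bot_eq, Subgroup.map_top_of_surjective _ (QuotientGroup.mk'_surjective L')] at h1
    exact h1
  have hbot := eq_bot_of_le_commutator_top _ hbar
  intro n hn
  have : (QuotientGroup.mk' L') n ∈ N'.map (QuotientGroup.mk' L') := mem_map_of_mem _ hn
  rw [hbot, mem_bot] at this
  exact (QuotientGroup.eq_one_iff _).1 this

end General

section Sylow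

theorem map_frattiniP_le {p : ℕ} {V W : Type*} [Group V] [Group W] (f : V →* W) :
    (frattiniP p V).map f ≤ frattiniP p W := by
  unfold frattiniP
  rw [Subgroup.map_sup]
  apply sup_le_sup
  · rw [_root_.commutator, _root_.commutator, Subgroup.map_commutator]
    exact Subgroup.commutator_mono le_top le_top
  · rw [MonoidHom.map_closure]
    apply Subgroup.closure_mono
    rintro _ ⟨_, ⟨x, rfl⟩, rfl⟩
    exact ⟨f x, (map_pow f x p).symm⟩

theorem pResidual_eq_bot_of_isPGroup {p : ℕ} [Fact p.Prime] {P : Type*} [Group P]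
    (hP : IsPGroup p P) : pResidual p P = ⊥ := by
  unfold pResidual
  rw [eq_bot_iff, Subgroup.closure_le]
  intro g hg
  obtain ⟨k, hk⟩ := hP g
  have h1 : orderOf g ∣ p ^ k := orderOf_dvd_of_pow_eq_one hk
  have h2 : (orderOf g).Coprime (p ^ k) := Nat.Coprime.pow_right k hg
  have h3 : orderOf g = 1 := Nat.Coprime.eq_one_of_dvd h2 h1
  exact orderOf_eq_one_iff.1 h3

variable {G : Type*} [Group G] [Finite G] {p : ℕ} [Fact p.Prime]

/-- **Tate's theorem** for `G = N P`: if `N ∩ P ≤ ⟨P', P^p⟩` then `O^p(G) ≤ N` is a `p'`-group. -/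
theorem tate_sup_eq_top (P : Sylow p G) (N : Subgroup G) [N.Normal]
    (hNP : N ⊔ (P : Subgroup G) = ⊤)
    (h : N ⊓ (P : Subgroup G) ≤ (frattiniP p (P : Subgroup G)).map (P : Subgroup G).subtype) :
    pResidual p G ≤ N ∧ (Nat.card (pResidual p G)).Coprime p := by
  have hp : p.Prime := Fact.out
  have hKN : pResidual p G ≤ N := by
    apply pResidual_le_of_forall_pow_mem
    intro g
    have hg : g ∈ N ⊔ (P : Subgroup G) := hNP ▸ mem_top g
    rw [mem_sup_of_normal_left] at hg
    obtain ⟨n, hn, y, hy, rfl⟩ := hg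
    obtain ⟨k, hk⟩ := P.2 ⟨y, hy⟩
    have hk' : y ^ p ^ k = 1 := by
      have := congrArg Subtype.val hk
      simpa using this
    refine ⟨k, ?_⟩
    rw [← QuotientGroup.eq_one_iff, QuotientGroup.mk_pow, QuotientGroup.mk_mul,
      (QuotientGroup.eq_one_iff n).2 hn, one_mul, ← QuotientGroup.mk_pow, hk']
    rfl
  refine ⟨hKN, ?_⟩
  have h1 : (pResidual p G).subgroupOf (P : Subgroup G) ≤ frattiniP p (P : Subgroup G) := by
    intro x hx
    have hx' : (x : G) ∈ N ⊓ (P : Subgroup G) := ⟨hKN (mem_subgroupOf.1 hx), x.2⟩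
    obtain ⟨f, hf, hfx⟩ := h hx'
    have : f = x := Subtype.ext hfx
    rwa [← this]
  have h2 := tate_general (P : Subgroup G) P.not_dvd_index h1
  rw [pResidual_eq_bot_of_isPGroup P.2] at h2
  -- the Sylow `p`-subgroup `P ∩ K` of `K` is trivial
  have h3 : ((Cfsg.Agent.Lib.Helper16.sylowInf P (pResidual p G) : Sylow p (pResidual p G)) :
      Subgroup (pResidual p G)) = ⊥ := by
    rw [Cfsg.Agent.Lib.Helper16.coe_sylowInf, eq_bot_iff]
    intro x hx
    have hxP : (x : G) ∈ (P : Subgroup G) := mem_subgroupOf.1 hx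
    have : (⟨(x : G), hxP⟩ : (P : Subgroup G)) ∈ (pResidual p G).subgroupOf (P : Subgroup G) :=
      mem_subgroupOf.2 x.2
    have h4 := h2 this
    rw [mem_bot] at h4 ⊢
    apply Subtype.ext
    have h6 : (x : G) = 1 := congrArg (fun z : (P : Subgroup G) => (z : G)) h4
    exact h6
  have h5 := (Cfsg.Agent.Lib.Helper16.sylowInf P (pResidual p G)).card_eq_multiplicity
  rw [h3, Subgroup.card_bot] at h5
  rw [Nat.coprime_comm, Nat.Prime.coprime_iff_not_dvd hp]
  intro hdvd
  have hpos : 0 < (Nat.card (pResidual p G)).factorization p :=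
    hp.factorization_pos_of_dvd Nat.card_pos.ne' hdvd
  have : 1 < p ^ (Nat.card (pResidual p G)).factorization p :=
    Nat.one_lt_pow hpos.ne' hp.one_lt
  omega

end Sylow

end Cfsg.Agent.Lib.Lead
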