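import Mathlib

/-!
Focal subgroup theorem for a subgroup `H` whose index is coprime to the order of `H / H*`
(generalising Mathlib's Sylow version), with the transfer kernel as a normal "complement".
-/

set_option autoImplicit false
open scoped commutatorElement

namespace Cfsg.Agent.Lib.Lead

open Subgroup

variable {G : Type*} [Group G] (H : Subgroup G) [H.FiniteIndex]

/-- The power map by the index is a bijection of `H / H*` when its order is coprime to the index. -/
lemma focal_pow_index_bijective [Finite H]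
    (hc : (Nat.card (H ⧸ H.focalSubgroupOf)).Coprime H.index) :
    Function.Bijective fun y : H ⧸ H.focalSubgroupOf => y ^ H.index :=
  (powCoprime hc).bijective

lemma ker_restrict_transferFocal [Finite H]
    (hc : (Nat.card (H ⧸ H.focalSubgroupOf)).Coprime H.index) :
    (H.transferFocal.domRestrict H).ker = H.focalSubgroupOf := by
  ext g
  rw [MonoidHom.mem_ker, MonoidHom.domRestrict_apply, transferFocal_eq_pow]
  have hb := (focal_pow_index_bijective H hc).1
  constructor
  · intro h
    have : (g : H ⧸ H.focalSubgroupOf) = 1 := hb (by simpa using h)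
    exact (QuotientGroup.eq_one_iff g).1 this
  · intro h
    have : (g : H ⧸ H.focalSubgroupOf) = 1 := (QuotientGroup.eq_one_iff g).2 h
    rw [this, one_pow]

lemma ker_transferFocal_inf [Finite H]
    (hc : (Nat.card (H ⧸ H.focalSubgroupOf)).Coprime H.index) :
    H.transferFocal.ker ⊓ H = H.focalSubgroup := by
  rw [← subgroupOf_map_subtype, ← MonoidHom.ker_domRestrict, ← map_focalSubgroupOf]
  exact congr_arg _ (ker_restrict_transferFocal H hc)

open scoped IsMulCommutative in
/-- Generalised focal subgroup theorem. -/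
theorem commutator_inf_eq_focal [Finite H]
    (hc : (Nat.card (H ⧸ H.focalSubgroupOf)).Coprime H.index) :
    _root_.commutator G ⊓ H = H.focalSubgroup := by
  apply le_antisymm
  · apply le_trans ?_ (ker_transferFocal_inf H hc).le
    exact inf_le_inf_right _ (Abelianization.commutator_subset_ker H.transferFocal)
  · exact le_inf H.focalSubgroup_le_commutator H.focalSubgroup_le

/-- The kernel of the transfer into `H / H*` together with `H` generates `G`. -/
theorem ker_transferFocal_sup [Finite H]
    (hc : (Nat.card (H ⧸ H.focalSubgroupOf)).Coprime H.index) :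
    H.transferFocal.ker ⊔ H = ⊤ := by
  rw [eq_top_iff]
  intro g _
  obtain ⟨y, hy⟩ := (focal_pow_index_bijective H hc).2 (H.transferFocal g)
  obtain ⟨h, rfl⟩ := QuotientGroup.mk'_surjective _ y
  have h1 : H.transferFocal (h : G) = H.transferFocal g := by
    rw [transferFocal_eq_pow]; exact hy
  have h2 : g * (h : G)⁻¹ ∈ H.transferFocal.ker := by
    rw [MonoidHom.mem_ker, map_mul, map_inv, h1, mul_inv_cancel]
  have : g = (g * (h : G)⁻¹) * (h : G) := by group
  rw [this]
  exact mul_mem (mem_sup_left h2) (mem_sup_right h.2)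

/-- `|H / H*|` divides `|H / H'|`. -/
lemma card_quot_focal_dvd [Finite H] :
    Nat.card (H ⧸ H.focalSubgroupOf) ∣ (⁅H, H⁆).relIndex H := by
  have h1 : (⁅H, H⁆).relIndex H = (_root_.commutator H).index := by
    rw [relIndex, ← map_subtype_commutator]
    congr 1
    ext x
    simp [mem_subgroupOf]
  rw [h1, ← index_eq_card]
  exact index_dvd_of_le H.commutator_le_focalSubgroupOf

end Cfsg.Agent.Lib.Lead

namespace Cfsg.Agent.Lib.Lead

open Subgroup

variable {G : Type*} [Group G]

open scoped IsMulCommutative in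
/-- A central element of `G` lying in an abelian Hall subgroup and in `G'` is trivial. -/
theorem eq_one_of_mem_abelianHall_commutator_center [Finite G] (H : Subgroup G)
    [hc : IsMulCommutative H] (hHall : Nat.Coprime (Nat.card H) H.index)
    {z : G} (hzH : z ∈ H) (hzG : z ∈ _root_.commutator G) (hzZ : z ∈ center G) : z = 1 := by
  have key : ∀ (k : ℕ) (g₀ : G), g₀⁻¹ * z ^ k * g₀ ∈ H → g₀⁻¹ * z ^ k * g₀ = z ^ k := by
    intro k g₀ _
    have hk : z ^ k ∈ center G := pow_mem hzZ k
    rw [mem_center_iff] at hk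
    rw [mul_assoc, ← hk g₀, ← mul_assoc, inv_mul_cancel, one_mul]
  have h1 := MonoidHom.transfer_eq_pow (MonoidHom.id H) z key
  have h2 : MonoidHom.transfer (MonoidHom.id H) z = 1 :=
    Abelianization.commutator_subset_ker _ hzG
  rw [h2] at h1
  have h3 : z ^ H.index = 1 := by
    have := congrArg (Subtype.val) h1
    simpa using this.symm
  have h4 : orderOf z ∣ H.index := orderOf_dvd_of_pow_eq_one h3
  have h5 : orderOf z ∣ Nat.card H := by
    have := orderOf_dvd_natCard (⟨z, hzH⟩ : H)
    rwa [Subgroup.orderOf_mk] at this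
  have h6 : orderOf z = 1 := Nat.Coprime.eq_one_of_dvd (Nat.Coprime.coprime_dvd_left h5 hHall) h4
  exact orderOf_eq_one_iff.1 h6

end Cfsg.Agent.Lib.Lead

namespace Cfsg.Agent.Lib.Lead

open Subgroup

variable {G : Type*} [Group G]

open scoped IsMulCommutative in
/-- Averaging over a complement: an abelian normal Hall subgroup `A` is generated by
`Z(G) ⊓ A` and `⁅A, ⊤⁆`. -/
theorem abelianNormalHall_le_center_sup_commutator [Finite G] (A : Subgroup G) [A.Normal]
    [IsMulCommutative A] (hHall : Nat.Coprime (Nat.card A) A.index) :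
    A ≤ (center G ⊓ A) ⊔ ⁅A, (⊤ : Subgroup G)⁆ := by
  classical
  obtain ⟨K, hK⟩ := exists_right_complement'_of_coprime hHall
  have hKcard : Nat.card K = A.index := by
    have h1 := hK.card_mul_card
    have h2 := A.card_mul_index
    have hpos : 0 < Nat.card A := Nat.card_pos
    exact Nat.eq_of_mul_eq_mul_left hpos (h1.trans h2.symm)
  intro a ha
  set S : Subgroup G := (center G ⊓ A) ⊔ ⁅A, (⊤ : Subgroup G)⁆ with hS
  let a' : A := ⟨a, ha⟩
  haveI : Fintype K := Fintype.ofFinite K
  let φ : A := ∏ k : K, MulAut.conjNormal (k : G) a'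
  have hinv : ∀ k0 : K, MulAut.conjNormal (k0 : G) φ = φ := by
    intro k0
    change MulAut.conjNormal (k0 : G) (∏ k : K, MulAut.conjNormal (k : G) a') = _
    rw [map_prod]
    refine Fintype.prod_equiv (Equiv.mulLeft k0) _ _ (fun k => ?_)
    rw [← MulAut.mul_apply, ← map_mul]
    rfl
  have hφZ : (φ : G) ∈ center G := by
    rw [mem_center_iff]
    intro g
    obtain ⟨⟨a1, k1⟩, hx, -⟩ := hK.existsUnique g
    dsimp only at hx
    subst hx
    have h1 : (k1 : G) * φ * (k1 : G)⁻¹ = φ := by
      have := congrArg Subtype.val (hinv k1)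
      simpa using this
    have h2 : (a1 : G) * φ = φ * a1 := by
      have := mul_comm a1 φ
      exact congrArg Subtype.val this
    have h1' : (k1 : G) * φ = φ * k1 := by
      calc (k1 : G) * φ = ((k1 : G) * φ * (k1 : G)⁻¹) * k1 := by group
        _ = φ * k1 := by rw [h1]
    calc (a1 : G) * k1 * φ = a1 * (k1 * φ) := by group
      _ = a1 * (φ * k1) := by rw [h1']
      _ = (a1 * φ) * k1 := by group
      _ = (φ * a1) * k1 := by rw [h2]
      _ = φ * (a1 * k1) := by group
  -- modulo ⁅A, ⊤⁆ every conjugate of a' equals a'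
  let D : Subgroup A := (⁅A, (⊤ : Subgroup G)⁆).subgroupOf A
  let ψ : A →* A ⧸ D := QuotientGroup.mk' D
  have hψ : ∀ k : K, ψ (MulAut.conjNormal (k : G) a') = ψ a' := by
    intro k
    change ((MulAut.conjNormal (k : G) a' : A) : A ⧸ D) = (a' : A ⧸ D)
    rw [eq_comm, QuotientGroup.eq]
    change ((a'⁻¹ * MulAut.conjNormal (k : G) a' : A) : G) ∈ ⁅A, (⊤ : Subgroup G)⁆
    have h3 : ((a'⁻¹ * MulAut.conjNormal (k : G) a' : A) : G) = ⁅a⁻¹, (k : G)⁆ := by
      rw [commutatorElement_def]
      simp [a', MulAut.conjNormal_apply]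
      group
    rw [h3]
    exact commutator_mem_commutator (inv_mem ha) (mem_top _)
  have hψφ : ψ φ = ψ a' ^ A.index := by
    change ψ (∏ k : K, MulAut.conjNormal (k : G) a') = _
    rw [map_prod, Finset.prod_congr rfl (fun k _ => hψ k), Finset.prod_const, Finset.card_univ,
      ← Nat.card_eq_fintype_card, hKcard]
  have h4 : (a' ^ A.index * φ⁻¹ : A) ∈ D := by
    rw [← QuotientGroup.eq_one_iff]
    change ψ (a' ^ A.index * φ⁻¹) = 1
    rw [map_mul, map_pow, map_inv, hψφ, mul_inv_cancel]
  have h5 : a ^ A.index * (φ : G)⁻¹ ∈ ⁅A, (⊤ : Subgroup G)⁆ := by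
    have := h4
    rw [mem_subgroupOf] at this
    simpa [a'] using this
  have h6 : a ^ A.index ∈ S := by
    have : a ^ A.index = (φ : G) * ((φ : G)⁻¹ * a ^ A.index) := by group
    have hcomm : (φ : G)⁻¹ * a ^ A.index = a ^ A.index * (φ : G)⁻¹ := by
      have := mul_comm (φ⁻¹) (a' ^ A.index)
      have := congrArg Subtype.val this
      simpa [a'] using this
    rw [this, hcomm]
    exact mul_mem (mem_sup_left ⟨hφZ, φ.2⟩) (mem_sup_right h5)
  have hcop : (A.index).Coprime (orderOf a) := by
    have h7 : orderOf a ∣ Nat.card A := by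
      have := orderOf_dvd_natCard a'
      rwa [Subgroup.orderOf_mk] at this
    exact (Nat.Coprime.coprime_dvd_left h7 hHall).symm
  obtain ⟨m, hm⟩ := exists_pow_eq_self_of_coprime hcop
  rw [← hm]
  exact pow_mem h6 m

end Cfsg.Agent.Lib.Lead

namespace Cfsg.Agent.Lib.Lead

open Subgroup

variable {G : Type*} [Group G]

/-- For a normal subgroup the focal subgroup is `⁅A, ⊤⁆`. -/
theorem focalSubgroup_eq_commutator_top (A : Subgroup G) [A.Normal] :
    A.focalSubgroup = ⁅A, (⊤ : Subgroup G)⁆ := by
  apply le_antisymm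
  · rw [focalSubgroup_def, closure_le]
    rintro g ⟨_, x, hx, u, rfl⟩
    exact commutator_mem_commutator hx (mem_top u)
  · rw [commutator_le]
    intro x hx u _
    refine subset_closure ⟨?_, x, hx, u, rfl⟩
    have : ⁅x, u⁆ = x * (u * x⁻¹ * u⁻¹) := by rw [commutatorElement_def]; group
    rw [this]
    exact mul_mem hx (Normal.conj_mem inferInstance _ (inv_mem hx) u)

/-- For an abelian normal Hall subgroup, `⁅A, ⊤⁆ = G' ⊓ A`. -/
theorem commutator_top_eq_of_abelianNormalHall [Finite G] (A : Subgroup G) [A.Normal]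
    (hHall : Nat.Coprime (Nat.card A) A.index) :
    ⁅A, (⊤ : Subgroup G)⁆ = _root_.commutator G ⊓ A := by
  have hc : (Nat.card (A ⧸ A.focalSubgroupOf)).Coprime A.index := by
    refine Nat.Coprime.coprime_dvd_left ?_ hHall
    rw [← index_eq_card]
    exact index_dvd_card _
  rw [commutator_inf_eq_focal A hc, focalSubgroup_eq_commutator_top]

end Cfsg.Agent.Lib.Lead
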