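import Mathlib
import Cfsg.Prelude.Def_Solvable
import Cfsg.Agent.Lib.Helper16.PCore
import Cfsg.Agent.Lib.Helper10.PGroup
import Cfsg.Agent.Lib.Helper4.ComplementSystem

/-!
Elements whose conjugacy class has `p`-power size.

* `mem_pCore_of_class_pow`: a `p`-element with a class of `p`-power size lies in `O_p(G)`.
* `commute_of_class_pow`: if every element of a normal `p`-subgroup `D` has a class of `p`-power
  size, then every `p'`-element of `G` centralizes `D`.
-/

set_option autoImplicit false

namespace Cfsg.Agent.Lib.Lead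

open Subgroup

universe u

/-- A `p`-element whose conjugacy class has `p`-power size lies in every Sylow `p`-subgroup
containing it together with all its conjugates; hence it lies in `O_p(G)`. -/
theorem mem_pCore_of_class_pow {G : Type u} [Group G] [Finite G] (p : ℕ) [Fact p.Prime] (x : G)
    (hx : ∃ k : ℕ, x ^ p ^ k = 1) {a : ℕ}
    (hcl : (centralizer ({x} : Set G)).index = p ^ a) : x ∈ Cfsg.pCore p G := by
  have hp : p.Prime := Fact.out
  obtain ⟨k, hk⟩ := hx
  have hxp : IsPGroup p (zpowers x) := by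
    rintro ⟨y, hy⟩
    obtain ⟨i, rfl⟩ := mem_zpowers_iff.1 hy
    refine ⟨k, Subtype.ext ?_⟩
    show (x ^ i) ^ p ^ k = 1
    rw [← zpow_natCast, ← zpow_mul, mul_comm, zpow_mul, zpow_natCast, hk, one_zpow]
  obtain ⟨P, hP⟩ := hxp.exists_le_sylow
  have hxP : x ∈ (P : Subgroup G) := hP (mem_zpowers x)
  have hcop : (P : Subgroup G).index.Coprime (centralizer ({x} : Set G)).index := by
    rw [hcl]
    exact Nat.Coprime.pow_right _ ((Nat.Prime.coprime_iff_not_dvd hp).2 P.not_dvd_index).symm
  have hconj : ∀ g : G, g * x * g⁻¹ ∈ (P : Subgroup G) := by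
    intro g
    obtain ⟨s, hs, c, hc, rfl⟩ :=
      Cfsg.Agent.Lib.Helper4.exists_mul_of_coprime_index (P : Subgroup G) _ hcop g
    have hcx : c * x = x * c := by
      have := mem_centralizer_iff.1 hc x (Set.mem_singleton x)
      exact this.symm
    have e : s * c * x * (s * c)⁻¹ = s * x * s⁻¹ := by
      calc s * c * x * (s * c)⁻¹ = s * (c * x) * c⁻¹ * s⁻¹ := by group
        _ = s * (x * c) * c⁻¹ * s⁻¹ := by rw [hcx]
        _ = s * x * s⁻¹ := by group
    rw [e]
    exact mul_mem (mul_mem hs hxP) (inv_mem hs)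
  have hle : normalClosure ({x} : Set G) ≤ (P : Subgroup G) := by
    rw [normalClosure, closure_le]
    intro y hy
    obtain ⟨b, hb, hby⟩ := Group.mem_conjugatesOfSet_iff.1 hy
    rw [Set.mem_singleton_iff] at hb
    subst hb
    obtain ⟨c, hc⟩ := isConj_iff.1 hby
    rw [← hc]
    exact hconj c
  have hN : IsPGroup p (normalClosure ({x} : Set G)) := P.2.to_le hle
  exact Cfsg.Agent.Lib.Helper16.le_pCore _ normalClosure_normal hN
    (subset_normalClosure (Set.mem_singleton x))

/-- Auxiliary form of `commute_of_class_pow`, by induction on the order of the group. -/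
theorem commute_of_class_pow_aux (p : ℕ) [Fact p.Prime] : ∀ n : ℕ, ∀ (G : Type u) [Group G]
    [Finite G], Nat.card G = n → ∀ D : Subgroup G, D.Normal → IsPGroup p D →
    (∀ d ∈ D, ∃ a : ℕ, (centralizer ({d} : Set G)).index = p ^ a) →
    ∀ g : G, (orderOf g).Coprime p → ∀ d ∈ D, g * d = d * g := by
  intro n
  induction n using Nat.strong_induction_on with
  | _ n ih =>
  intro G _ _ hn D hDn hDp hcl g hg d hd
  have hp : p.Prime := Fact.out
  by_cases hD1 : D = ⊥
  · rw [hD1, mem_bot] at hd
    rw [hd, mul_one, one_mul]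
  obtain ⟨P, hDP⟩ := hDp.exists_le_sylow
  -- a nontrivial element of `D` central in `P`
  have : (D.subgroupOf (P : Subgroup G)).Normal := inferInstance
  have hDP1 : D.subgroupOf (P : Subgroup G) ≠ ⊥ := by
    intro h
    apply hD1
    rw [eq_bot_iff]
    intro y hy
    have : (⟨y, hDP hy⟩ : (P : Subgroup G)) ∈ D.subgroupOf (P : Subgroup G) := mem_subgroupOf.2 hy
    rw [h, mem_bot] at this
    rw [mem_bot]
    exact congrArg Subtype.val this
  have hne := Cfsg.Agent.Lib.Helper10.normal_inf_center_ne_bot P.isPGroup'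
    (D.subgroupOf (P : Subgroup G)) hDP1
  obtain ⟨⟨z, hz⟩, hz1⟩ := (Subgroup.ne_bot_iff_exists_ne_one).1 hne
  have hzD : (z : G) ∈ D := mem_subgroupOf.1 (mem_inf.1 hz).1
  have hzc : ∀ s : (P : Subgroup G), s * z = z * s := (mem_center_iff.1 (mem_inf.1 hz).2)
  have hz1' : ((z : (P : Subgroup G)) : G) ≠ 1 := by
    intro h
    apply hz1
    exact Subtype.ext (Subtype.ext h)
  -- `z` is central in `G`
  have hzG : ((z : (P : Subgroup G)) : G) ∈ center G := by
    obtain ⟨a, ha⟩ := hcl _ hzD
    have hPle : (P : Subgroup G) ≤ centralizer ({((z : (P : Subgroup G)) : G)} : Set G) := by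
      intro s hs
      rw [mem_centralizer_iff]
      intro y hy
      rw [Set.mem_singleton_iff] at hy
      subst hy
      have := hzc ⟨s, hs⟩
      exact (congrArg Subtype.val this).symm
    have hdvd : (centralizer ({((z : (P : Subgroup G)) : G)} : Set G)).index ∣
        (P : Subgroup G).index := index_dvd_of_le hPle
    have ha0 : a = 0 := by
      by_contra h0
      apply P.not_dvd_index
      refine dvd_trans ?_ hdvd
      rw [ha]
      exact dvd_pow_self p h0
    rw [ha0, pow_zero, index_eq_one] at ha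
    rw [mem_center_iff]
    intro y
    have : y ∈ centralizer ({((z : (P : Subgroup G)) : G)} : Set G) := by rw [ha]; exact mem_top y
    exact (mem_centralizer_iff.1 this _ (Set.mem_singleton _)).symm
  -- the central subgroup to factor out
  set Z0 : Subgroup G := D ⊓ center G with hZ0
  have : Z0.Normal := by rw [hZ0]; infer_instance
  have hzZ0 : ((z : (P : Subgroup G)) : G) ∈ Z0 := mem_inf.2 ⟨hzD, hzG⟩
  have hZ0card : 1 < Nat.card Z0 := by
    rw [Subgroup.one_lt_card_iff_ne_bot]
    intro h
    rw [h, mem_bot] at hzZ0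
    exact hz1' hzZ0
  have hlt : Nat.card (G ⧸ Z0) < n := by
    have h1 := Subgroup.card_eq_card_quotient_mul_card_subgroup Z0
    have h2 : 0 < Nat.card (G ⧸ Z0) := Nat.card_pos
    rw [← hn, h1]
    nlinarith
  let π : G →* G ⧸ Z0 := QuotientGroup.mk' Z0
  have hπ : Function.Surjective π := QuotientGroup.mk'_surjective Z0
  have hcl' : ∀ e ∈ D.map π, ∃ a : ℕ, (centralizer ({e} : Set (G ⧸ Z0))).index = p ^ a := by
    rintro _ ⟨d', hd', rfl⟩
    obtain ⟨a, ha⟩ := hcl d' hd'
    have hle : (centralizer ({d'} : Set G)).map π ≤ centralizer ({π d'} : Set (G ⧸ Z0)) := by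
      rintro _ ⟨c, hc, rfl⟩
      rw [mem_centralizer_iff]
      intro y hy
      rw [Set.mem_singleton_iff] at hy
      subst hy
      have := mem_centralizer_iff.1 hc d' (Set.mem_singleton d')
      rw [← map_mul, ← map_mul, this]
    have hdvd : (centralizer ({π d'} : Set (G ⧸ Z0))).index ∣ p ^ a := by
      rw [← ha]
      exact (index_dvd_of_le hle).trans (index_map_dvd _ hπ)
    obtain ⟨j, -, hj⟩ := (Nat.dvd_prime_pow hp).1 hdvd
    exact ⟨j, hj⟩
  have hg' : (orderOf (π g)).Coprime p :=
    Nat.Coprime.coprime_dvd_left (orderOf_map_dvd π g) hg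
  have hquot := ih (Nat.card (G ⧸ Z0)) hlt (G ⧸ Z0) rfl (D.map π) (hDn.map π hπ) (hDp.map π) hcl'
    (π g) hg' (π d) (mem_map_of_mem π hd)
  rw [← map_mul, ← map_mul] at hquot
  have hz1Z : (g * d)⁻¹ * (d * g) ∈ Z0 := QuotientGroup.eq.1 hquot
  set z1 : G := (g * d)⁻¹ * (d * g) with hz1def
  have hz1D : z1 ∈ D := (mem_inf.1 hz1Z).1
  have hz1c : ∀ y : G, y * z1 = z1 * y := mem_center_iff.1 (mem_inf.1 hz1Z).2
  have hdg : d * g = g * d * z1 := by rw [hz1def]; group
  have hpow : ∀ k : ℕ, d * g ^ k = g ^ k * d * z1 ^ k := by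
    intro k
    induction k with
    | zero => simp
    | succ k ihk =>
      have hc : Commute z1 g := (hz1c g).symm
      calc d * g ^ (k + 1) = (d * g ^ k) * g := by rw [pow_succ]; group
        _ = g ^ k * d * z1 ^ k * g := by rw [ihk]
        _ = g ^ k * (d * g) * z1 ^ k := by
            have : z1 ^ k * g = g * z1 ^ k := (hc.pow_left k).eq
            rw [mul_assoc (g ^ k * d), this]; group
        _ = g ^ k * (g * d * z1) * z1 ^ k := by rw [hdg]
        _ = g ^ (k + 1) * d * z1 ^ (k + 1) := by rw [pow_succ, pow_succ']; group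
  have h1 := hpow (orderOf g)
  rw [pow_orderOf_eq_one, mul_one, one_mul] at h1
  have h2 : z1 ^ orderOf g = 1 := by
    have : d * 1 = d * z1 ^ orderOf g := by rw [mul_one]; exact h1
    exact (mul_left_cancel this).symm
  have h3 : orderOf z1 ∣ orderOf g := orderOf_dvd_of_pow_eq_one h2
  obtain ⟨j, hj⟩ := hDp ⟨z1, hz1D⟩
  have h4 : orderOf z1 ∣ p ^ j := by
    apply orderOf_dvd_of_pow_eq_one
    exact congrArg Subtype.val hj
  have h5 : orderOf z1 = 1 := Nat.eq_one_of_dvd_coprimes (Nat.Coprime.pow_right j hg) h3 h4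
  rw [orderOf_eq_one_iff] at h5
  rw [hdg, h5, mul_one]

/-- If every element of a normal `p`-subgroup `D` of the finite group `G` has a conjugacy class of
`p`-power size, then every `p'`-element of `G` centralizes `D`. -/
theorem commute_of_class_pow {G : Type u} [Group G] [Finite G] (p : ℕ) [Fact p.Prime]
    (D : Subgroup G) (hDn : D.Normal) (hDp : IsPGroup p D)
    (hcl : ∀ d ∈ D, ∃ a : ℕ, (centralizer ({d} : Set G)).index = p ^ a)
    (g : G) (hg : (orderOf g).Coprime p) (d : G) (hd : d ∈ D) : g * d = d * g :=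
  commute_of_class_pow_aux p _ G rfl D hDn hDp hcl g hg d hd

end Cfsg.Agent.Lib.Lead
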