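import Mathlib
import Cfsg.Agent.Lib.Helper17.PResidual

/-!
`O^p(G)` (Cfsg.pResidual) versus the derived subgroup, for a Sylow `p`-subgroup `T`.
-/

set_option autoImplicit false
open scoped commutatorElement

namespace Cfsg.Agent.Lib.Lead

open Subgroup Cfsg Cfsg.Agent.Lib.Helper17

variable {G : Type*} [Group G] {p : ℕ}

/-- In a commutative group the elements of order prime to `p` form a subgroup. -/
def pPrimeElements (p : ℕ) (A : Type*) [CommGroup A] : Subgroup A where
  carrier := {y | (orderOf y).Coprime p}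
  one_mem' := by simp
  mul_mem' := by
    intro a b ha hb
    have h1 : orderOf (a * b) ∣ Nat.lcm (orderOf a) (orderOf b) :=
      (Commute.all a b).orderOf_mul_dvd_lcm
    have h2 : (Nat.lcm (orderOf a) (orderOf b)).Coprime p :=
      Nat.Coprime.coprime_dvd_left (Nat.lcm_dvd_mul _ _) (Nat.Coprime.mul_left ha hb)
    exact Nat.Coprime.coprime_dvd_left h1 h2
  inv_mem' := by
    intro a ha
    simpa using ha

/-- A `p`-element of `O^p(G)` ... more precisely: `T ⊓ O^p(G) ≤ G'` for a `p`-subgroup `T`. -/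
theorem isPGroup_inf_pResidual_le_commutator [Fact p.Prime] (T : Subgroup G) (hT : IsPGroup p T) :
    T ⊓ pResidual p G ≤ _root_.commutator G := by
  rintro t ⟨htT, htR⟩
  let π : G →* Abelianization G := Abelianization.of
  have hR : pResidual p G ≤ (pPrimeElements p (Abelianization G)).comap π := by
    unfold pResidual
    rw [closure_le]
    intro g hg
    change (orderOf (π g)).Coprime p
    exact Nat.Coprime.coprime_dvd_left (orderOf_map_dvd π g) hg
  have h1 : (orderOf (π t)).Coprime p := hR htR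
  obtain ⟨k, hk⟩ := hT ⟨t, htT⟩
  have hk' : t ^ p ^ k = 1 := by
    have := congrArg Subtype.val hk
    simpa using this
  have h2 : orderOf (π t) ∣ p ^ k := by
    apply orderOf_dvd_of_pow_eq_one
    rw [← map_pow, hk', map_one]
  have h3 : orderOf (π t) = 1 :=
    Nat.Coprime.eq_one_of_dvd (Nat.Coprime.pow_right k h1) h2
  have h4 : π t = 1 := orderOf_eq_one_iff.1 h3
  have : t ∈ π.ker := h4
  rwa [Abelianization.ker_of] at this

/-- With an abelian Sylow `p`-subgroup, `G / O^p(G)` is abelian. -/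
theorem commutator_le_pResidual_of_abelian_sylow [Finite G] [Fact p.Prime] (T : Sylow p G)
    [hT : IsMulCommutative T] : _root_.commutator G ≤ pResidual p G := by
  rw [← Normal.quotient_commutative_iff_commutator_le]
  have htop := sylow_sup_pResidual T
  constructor
  constructor
  intro x y
  induction x using QuotientGroup.induction_on with
  | H x =>
  induction y using QuotientGroup.induction_on with
  | H y =>
  have hx : x ∈ (T : Subgroup G) ⊔ pResidual p G := htop ▸ mem_top x
  have hy : y ∈ (T : Subgroup G) ⊔ pResidual p G := htop ▸ mem_top y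
  rw [mem_sup_of_normal_right] at hx hy
  obtain ⟨t1, ht1, r1, hr1, rfl⟩ := hx
  obtain ⟨t2, ht2, r2, hr2, rfl⟩ := hy
  have e1 : ((t1 * r1 : G) : G ⧸ pResidual p G) = (t1 : G ⧸ pResidual p G) := by
    rw [QuotientGroup.mk_mul, (QuotientGroup.eq_one_iff r1).2 hr1, mul_one]
  have e2 : ((t2 * r2 : G) : G ⧸ pResidual p G) = (t2 : G ⧸ pResidual p G) := by
    rw [QuotientGroup.mk_mul, (QuotientGroup.eq_one_iff r2).2 hr2, mul_one]
  rw [e1, e2, ← QuotientGroup.mk_mul, ← QuotientGroup.mk_mul]
  have hc : t1 * t2 = t2 * t1 := by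
    have := mul_comm' (⟨t1, ht1⟩ : T) ⟨t2, ht2⟩
    exact congrArg Subtype.val this
  rw [hc]

/-- For an abelian Sylow `p`-subgroup `T`: `G' ⊓ T = ⁅T, N_G(T)⁆`. -/
theorem commutator_inf_abelian_sylow [Finite G] [Fact p.Prime] (T : Sylow p G)
    [hT : IsMulCommutative T] :
    _root_.commutator G ⊓ (T : Subgroup G) = ⁅(T : Subgroup G), normalizer (T : Set G)⁆ := by
  apply le_antisymm
  · rw [Subgroup.commutator_inf_eq_focalSubgroup T]
    rw [Subgroup.focalSubgroup_def, Subgroup.closure_le]
    rintro g ⟨hgP, x, hx, u, rfl⟩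
    have hxi : x⁻¹ ∈ (T : Subgroup G) := inv_mem hx
    have hc : u * x⁻¹ * u⁻¹ ∈ (T : Subgroup G) := by
      have : u * x⁻¹ * u⁻¹ = x⁻¹ * ⁅x, u⁆ := by
        rw [commutatorElement_def]; group
      rw [this]; exact mul_mem hxi hgP
    obtain ⟨n, hn, hn'⟩ := T.conj_eq_normalizer_conj_of_mem x⁻¹ u⁻¹ hxi
      (by simpa using (show u * x⁻¹ * u⁻¹ ∈ T from hc))
    have hniN : n⁻¹ ∈ Subgroup.normalizer ((T : Subgroup G) : Set G) := inv_mem hn
    have : ⁅x, u⁆ = ⁅x, n⁻¹⁆ := by
      rw [commutatorElement_def, commutatorElement_def]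
      have h2 : u * x⁻¹ * u⁻¹ = n⁻¹ * x⁻¹ * n := by simpa using hn'
      calc x * u * x⁻¹ * u⁻¹ = x * (u * x⁻¹ * u⁻¹) := by group
        _ = x * (n⁻¹ * x⁻¹ * n) := by rw [h2]
        _ = x * n⁻¹ * x⁻¹ * n⁻¹⁻¹ := by group
    rw [this]
    exact Subgroup.commutator_mem_commutator hx hniN
  · refine le_inf (Subgroup.commutator_mono le_top le_top) ?_
    rw [commutator_le]
    intro x hx n hn
    have : ⁅x, n⁆ = x * (n * x⁻¹ * n⁻¹) := by rw [commutatorElement_def]; group
    rw [this]
    refine mul_mem hx ?_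
    have := (mem_normalizer_iff.1 hn x⁻¹).1 (inv_mem hx)
    exact this

/-- For an abelian Sylow `p`-subgroup `T`: `T ⊓ O^p(G) = ⁅T, N_G(T)⁆`. -/
theorem abelian_sylow_inf_pResidual [Finite G] [Fact p.Prime] (T : Sylow p G)
    [hT : IsMulCommutative T] :
    (T : Subgroup G) ⊓ pResidual p G = ⁅(T : Subgroup G), normalizer (T : Set G)⁆ := by
  rw [← commutator_inf_abelian_sylow T]
  apply le_antisymm
  · exact le_inf (isPGroup_inf_pResidual_le_commutator (T : Subgroup G) T.2) inf_le_left
  · exact le_inf inf_le_right (inf_le_left.trans (commutator_le_pResidual_of_abelian_sylow T))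

end Cfsg.Agent.Lib.Lead
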