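import Mathlib
import Cfsg.Agent.Lib.Lead.Focal

/-!
For an abelian Sylow `p`-subgroup `T` with normalizer `N`: `T = (T ⊓ C_G(N)) × ⁅T, N⁆`,
obtained by applying the abelian-normal-Hall results inside the group `N`.
Also: disjoint subgroups of a cyclic `p`-group.
-/

set_option autoImplicit false
open scoped commutatorElement

namespace Cfsg.Agent.Lib.Lead

open Subgroup

variable {G : Type*} [Group G] {p : ℕ}

/-- In a cyclic `p`-group two subgroups with trivial intersection cannot both be nontrivial. -/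
theorem cyclic_pgroup_disjoint {A : Type*} [Group A] [Finite A] [IsCyclic A] [hp : Fact p.Prime]
    (hA : IsPGroup p A) (X Y : Subgroup A) (h : X ⊓ Y = ⊥) : X = ⊥ ∨ Y = ⊥ := by
  classical
  by_contra hcon
  push_neg at hcon
  obtain ⟨hX, hY⟩ := hcon
  have key : ∀ Z : Subgroup A, Z ≠ ⊥ → ∃ z ∈ Z, orderOf z = p := by
    intro Z hZ
    have hZp : IsPGroup p Z := hA.to_subgroup Z
    have hdvd : p ∣ Nat.card Z := by
      obtain ⟨k, hk⟩ := hZp.exists_card_eq
      have hk0 : k ≠ 0 := by
        rintro rfl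
        rw [pow_zero] at hk
        exact hZ (Subgroup.eq_bot_of_card_eq Z hk)
      rw [hk]; exact dvd_pow_self p hk0
    obtain ⟨z, hz⟩ := exists_prime_orderOf_dvd_card' p hdvd
    exact ⟨z, z.2, by rw [← hz, Subgroup.orderOf_coe]⟩
  obtain ⟨x, hxX, hx⟩ := key X hX
  obtain ⟨y, hyY, hy⟩ := key Y hY
  haveI := Fintype.ofFinite A
  have hle := IsCyclic.card_pow_eq_one_le (α := A) (n := p) hp.out.pos
  -- the powers of x are p distinct solutions of z ^ p = 1
  let F : Finset A := Finset.univ.filter (fun a : A => a ^ p = 1)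
  let Zx : Finset A := (Finset.range p).image (fun i => x ^ i)
  have hZxcard : Zx.card = p := by
    rw [Finset.card_image_of_injOn, Finset.card_range]
    intro i hi j hj hij
    simp only [Finset.coe_range, Set.mem_Iio] at hi hj
    exact pow_injOn_Iio_orderOf (by simpa [hx] using hi) (by simpa [hx] using hj) hij
  have hZxF : Zx ⊆ F := by
    intro z hz
    obtain ⟨i, -, rfl⟩ := Finset.mem_image.1 hz
    simp only [F, Finset.mem_filter, Finset.mem_univ, true_and]
    rw [← pow_mul, mul_comm, pow_mul, ← hx, pow_orderOf_eq_one, one_pow]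
  have hFeq : Zx = F := Finset.eq_of_subset_of_card_le hZxF (by rw [hZxcard]; exact hle)
  have hyF : y ∈ F := by
    simp only [F, Finset.mem_filter, Finset.mem_univ, true_and]
    rw [← hy, pow_orderOf_eq_one]
  rw [← hFeq] at hyF
  obtain ⟨i, -, hi⟩ := Finset.mem_image.1 hyF
  have hyX : y ∈ X := hi ▸ pow_mem hxX i
  have : y ∈ X ⊓ Y := ⟨hyX, hyY⟩
  rw [h, mem_bot] at this
  rw [this, orderOf_one] at hy
  exact hp.out.one_lt.ne hy

section split

variable [Finite G] [Fact p.Prime] (T : Sylow p G) [hT : IsMulCommutative T]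

/-- The Sylow subgroup as a subgroup of its normalizer. -/
abbrev sylowInNormalizer : Subgroup (normalizer ((T : Subgroup G) : Set G)) :=
  (T : Subgroup G).subgroupOf (normalizer ((T : Subgroup G) : Set G))

instance sylowInNormalizer_normal : (sylowInNormalizer T).Normal :=
  Subgroup.normal_in_normalizer

omit [Finite G] [Fact p.Prime] in
include hT in
lemma sylowInNormalizer_comm : IsMulCommutative (sylowInNormalizer T) := by
  refine ⟨⟨fun a b => ?_⟩⟩
  have ha : (a : G) ∈ (T : Subgroup G) := mem_subgroupOf.1 a.2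
  have hb : (b : G) ∈ (T : Subgroup G) := mem_subgroupOf.1 b.2
  have h := mul_comm' (⟨(a : G), ha⟩ : T) ⟨(b : G), hb⟩
  apply Subtype.ext
  apply Subtype.ext
  simpa using congrArg Subtype.val h

lemma sylowInNormalizer_hall :
    Nat.Coprime (Nat.card (sylowInNormalizer T)) (sylowInNormalizer T).index := by
  have h1 : Nat.card (sylowInNormalizer T) = Nat.card (T : Subgroup G) :=
    Nat.card_congr (Subgroup.subgroupOfEquivOfLe le_normalizer).toEquiv
  have h2 : (sylowInNormalizer T).index ∣ (T : Subgroup G).index :=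
    relIndex_dvd_index_of_le le_normalizer
  rw [h1]
  exact Nat.Coprime.coprime_dvd_right h2 T.card_coprime_index

include hT in
/-- `T ≤ (T ⊓ C_G(N_G(T))) ⊔ ⁅T, N_G(T)⁆` for an abelian Sylow subgroup `T`. -/
theorem abelian_sylow_le_centralizer_sup_commutator :
    (T : Subgroup G) ≤ ((T : Subgroup G) ⊓ centralizer (normalizer ((T : Subgroup G) : Set G) : Set G)) ⊔
      ⁅(T : Subgroup G), normalizer ((T : Subgroup G) : Set G)⁆ := by
  have := sylowInNormalizer_comm T
  have h := abelianNormalHall_le_center_sup_commutator (sylowInNormalizer T) (sylowInNormalizer_hall T)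
  have h' := Subgroup.map_mono (f := (normalizer ((T : Subgroup G) : Set G)).subtype) h
  rw [subgroupOf_map_subtype, inf_of_le_left le_normalizer, Subgroup.map_sup, map_commutator,
    subgroupOf_map_subtype, inf_of_le_left le_normalizer, ← MonoidHom.range_eq_map,
    Subgroup.range_subtype] at h'
  refine h'.trans (sup_le_sup_right ?_ _)
  rintro z ⟨w, ⟨hwZ, hwA⟩, rfl⟩
  refine ⟨mem_subgroupOf.1 hwA, fun m hm => ?_⟩
  have := (mem_center_iff.1 hwZ) ⟨m, hm⟩
  exact congrArg Subtype.val this

include hT in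
/-- `(T ⊓ C_G(N_G(T))) ⊓ ⁅T, N_G(T)⁆ = ⊥` for an abelian Sylow subgroup `T`. -/
theorem abelian_sylow_centralizer_inf_commutator :
    ((T : Subgroup G) ⊓ centralizer (normalizer ((T : Subgroup G) : Set G) : Set G)) ⊓
      ⁅(T : Subgroup G), normalizer ((T : Subgroup G) : Set G)⁆ = ⊥ := by
  have := sylowInNormalizer_comm T
  rw [eq_bot_iff]
  rintro z ⟨⟨hzT, hzC⟩, hzD⟩
  rw [mem_bot]
  have hzN : z ∈ normalizer ((T : Subgroup G) : Set G) := le_normalizer hzT
  have h1 : (⟨z, hzN⟩ : normalizer ((T : Subgroup G) : Set G)) ∈ sylowInNormalizer T :=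
    mem_subgroupOf.2 hzT
  have h2 : (⟨z, hzN⟩ : normalizer ((T : Subgroup G) : Set G)) ∈
      _root_.commutator (normalizer ((T : Subgroup G) : Set G)) := by
    have hle : ⁅(T : Subgroup G), normalizer ((T : Subgroup G) : Set G)⁆ ≤
        ⁅normalizer ((T : Subgroup G) : Set G), normalizer ((T : Subgroup G) : Set G)⁆ :=
      commutator_mono le_normalizer le_rfl
    have := hle hzD
    rw [← map_subtype_commutator] at this
    obtain ⟨w, hw, hwz⟩ := this
    have : w = ⟨z, hzN⟩ := Subtype.ext hwz
    rwa [← this]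
  have h3 : (⟨z, hzN⟩ : normalizer ((T : Subgroup G) : Set G)) ∈
      center (normalizer ((T : Subgroup G) : Set G)) := by
    rw [mem_center_iff]
    intro m
    apply Subtype.ext
    exact (mem_centralizer_iff.1 hzC) m m.2
  have := eq_one_of_mem_abelianHall_commutator_center (sylowInNormalizer T)
    (sylowInNormalizer_hall T) h1 h2 h3
  exact congrArg Subtype.val this

omit hT in
/-- A cyclic Sylow subgroup is either centralised by its normalizer or equal to `⁅T, N_G(T)⁆`. -/
theorem cyclic_sylow_dichotomy (hcyc : IsCyclic T) :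
    ⁅(T : Subgroup G), normalizer ((T : Subgroup G) : Set G)⁆ = ⊥ ∨
      (T : Subgroup G) ≤ ⁅(T : Subgroup G), normalizer ((T : Subgroup G) : Set G)⁆ := by
  haveI : IsMulCommutative T := ⟨⟨fun a b => by
    obtain ⟨g, hg⟩ := hcyc.exists_generator
    obtain ⟨i, rfl⟩ := hg a
    obtain ⟨j, rfl⟩ := hg b
    exact (Commute.zpow_zpow_self g i j).eq⟩⟩
  set X := (T : Subgroup G) ⊓ centralizer (normalizer ((T : Subgroup G) : Set G) : Set G) with hXdef
  set Y := ⁅(T : Subgroup G), normalizer ((T : Subgroup G) : Set G)⁆ with hYdef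
  have hYT : Y ≤ (T : Subgroup G) := by
    rw [hYdef, commutator_le]
    intro x hx n hn
    have : ⁅x, n⁆ = x * (n * x⁻¹ * n⁻¹) := by rw [commutatorElement_def]; group
    rw [this]
    exact mul_mem hx ((mem_normalizer_iff.1 hn x⁻¹).1 (inv_mem hx))
  have hsup : (T : Subgroup G) ≤ X ⊔ Y := abelian_sylow_le_centralizer_sup_commutator T
  have hinf : X ⊓ Y = ⊥ := abelian_sylow_centralizer_inf_commutator T
  have hdis : X.subgroupOf (T : Subgroup G) ⊓ Y.subgroupOf (T : Subgroup G) = ⊥ := by
    rw [eq_bot_iff]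
    intro z hz
    rw [mem_inf, mem_subgroupOf, mem_subgroupOf] at hz
    have : (z : G) ∈ X ⊓ Y := hz
    rw [hinf, mem_bot] at this
    rw [mem_bot]
    exact Subtype.ext this
  rcases cyclic_pgroup_disjoint (p := p) T.isPGroup' _ _ hdis with h | h
  · right
    have hX : X = ⊥ := by
      rw [eq_bot_iff]
      intro z hz
      have : (⟨z, hz.1⟩ : (T : Subgroup G)) ∈ X.subgroupOf (T : Subgroup G) := mem_subgroupOf.2 hz
      rw [h, mem_bot] at this
      rw [mem_bot]
      exact congrArg Subtype.val this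
    rw [hX, bot_sup_eq] at hsup
    exact hsup
  · left
    rw [eq_bot_iff]
    intro z hz
    have : (⟨z, hYT hz⟩ : (T : Subgroup G)) ∈ Y.subgroupOf (T : Subgroup G) := mem_subgroupOf.2 hz
    rw [h, mem_bot] at this
    rw [mem_bot]
    exact congrArg Subtype.val this

end split

end Cfsg.Agent.Lib.Lead
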