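import Mathlib
import Cfsg.Prelude.Def_Solvable
import Cfsg.Agent.Lib.Lead.SylowSplit

/-!
A 2-automorphism of a finite group `G` with `Z(G) = 1`, `O(G) = 1` and abelian Sylow
2-subgroups which centralizes a Sylow 2-subgroup is inner.  (The conclusion of Glauberman's
Z*-theorem is taken as a hypothesis.)

* `mem_of_abelian_sylow`: abstract form.  If `Γ = I⟨a⟩` with `I` normal, `a` in an abelian Sylow
  2-subgroup, `O(Γ) = 1` and `Z(Γ) = 1`, then `a ∈ I`.
* `inner_of_fix_sylow`: the statement about automorphisms.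
-/

set_option autoImplicit false
open scoped commutatorElement

namespace Cfsg.Agent.Lib.Lead.CentralAut

open Subgroup

universe u

/-- If `Γ = I⟨a⟩` with `I` normal, `a` in an abelian Sylow 2-subgroup `T`, and `Γ` has neither
nontrivial odd order normal subgroups nor a nontrivial centre, then `a ∈ I`. -/
theorem mem_of_abelian_sylow {Γ : Type u} [Group Γ] [Finite Γ] (I : Subgroup Γ) [hI : I.Normal]
    (a : Γ) (hgen : I ⊔ zpowers a = ⊤) (T : Sylow 2 Γ) [hT : IsMulCommutative T] (haT : a ∈ T)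
    (hodd : ∀ K : Subgroup Γ, K.Normal → Odd (Nat.card K) → K = ⊥)
    (hcen : center Γ = ⊥)
    (hZ : ∀ v : Γ, orderOf v = 2 → v ∈ T → (∀ g : Γ, g * v * g⁻¹ ∈ T → g * v * g⁻¹ = v) →
      ∃ N : Subgroup Γ, N.Normal ∧ Odd (Nat.card N) ∧ ∀ g : Γ, v * g * v⁻¹ * g⁻¹ ∈ N) :
    a ∈ I := by
  classical
  -- the quotient is generated by the image of `a`
  have hquot : ∀ x : Γ, ∃ k : ℤ, (x : Γ ⧸ I) = ((a : Γ) : Γ ⧸ I) ^ k := by
    intro x
    have hx : x ∈ I ⊔ zpowers a := by rw [hgen]; exact mem_top x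
    rw [← SetLike.mem_coe, normal_mul, Set.mem_mul] at hx
    obtain ⟨i, hi, b, hb, rfl⟩ := hx
    obtain ⟨k, rfl⟩ := mem_zpowers_iff.mp hb
    refine ⟨k, ?_⟩
    rw [QuotientGroup.mk_mul, (QuotientGroup.eq_one_iff i).mpr hi, one_mul, QuotientGroup.mk_zpow]
  have hcomm : ∀ x y : Γ, ⁅x, y⁆ ∈ I := by
    intro x y
    obtain ⟨m, hm⟩ := hquot x
    obtain ⟨n, hn⟩ := hquot y
    have hc : Commute ((x : Γ) : Γ ⧸ I) ((y : Γ) : Γ ⧸ I) := by
      rw [hm, hn]; exact (Commute.refl _).zpow_zpow m n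
    have h1 : ((⁅x, y⁆ : Γ) : Γ ⧸ I) = ⁅((x : Γ) : Γ ⧸ I), ((y : Γ) : Γ ⧸ I)⁆ := by
      simp [commutatorElement_def]
    have h2 : ((⁅x, y⁆ : Γ) : Γ ⧸ I) = 1 := by
      rw [h1]; exact commutatorElement_eq_one_iff_commute.mpr hc
    exact (QuotientGroup.eq_one_iff _).mp h2
  have hder : ⁅(T : Subgroup Γ), normalizer ((T : Subgroup Γ) : Set Γ)⁆ ≤ I :=
    commutator_le.mpr (fun x _ y _ => hcomm x y)
  have hsplit := Cfsg.Agent.Lib.Lead.abelian_sylow_le_centralizer_sup_commutator T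
  by_contra haI
  -- the central part of `T` is nontrivial
  have hZne : (T : Subgroup Γ) ⊓ centralizer (normalizer ((T : Subgroup Γ) : Set Γ) : Set Γ) ≠ ⊥ := by
    intro h0
    rw [h0, bot_sup_eq] at hsplit
    exact haI (hder (hsplit haT))
  set Z : Subgroup Γ :=
    (T : Subgroup Γ) ⊓ centralizer (normalizer ((T : Subgroup Γ) : Set Γ) : Set Γ) with hZdef
  have hZp : IsPGroup 2 Z := T.isPGroup'.to_le inf_le_left
  have hdvd : 2 ∣ Nat.card Z := by
    rcases hZp.card_eq_or_dvd with h | h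
    · exact absurd (card_eq_one.mp h) hZne
    · exact h
  obtain ⟨u, hu⟩ := exists_prime_orderOf_dvd_card' 2 hdvd
  have huo : orderOf (u : Γ) = 2 := by rw [orderOf_coe]; exact hu
  have huT : (u : Γ) ∈ T := u.2.1
  have huC : (u : Γ) ∈ centralizer (normalizer ((T : Subgroup Γ) : Set Γ) : Set Γ) := u.2.2
  -- `u` is isolated in `T`
  have hiso : ∀ g : Γ, g * (u : Γ) * g⁻¹ ∈ T → g * (u : Γ) * g⁻¹ = (u : Γ) := by
    intro g hg
    have hg' : (g⁻¹)⁻¹ * (u : Γ) * g⁻¹ ∈ T := by rw [inv_inv]; exact hg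
    obtain ⟨n, hn, hgn⟩ := Sylow.conj_eq_normalizer_conj_of_mem T (u : Γ) g⁻¹ huT hg'
    rw [inv_inv] at hgn
    rw [hgn]
    have h1 : n * (u : Γ) = (u : Γ) * n := (mem_centralizer_iff.mp huC) n hn
    rw [mul_assoc, ← h1, inv_mul_cancel_left]
  obtain ⟨N, hNn, hNodd, hN⟩ := hZ (u : Γ) huo huT hiso
  have hNbot : N = ⊥ := hodd N hNn hNodd
  have hucen : (u : Γ) ∈ center Γ := by
    rw [mem_center_iff]
    intro g
    have h1 := hN g
    rw [hNbot, mem_bot] at h1
    -- u * g * u⁻¹ * g⁻¹ = 1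
    have h2 : (u : Γ) * g = g * (u : Γ) := by
      have : (u : Γ) * g * (u : Γ)⁻¹ = g := by
        rw [mul_inv_eq_one] at h1
        exact h1
      rw [mul_inv_eq_iff_eq_mul] at this
      exact this
    exact h2.symm
  rw [hcen, mem_bot] at hucen
  rw [hucen, orderOf_one] at huo
  exact absurd huo (by norm_num)

/-- A 2-automorphism centralizing an abelian Sylow 2-subgroup of a group with trivial centre and
trivial odd core is inner (given the Z*-theorem). -/
theorem inner_of_fix_sylow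
    (hZstar : ∀ (Γ : Type u) [Group Γ] [Finite Γ] (T : Sylow 2 Γ) (v : Γ), orderOf v = 2 → v ∈ T →
      (∀ g : Γ, g * v * g⁻¹ ∈ T → g * v * g⁻¹ = v) →
      ∃ N : Subgroup Γ, N.Normal ∧ Odd (Nat.card N) ∧ ∀ g : Γ, v * g * v⁻¹ * g⁻¹ ∈ N)
    {G : Type u} [Group G] [Finite G] (hZ : center G = ⊥) (hcore : Cfsg.pPrimeCore 2 G = ⊥)
    (P : Sylow 2 G) (hab : IsMulCommutative (P : Subgroup G))
    (α : MulAut G) (h2 : ∃ j : ℕ, orderOf α = 2 ^ j) (hfix : ∀ x ∈ (P : Subgroup G), α x = x) :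
    ∃ g : G, ∀ x : G, α x = g * x * g⁻¹ := by
  classical
  obtain ⟨j, hj⟩ := h2
  -- the conjugation map is injective
  have hcinj : Function.Injective (MulAut.conj : G →* MulAut G) := by
    rw [injective_iff_map_eq_one]
    intro g hg
    have : g ∈ center G := by
      rw [mem_center_iff]
      intro x
      have h1 : MulAut.conj g x = x := by rw [hg]; rfl
      rw [MulAut.conj_apply, mul_inv_eq_iff_eq_mul] at h1
      exact h1.symm
    rw [hZ, mem_bot] at this
    exact this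
  -- conjugating an inner automorphism
  have hconj : ∀ (β : MulAut G) (g : G), β * MulAut.conj g * β⁻¹ = MulAut.conj (β g) := by
    intro β g
    ext x
    simp only [MulAut.mul_apply, MulAut.conj_apply, map_mul, map_inv, MulAut.apply_inv_self]
  let Γ₀ : Subgroup (MulAut G) := (MulAut.conj : G →* MulAut G).range ⊔ zpowers α
  have hmem : ∀ g : G, (MulAut.conj : G →* MulAut G) g ∈ Γ₀ :=
    fun g => mem_sup_left ⟨g, rfl⟩
  let ι : G →* Γ₀ := (MulAut.conj : G →* MulAut G).codRestrict Γ₀ hmem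
  have hιval : ∀ g : G, ((ι g : Γ₀) : MulAut G) = MulAut.conj g := fun g => rfl
  have hιinj : Function.Injective ι := by
    intro x y hxy
    apply hcinj
    have := congrArg Subtype.val hxy
    exact this
  have hsmul : ∀ (γ : Γ₀) (g : G), γ * ι g * γ⁻¹ = ι ((γ : MulAut G) g) := by
    intro γ g
    apply Subtype.ext
    have := hconj (γ : MulAut G) g
    simpa [hιval] using this
  let I : Subgroup Γ₀ := ι.range
  have hIn : I.Normal := by
    refine ⟨fun n hn γ => ?_⟩
    obtain ⟨g, rfl⟩ := hn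
    rw [hsmul]
    exact ⟨_, rfl⟩
  let a : Γ₀ := ⟨α, mem_sup_right (mem_zpowers α)⟩
  have hgen : I ⊔ zpowers a = ⊤ := by
    apply map_injective Γ₀.subtype_injective
    rw [Subgroup.map_sup, MonoidHom.map_range, MonoidHom.map_zpowers, ← MonoidHom.range_eq_map,
      range_subtype]
    rfl
  -- the centralizer of `I` is trivial
  have hCI : ∀ γ : Γ₀, (∀ g : G, γ * ι g = ι g * γ) → γ = 1 := by
    intro γ hγ
    apply Subtype.ext
    ext g
    have h1 : γ * ι g * γ⁻¹ = ι g := by rw [hγ g, mul_inv_cancel_right]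
    rw [hsmul] at h1
    exact hιinj h1
  have hcen : center Γ₀ = ⊥ := by
    rw [eq_bot_iff]
    intro z hz
    rw [mem_bot]
    apply hCI
    intro g
    exact ((mem_center_iff.mp hz) (ι g)).symm
  have hodd : ∀ K : Subgroup Γ₀, K.Normal → Odd (Nat.card K) → K = ⊥ := by
    intro K hKn hKodd
    have hK'n : (K.comap ι).Normal := hKn.comap ι
    have hcard : Nat.card (K.comap ι) ∣ Nat.card K := by
      have e1 : Nat.card (K.comap ι) = Nat.card ((K.comap ι).map ι) :=
        Nat.card_congr ((K.comap ι).equivMapOfInjective ι hιinj).toEquiv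
      rw [e1]
      exact card_dvd_of_le (map_comap_le ι K)
    have hK'odd : Odd (Nat.card (K.comap ι)) := Odd.of_dvd_nat hKodd hcard
    have hK'bot : K.comap ι = ⊥ := by
      rw [eq_bot_iff, ← hcore]
      exact le_sSup ⟨hK'n, Nat.coprime_two_right.mpr hK'odd⟩
    have hdis : Disjoint K I := by
      rw [disjoint_def]
      intro x hxK hxI
      obtain ⟨g, rfl⟩ := hxI
      have : g ∈ K.comap ι := hxK
      rw [hK'bot, mem_bot] at this
      rw [this, map_one]
    rw [eq_bot_iff]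
    intro x hx
    rw [mem_bot]
    apply hCI
    intro g
    exact (commute_of_normal_of_disjoint K I hKn hIn hdis x (ι g) hx ⟨g, rfl⟩).eq
  -- `a` commutes with the image of `P`
  have haP : ∀ x ∈ (P : Subgroup G), a * ι x = ι x * a := by
    intro x hx
    have h1 := hsmul a x
    have h3 : (a : MulAut G) x = x := hfix x hx
    rw [h3] at h1
    exact mul_inv_eq_iff_eq_mul.mp h1
  let A : Subgroup Γ₀ := (P : Subgroup G).map ι
  let B : Subgroup Γ₀ := zpowers a
  have hAA : A ≤ centralizer (A : Set Γ₀) := by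
    rintro _ ⟨x, hx, rfl⟩
    rw [mem_centralizer_iff]
    rintro _ ⟨y, hy, rfl⟩
    have := congrArg Subtype.val (hab.is_comm.comm ⟨y, hy⟩ ⟨x, hx⟩)
    simp only [MulMemClass.coe_mul] at this
    rw [← map_mul, ← map_mul, this]
  have hBB : B ≤ centralizer (B : Set Γ₀) := by
    rw [le_centralizer_iff_isMulCommutative]
    infer_instance
  have hAB : A ≤ centralizer (B : Set Γ₀) := by
    rintro _ ⟨x, hx, rfl⟩
    rw [mem_centralizer_iff]
    intro b hb
    obtain ⟨k, rfl⟩ := mem_zpowers_iff.mp hb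
    have hc : Commute a (ι x) := haP x hx
    exact (hc.zpow_left k).eq
  have hBA : B ≤ centralizer (A : Set Γ₀) := le_centralizer_iff.mp hAB
  have hT₀comm : A ⊔ B ≤ centralizer ((A ⊔ B : Subgroup Γ₀) : Set Γ₀) := by
    apply sup_le
    · rw [le_centralizer_iff]; exact sup_le hAA hBA
    · rw [le_centralizer_iff]; exact sup_le hAB hBB
  have hAp : IsPGroup 2 A := P.isPGroup'.map ι
  have hao : orderOf a = 2 ^ j := by
    have : orderOf ((a : Γ₀) : MulAut G) = orderOf a := orderOf_coe a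
    rw [← this]; exact hj
  have hBp : IsPGroup 2 B := by
    apply IsPGroup.of_card (n := j)
    rw [Nat.card_zpowers, hao]
  have hT₀p : IsPGroup 2 (A ⊔ B : Subgroup Γ₀) :=
    hAp.to_sup_of_normal_right' hBp (hAB.trans (centralizer_le_normalizer _))
  obtain ⟨T, hT⟩ := hT₀p.exists_le_sylow
  have hAI : A ≤ I := by
    rintro _ ⟨x, _, rfl⟩
    exact ⟨x, rfl⟩
  -- `T` is contained in `A ⊔ B`
  have hTle : (T : Subgroup Γ₀) ≤ A ⊔ B := by
    intro q hq
    have hq' : q ∈ I ⊔ zpowers a := by rw [hgen]; exact mem_top q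
    rw [← SetLike.mem_coe, normal_mul, Set.mem_mul] at hq'
    obtain ⟨i, hi, b, hb, rfl⟩ := hq'
    have hbT : b ∈ (T : Subgroup Γ₀) := hT (mem_sup_right hb)
    have hiT : i ∈ (T : Subgroup Γ₀) := by
      have := mul_mem hq (inv_mem hbT)
      rwa [mul_inv_cancel_right] at this
    have hcomap : ((T : Subgroup Γ₀) ⊓ I).comap ι = (P : Subgroup G) := by
      apply P.is_maximal'
      · exact (T.isPGroup'.to_le inf_le_left).comap_of_injective ι hιinj
      · intro x hx
        exact ⟨hT (mem_sup_left ⟨x, hx, rfl⟩), ⟨x, rfl⟩⟩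
    obtain ⟨g, rfl⟩ := hi
    have hgP : g ∈ (P : Subgroup G) := by
      rw [← hcomap]
      exact ⟨hiT, ⟨g, rfl⟩⟩
    exact mul_mem (mem_sup_left ⟨g, hgP, rfl⟩) (mem_sup_right hb)
  have hTcomm : IsMulCommutative T := by
    refine ⟨⟨fun x y => ?_⟩⟩
    apply Subtype.ext
    have hx := hTle x.2
    have hy := hTle y.2
    exact ((mem_centralizer_iff.mp (hT₀comm hx)) y hy).symm
  have haT : a ∈ T := hT (mem_sup_right (mem_zpowers a))
  have haI := mem_of_abelian_sylow I a hgen T haT hodd hcen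
    (fun v hv hvT hiso => hZstar Γ₀ T v hv hvT hiso)
  obtain ⟨g, hg⟩ := haI
  refine ⟨g, fun x => ?_⟩
  have h1 : (MulAut.conj g : MulAut G) = α := congrArg Subtype.val hg
  rw [← h1, MulAut.conj_apply]

end Cfsg.Agent.Lib.Lead.CentralAut
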