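import Mathlib

set_option autoImplicit false

/-! Automorphisms of a power `T^ι` of a nonabelian simple group permute the coordinates. -/

namespace Cfsg.Agent.Lib.Lead.PrimDerA

open scoped commutatorElement

section simple
variable {T : Type*} [Group T]

theorem center_eq_bot_of_simple [IsSimpleGroup T] (hT : ¬ IsMulCommutative T) :
    Subgroup.center T = ⊥ := by
  rcases (inferInstance : (Subgroup.center T).Normal).eq_bot_or_eq_top with h | h
  · exact h
  · exfalso
    apply hT
    refine ⟨⟨fun a b => ?_⟩⟩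
    have hb : b ∈ Subgroup.center T := by rw [h]; trivial
    exact (Subgroup.mem_center_iff.mp hb a)

theorem commutator_eq_top_of_simple [IsSimpleGroup T] (hT : ¬ IsMulCommutative T) :
    commutator T = ⊤ := by
  rcases (inferInstance : (commutator T).Normal).eq_bot_or_eq_top with h | h
  · exfalso
    rw [commutator_eq_bot_iff_center_eq_top, center_eq_bot_of_simple hT] at h
    exact bot_ne_top h
  · exact h

/-- For every prime `p`, a finite nonabelian simple group has order divisible by another prime. -/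
theorem exists_prime_ne_dvd [Finite T] [IsSimpleGroup T] (hT : ¬ IsMulCommutative T)
    (p : ℕ) (hp : p.Prime) : ∃ q : ℕ, q.Prime ∧ q ≠ p ∧ q ∣ Nat.card T := by
  by_contra hcon
  push Not at hcon
  have : Fact p.Prime := ⟨hp⟩
  have hcard : Nat.card T = p ^ (Nat.card T).primeFactorsList.length := by
    apply Nat.eq_prime_pow_of_unique_prime_dvd Nat.card_pos.ne'
    intro d hd hdvd
    by_contra hne
    exact hcon d hd hne hdvd
  have hpg : IsPGroup p T := IsPGroup.of_card hcard
  have hnt : Nontrivial (Subgroup.center T) := hpg.center_nontrivial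
  rw [Subgroup.nontrivial_iff_ne_bot] at hnt
  exact hnt (center_eq_bot_of_simple hT)

end simple

section aut
variable {T : Type*} [Group T] {ι : Type*} [DecidableEq ι]

/-- the `i`-th coordinate subgroup -/
abbrev C (T : Type*) [Group T] {ι : Type*} [DecidableEq ι] (i : ι) : Subgroup (ι → T) :=
  (MonoidHom.mulSingle (fun _ : ι => T) i).range

theorem mem_C_iff (i : ι) (x : ι → T) : x ∈ C T i ↔ ∀ j, j ≠ i → x j = 1 := by
  constructor
  · rintro ⟨t, rfl⟩ j hj
    show (Pi.mulSingle i t : ι → T) j = 1
    exact Pi.mulSingle_eq_of_ne (M := fun _ : ι => T) hj t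
  · intro h
    refine ⟨x i, ?_⟩
    ext j
    by_cases hj : j = i
    · subst hj; simp
    · simp [Pi.mulSingle_eq_of_ne hj, h j hj]

theorem mulSingle_mem_C (i : ι) (t : T) : Pi.mulSingle i t ∈ C T i := ⟨t, rfl⟩

theorem mulSingle_inj (i : ι) :
    Function.Injective (MonoidHom.mulSingle (fun _ : ι => T) i) := by
  intro a b h
  have := congrFun h i
  simpa using this

instance C_normal (i : ι) : (C T i).Normal := by
  constructor
  intro x hx g
  rw [mem_C_iff] at hx ⊢
  intro j hj
  simp [hx j hj]

theorem conj_mulSingle (x : ι → T) (i : ι) (t : T) :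
    x * Pi.mulSingle i t * x⁻¹ = Pi.mulSingle i (x i * t * (x i)⁻¹) := by
  ext j
  by_cases hj : j = i
  · subst hj; simp
  · simp [Pi.mulSingle_eq_of_ne hj]

theorem conj_mulSingle' (x : ι → T) (i : ι) (t : T) :
    x⁻¹ * Pi.mulSingle i t * x = Pi.mulSingle i ((x i)⁻¹ * t * x i) := by
  have := conj_mulSingle x⁻¹ i t
  simpa using this

theorem C_ne_bot [Nontrivial T] (i : ι) : C T i ≠ ⊥ := by
  obtain ⟨t, ht⟩ := exists_ne (1 : T)
  intro h
  have hm : Pi.mulSingle i t ∈ C T i := mulSingle_mem_C i t
  rw [h, Subgroup.mem_bot] at hm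
  apply ht
  have := congrFun hm i
  simpa using this

theorem C_injective [Nontrivial T] {i j : ι} (h : C T i = C T j) : i = j := by
  by_contra hij
  obtain ⟨t, ht⟩ := exists_ne (1 : T)
  have hm : Pi.mulSingle i t ∈ C T j := h ▸ mulSingle_mem_C i t
  rw [mem_C_iff] at hm
  have := hm i hij
  simp at this
  exact ht this

/-- Key lemma: a normal subgroup having an element with nontrivial `j`-coordinate contains
the `j`-th coordinate subgroup. -/
theorem C_le_of_normal [IsSimpleGroup T] (hT : ¬ IsMulCommutative T) (A : Subgroup (ι → T))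
    [hA : A.Normal] (y : ι → T) (hy : y ∈ A) (j : ι) (hyj : y j ≠ 1) : C T j ≤ A := by
  -- projection of A to coordinate j
  set B : Subgroup T := A.map (Pi.evalMonoidHom (fun _ : ι => T) j) with hB
  have hBn : B.Normal := by
    apply Subgroup.Normal.map hA
    intro t
    exact ⟨Pi.mulSingle j t, by simp⟩
  have hBtop : B = ⊤ := by
    rcases hBn.eq_bot_or_eq_top with h | h
    · exfalso
      have : y j ∈ B := ⟨y, hy, rfl⟩
      rw [h, Subgroup.mem_bot] at this
      exact hyj this
    · exact h
  set S : Subgroup T := A.comap (MonoidHom.mulSingle (fun _ : ι => T) j) with hS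
  have hStop : S = ⊤ := by
    rw [eq_top_iff, ← commutator_eq_top_of_simple hT, commutator_def, Subgroup.commutator_le]
    intro b _ t _
    have hb : b ∈ B := by rw [hBtop]; trivial
    obtain ⟨z, hz, hzb⟩ := hb
    have hzb' : z j = b := hzb
    rw [hS, Subgroup.mem_comap]
    have heq : (MonoidHom.mulSingle (fun _ : ι => T) j) ⁅b, t⁆ = ⁅z, Pi.mulSingle j t⁆ := by
      ext k
      by_cases hk : k = j
      · subst hk; simp [commutatorElement_def, hzb']
      · simp [commutatorElement_def, Pi.mulSingle_eq_of_ne hk]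
    rw [heq, commutatorElement_def]
    have h1 : Pi.mulSingle j t * z⁻¹ * (Pi.mulSingle j t)⁻¹ ∈ A :=
      hA.conj_mem _ (A.inv_mem hz) _
    have := A.mul_mem hz h1
    simpa [mul_assoc] using this
  rintro x ⟨t, rfl⟩
  have : t ∈ S := by rw [hStop]; trivial
  exact this

/-- coordinate subgroups are minimal normal -/
theorem C_minimal [IsSimpleGroup T] (hT : ¬ IsMulCommutative T) (i : ι) (M : Subgroup (ι → T))
    (hM : M.Normal) (hle : M ≤ C T i) : M = ⊥ ∨ M = C T i := by
  by_cases hbot : M = ⊥
  · exact Or.inl hbot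
  · right
    obtain ⟨y, hy, hy1⟩ : ∃ y ∈ M, y ≠ 1 := by
      by_contra hcon
      push Not at hcon
      apply hbot
      rw [Subgroup.eq_bot_iff_forall]
      exact hcon
    have : ∃ j, y j ≠ 1 := by
      by_contra hcon
      push Not at hcon
      exact hy1 (funext hcon)
    obtain ⟨j, hj⟩ := this
    have hji : j = i := by
      by_contra hne
      exact hj ((mem_C_iff i y).mp (hle hy) j hne)
    subst hji
    exact le_antisymm hle (C_le_of_normal hT M y hy j hj)

/-- an automorphism maps coordinate subgroups to coordinate subgroups -/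
theorem exists_map_C [IsSimpleGroup T] (hT : ¬ IsMulCommutative T)
    (φ : (ι → T) ≃* (ι → T)) (i : ι) : ∃ j, (C T i).map φ.toMonoidHom = C T j := by
  set A := (C T i).map φ.toMonoidHom with hA
  have hAn : A.Normal := Subgroup.Normal.map (C_normal i) _ φ.surjective
  have hAne : A ≠ ⊥ := by
    intro h
    rw [hA, Subgroup.map_eq_bot_iff_of_injective _ φ.injective] at h
    exact C_ne_bot i h
  obtain ⟨y, hy, hy1⟩ : ∃ y ∈ A, y ≠ 1 := by
    by_contra hcon
    push Not at hcon
    apply hAne
    rw [Subgroup.eq_bot_iff_forall]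
    exact hcon
  have : ∃ j, y j ≠ 1 := by
    by_contra hcon
    push Not at hcon
    exact hy1 (funext hcon)
  obtain ⟨j, hj⟩ := this
  refine ⟨j, ?_⟩
  have hle : C T j ≤ A := C_le_of_normal hT A y hy j hj
  -- A is minimal normal
  have hmin : C T j = ⊥ ∨ C T j = A := by
    have h1 : ((C T j).comap φ.toMonoidHom).Normal := (C_normal j).comap _
    have h2 : (C T j).comap φ.toMonoidHom ≤ C T i := by
      have := Subgroup.comap_mono (f := φ.toMonoidHom) hle
      rwa [hA, Subgroup.comap_map_eq_self_of_injective φ.injective] at this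
    have h3 : ((C T j).comap φ.toMonoidHom).map φ.toMonoidHom = C T j :=
      Subgroup.map_comap_eq_self_of_surjective φ.surjective _
    rcases C_minimal hT i _ h1 h2 with h | h
    · left
      rw [← h3, h, Subgroup.map_bot]
    · right
      rw [← h3, h]
  rcases hmin with h | h
  · exact absurd h (C_ne_bot j)
  · exact h.symm

/-- **Automorphisms of `T^ι` permute the coordinates**, in the weak form we need:
there is a bijection `σ` of the index set such that the order of the `σ i`-coordinate of
`φ x` is the order of the `i`-coordinate of `x`. -/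
theorem exists_perm_orderOf [Finite ι] [IsSimpleGroup T] (hT : ¬ IsMulCommutative T)
    (φ : (ι → T) ≃* (ι → T)) :
    ∃ σ : ι → ι, Function.Bijective σ ∧ ∀ (x : ι → T) (i : ι),
      orderOf (φ x (σ i)) = orderOf (x i) := by
  choose σ hσ using exists_map_C hT φ
  have hinj : Function.Injective σ := by
    intro i i' h
    have h1 : (C T i).map φ.toMonoidHom = (C T i').map φ.toMonoidHom := by
      rw [hσ i, hσ i', h]
    exact C_injective (Subgroup.map_injective φ.injective h1)
  refine ⟨σ, ⟨hinj, Finite.injective_iff_surjective.mp hinj⟩, ?_⟩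
  intro x i
  -- image of a mulSingle
  have hw : ∀ t : T, φ (Pi.mulSingle i t) ∈ C T (σ i) := by
    intro t
    rw [← hσ i]
    exact ⟨_, mulSingle_mem_C i t, rfl⟩
  -- every mulSingle (σ i) s is an image
  have hw' : ∀ s : T, ∃ t : T, φ (Pi.mulSingle i t) = Pi.mulSingle (σ i) s := by
    intro s
    have : Pi.mulSingle (σ i) s ∈ (C T i).map φ.toMonoidHom := by
      rw [hσ i]; exact mulSingle_mem_C _ s
    obtain ⟨z, ⟨t, rfl⟩, hz⟩ := this
    exact ⟨t, hz⟩
  set x' : ι → T := (Pi.mulSingle i (x i))⁻¹ * x with hx'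
  have hx'i : x' i = 1 := by simp [hx']
  have hxeq : x = Pi.mulSingle i (x i) * x' := by simp [hx']
  have hcomm : ∀ t : T, x' * Pi.mulSingle i t = Pi.mulSingle i t * x' := by
    intro t
    ext k
    by_cases hk : k = i
    · subst hk; simp [hx'i]
    · simp [Pi.mulSingle_eq_of_ne hk]
  have hcen : φ x' (σ i) ∈ Subgroup.center T := by
    rw [Subgroup.mem_center_iff]
    intro s
    obtain ⟨t, ht⟩ := hw' s
    have h1 : φ x' * φ (Pi.mulSingle i t) = φ (Pi.mulSingle i t) * φ x' := by
      rw [← map_mul, ← map_mul, hcomm t]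
    have h2 := congrFun h1 (σ i)
    rw [ht] at h2
    simpa using h2.symm
  rw [center_eq_bot_of_simple hT, Subgroup.mem_bot] at hcen
  have hval : φ x (σ i) = φ (Pi.mulSingle i (x i)) (σ i) := by
    conv_lhs => rw [hxeq, map_mul]
    simp [hcen]
  rw [hval]
  set w := φ (Pi.mulSingle i (x i)) with hwdef
  have hwC : w ∈ C T (σ i) := hw (x i)
  have hweq : w = Pi.mulSingle (σ i) (w (σ i)) := by
    ext k
    by_cases hk : k = σ i
    · rw [hk]; simp
    · rw [Pi.mulSingle_eq_of_ne hk]
      exact (mem_C_iff (σ i) w).mp hwC k hk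
  have ho1 : orderOf w = orderOf (w (σ i)) := by
    conv_lhs => rw [hweq]
    exact orderOf_injective (MonoidHom.mulSingle (fun _ : ι => T) (σ i))
      (mulSingle_inj (σ i)) _
  have ho2 : orderOf w = orderOf (x i) := by
    rw [hwdef, MulEquiv.orderOf_eq]
    exact orderOf_injective (MonoidHom.mulSingle (fun _ : ι => T) i)
      (mulSingle_inj i) _
  rw [← ho1, ho2]

/-- a conjugation-invariant pair property -/
def Pair (Q : ℕ → ℕ → Prop) (x : ι → T) : Prop :=
  ∃ i j, i ≠ j ∧ Q (orderOf (x i)) (orderOf (x j))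

theorem Pair.map [Finite ι] [IsSimpleGroup T] (hT : ¬ IsMulCommutative T)
    (φ : (ι → T) ≃* (ι → T)) {Q : ℕ → ℕ → Prop} {x : ι → T} (h : Pair Q x) :
    Pair Q (φ x) := by
  obtain ⟨σ, hσ, hord⟩ := exists_perm_orderOf hT φ
  obtain ⟨i, j, hij, hQ⟩ := h
  refine ⟨σ i, σ j, fun h => hij (hσ.1 h), ?_⟩
  rw [hord, hord]
  exact hQ

end aut

end Cfsg.Agent.Lib.Lead.PrimDerA
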