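import Mathlib

/-!
Automorphisms of prime order of a finite group: fixed-point congruence, and a criterion
`N_G(P) ≤ C_G(P)` for an abelian Sylow subgroup from the possible prime orders in `Aut P`.
-/

set_option autoImplicit false

namespace Cfsg.Agent.Lib.Lead

open Subgroup

/-- The fixed points of an automorphism, as a subgroup. -/
def autFixed {T : Type*} [Group T] (φ : MulAut T) : Subgroup T where
  carrier := {t | φ t = t}
  one_mem' := map_one φ
  mul_mem' := by
    intro a b ha hb
    simp only [Set.mem_setOf_eq] at ha hb ⊢
    rw [map_mul, ha, hb]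
  inv_mem' := by
    intro a ha
    simp only [Set.mem_setOf_eq] at ha ⊢
    rw [map_inv, ha]

/-- An automorphism of prime order `r` of a finite group `T` has a proper fixed subgroup `F`
with `|T| ≡ |F| mod r`. -/
theorem exists_fixed_subgroup_of_prime_order {T : Type*} [Group T] [Finite T] (φ : MulAut T)
    {r : ℕ} (hr : r.Prime) (hφ : orderOf φ = r) :
    ∃ F : Subgroup T, F ≠ ⊤ ∧ Nat.card T ≡ Nat.card F [MOD r] := by
  haveI : Fact r.Prime := ⟨hr⟩
  refine ⟨autFixed φ, ?_, ?_⟩
  · intro htop
    have : φ = 1 := by
      ext t
      have : t ∈ autFixed φ := htop ▸ mem_top t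
      exact this
    rw [this, orderOf_one] at hφ
    exact hr.one_lt.ne hφ
  · have hpg : IsPGroup r (zpowers φ) := by
      rw [IsPGroup.iff_card]
      exact ⟨1, by rw [Nat.card_zpowers, hφ, pow_one]⟩
    have h1 := hpg.card_modEq_card_fixedPoints T
    have h2 : Nat.card (MulAction.fixedPoints (zpowers φ) T) = Nat.card (autFixed φ) := by
      apply Nat.card_congr
      refine Equiv.subtypeEquivRight (fun t => ?_)
      constructor
      · intro ht
        exact ht ⟨φ, mem_zpowers φ⟩
      · intro ht ψ
        obtain ⟨k, hk⟩ := ψ.2
        have hfix : ∀ k : ℤ, (φ ^ k) t = t := by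
          intro k
          have h3 : ∀ n : ℕ, (φ ^ n) t = t := by
            intro n
            induction n with
            | zero => simp
            | succ n ih => rw [pow_succ, MulAut.mul_apply, ht, ih]
          cases k with
          | ofNat n => simpa using h3 n
          | negSucc n =>
            rw [zpow_negSucc]
            have := h3 (n + 1)
            rw [MulAut.inv_apply, MulEquiv.symm_apply_eq]
            exact this.symm
        change (ψ : MulAut T) t = t
        rw [← hk]
        exact hfix k
    rw [h2] at h1
    exact h1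

variable {G : Type*} [Group G] [Finite G] {p : ℕ} [Fact p.Prime]

/-- If no prime `r ≠ p` dividing `|G|` is the order of an automorphism of the abelian Sylow
`p`-subgroup `P`, then `N_G(P) ≤ C_G(P)`. -/
theorem normalizer_le_centralizer_of_aut (P : Sylow p G) [hP : IsMulCommutative P]
    (h : ∀ r : ℕ, r.Prime → r ∣ Nat.card G → r ≠ p → ∀ φ : MulAut P, orderOf φ ≠ r) :
    normalizer ((P : Subgroup G) : Set G) ≤ centralizer ((P : Subgroup G) : Set G) := by
  have key := card_dvd_of_injective _
    (QuotientGroup.kerLift_injective (P : Subgroup G).normalizerMonoidHom)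
  rw [normalizerMonoidHom_ker, ← index, ← relIndex] at key
  rw [← relIndex_eq_one]
  by_contra hne
  obtain ⟨r, hr, hrd⟩ := Nat.exists_prime_and_dvd hne
  haveI : Fact r.Prime := ⟨hr⟩
  have h1 : r ∣ Nat.card G :=
    (hrd.trans (relIndex_dvd_card _ _)).trans (card_subgroup_dvd_card _)
  have h2 : r ≠ p := by
    rintro rfl
    have h3 : (centralizer ((P : Subgroup G) : Set G)).relIndex (normalizer ((P : Subgroup G) : Set G)) ∣
        (P : Subgroup G).index :=
      (relIndex_dvd_of_le_left _ (Subgroup.le_centralizer (P : Subgroup G))).trans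
        (relIndex_dvd_index_of_le le_normalizer)
    exact P.not_dvd_index (hrd.trans h3)
  obtain ⟨φ, hφ⟩ := exists_prime_orderOf_dvd_card' r (hrd.trans key)
  exact h r hr h1 h2 φ hφ

end Cfsg.Agent.Lib.Lead
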