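import Mathlib.GroupTheory.Commutator.Basic
import Mathlib.GroupTheory.Nilpotent
import Mathlib.Tactic.Group
import Cfsg.Agent.Lib.Helper18.MinimalCL

set_option autoImplicit false

/-!
Ito's theorem on products of two abelian subgroups (the commutator subgroup `⁅H, K⁆` is abelian
when `H K = K H`), the subgroup `⁅H, K⁆` is normalized by `H`, and the order formula
`|H K| |H ∩ K| ≤ |H| |K|` for a product set which is a subgroup.
-/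

namespace Cfsg.Agent.Lib.Lead.CLIto

open Subgroup
open scoped Pointwise commutatorElement
open Cfsg.Agent.Lib.Helper18

variable {G : Type*} [Group G]

theorem conj_commutatorElement (g x y : G) :
    g * ⁅x, y⁆ * g⁻¹ = ⁅g * x * g⁻¹, g * y * g⁻¹⁆ := by
  simp only [commutatorElement_def]; group

theorem commutatorElement_mul_left_of_comm (x y z : G) (h : y * z = z * y) :
    ⁅x * y, z⁆ = ⁅x, z⁆ := by
  simp only [commutatorElement_def]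
  calc x * y * z * (x * y)⁻¹ * z⁻¹ = x * (y * z) * y⁻¹ * x⁻¹ * z⁻¹ := by group
    _ = x * (z * y) * y⁻¹ * x⁻¹ * z⁻¹ := by rw [h]
    _ = x * z * x⁻¹ * z⁻¹ := by group

theorem commutatorElement_mul_right_of_comm (x y z : G) (h : x * z = z * x) :
    ⁅x, y * z⁆ = ⁅x, y⁆ := by
  have h' : z * x⁻¹ = x⁻¹ * z := by
    calc z * x⁻¹ = x⁻¹ * (x * z) * x⁻¹ := by group
      _ = x⁻¹ * (z * x) * x⁻¹ := by rw [h]
      _ = x⁻¹ * z := by group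
  simp only [commutatorElement_def]
  calc x * (y * z) * x⁻¹ * (y * z)⁻¹ = x * y * (z * x⁻¹) * z⁻¹ * y⁻¹ := by group
    _ = x * y * (x⁻¹ * z) * z⁻¹ * y⁻¹ := by rw [h']
    _ = x * y * x⁻¹ * y⁻¹ := by group

theorem conj_eq_of_comm (g y : G) (h : g * y = y * g) : g * y * g⁻¹ = y := by
  rw [h, mul_inv_cancel_right]

/-- The key computation in Ito's theorem. -/
theorem ito_key (H K : Subgroup G)
    (hH : ∀ x ∈ H, ∀ y ∈ H, x * y = y * x) (hK : ∀ x ∈ K, ∀ y ∈ K, x * y = y * x)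
    (hHK : ((H ⊔ K : Subgroup G) : Set G) = (H : Set G) * (K : Set G))
    (a : G) (ha : a ∈ H) (b : G) (hb : b ∈ K) (c : G) (hc : c ∈ H) (d : G) (hd : d ∈ K) :
    (c * d) * ⁅a, b⁆ * (c * d)⁻¹ = (d * c) * ⁅a, b⁆ * (d * c)⁻¹ := by
  have h1 : d * a * d⁻¹ ∈ ((H ⊔ K : Subgroup G) : Set G) :=
    (H ⊔ K).mul_mem ((H ⊔ K).mul_mem (mem_sup_right hd) (mem_sup_left ha))
      ((H ⊔ K).inv_mem (mem_sup_right hd))
  rw [hHK] at h1
  obtain ⟨a₃, ha₃, b₃, hb₃, e1⟩ := h1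
  have h2 : (c * b * c⁻¹)⁻¹ ∈ ((H ⊔ K : Subgroup G) : Set G) :=
    (H ⊔ K).inv_mem ((H ⊔ K).mul_mem ((H ⊔ K).mul_mem (mem_sup_left hc) (mem_sup_right hb))
      ((H ⊔ K).inv_mem (mem_sup_left hc)))
  rw [hHK] at h2
  obtain ⟨a', ha', b', hb', e2⟩ := h2
  have e1' : d * a * d⁻¹ = a₃ * b₃ := e1.symm
  have e2' : c * b * c⁻¹ = b'⁻¹ * a'⁻¹ := by
    have e2'' : a' * b' = (c * b * c⁻¹)⁻¹ := e2
    have h3 : c * b * c⁻¹ = (a' * b')⁻¹ := by rw [e2'', inv_inv]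
    rw [h3, mul_inv_rev]
  have hb2 : b'⁻¹ ∈ K := K.inv_mem hb'
  have ha2 : a'⁻¹ ∈ H := H.inv_mem ha'
  -- left side
  have L1 : d * ⁅a, b⁆ * d⁻¹ = ⁅a₃, b⁆ := by
    rw [conj_commutatorElement, e1', conj_eq_of_comm d b (hK d hd b hb),
      commutatorElement_mul_left_of_comm a₃ b₃ b (hK b₃ hb₃ b hb)]
  have L2 : c * ⁅a₃, b⁆ * c⁻¹ = ⁅a₃, b'⁻¹⁆ := by
    rw [conj_commutatorElement, e2', conj_eq_of_comm c a₃ (hH c hc a₃ ha₃),
      commutatorElement_mul_right_of_comm a₃ b'⁻¹ a'⁻¹ (hH a₃ ha₃ a'⁻¹ ha2)]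
  have R1 : c * ⁅a, b⁆ * c⁻¹ = ⁅a, b'⁻¹⁆ := by
    rw [conj_commutatorElement, e2', conj_eq_of_comm c a (hH c hc a ha),
      commutatorElement_mul_right_of_comm a b'⁻¹ a'⁻¹ (hH a ha a'⁻¹ ha2)]
  have R2 : d * ⁅a, b'⁻¹⁆ * d⁻¹ = ⁅a₃, b'⁻¹⁆ := by
    rw [conj_commutatorElement, e1', conj_eq_of_comm d b'⁻¹ (hK d hd b'⁻¹ hb2),
      commutatorElement_mul_left_of_comm a₃ b₃ b'⁻¹ (hK b₃ hb₃ b'⁻¹ hb2)]
  calc (c * d) * ⁅a, b⁆ * (c * d)⁻¹ = c * (d * ⁅a, b⁆ * d⁻¹) * c⁻¹ := by group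
    _ = ⁅a₃, b'⁻¹⁆ := by rw [L1, L2]
    _ = d * (c * ⁅a, b⁆ * c⁻¹) * d⁻¹ := by rw [R1, R2]
    _ = (d * c) * ⁅a, b⁆ * (d * c)⁻¹ := by group

/-- **Ito's theorem**: if `H`, `K` are abelian and `H K` is a subgroup, then `⁅H, K⁆` is abelian. -/
theorem ito (H K : Subgroup G)
    (hH : ∀ x ∈ H, ∀ y ∈ H, x * y = y * x) (hK : ∀ x ∈ K, ∀ y ∈ K, x * y = y * x)
    (hHK : ((H ⊔ K : Subgroup G) : Set G) = (H : Set G) * (K : Set G)) :
    ∀ x ∈ ⁅H, K⁆, ∀ y ∈ ⁅H, K⁆, x * y = y * x := by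
  have hgen : ∀ a ∈ H, ∀ b ∈ K, ∀ c ∈ H, ∀ d ∈ K, ⁅a, b⁆ * ⁅c, d⁆ = ⁅c, d⁆ * ⁅a, b⁆ := by
    intro a ha b hb c hc d hd
    have key := ito_key H K hH hK hHK a ha b hb c⁻¹ (H.inv_mem hc) d⁻¹ (K.inv_mem hd)
    have e : ⁅c, d⁆ = (d⁻¹ * c⁻¹)⁻¹ * (c⁻¹ * d⁻¹) := by
      simp only [commutatorElement_def]; group
    generalize ⁅a, b⁆ = x at key ⊢
    rw [e]
    calc x * ((d⁻¹ * c⁻¹)⁻¹ * (c⁻¹ * d⁻¹))
        = (d⁻¹ * c⁻¹)⁻¹ * ((d⁻¹ * c⁻¹) * x * (d⁻¹ * c⁻¹)⁻¹) * (c⁻¹ * d⁻¹) := by group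
      _ = (d⁻¹ * c⁻¹)⁻¹ * ((c⁻¹ * d⁻¹) * x * (c⁻¹ * d⁻¹)⁻¹) * (c⁻¹ * d⁻¹) := by rw [key]
      _ = (d⁻¹ * c⁻¹)⁻¹ * (c⁻¹ * d⁻¹) * x := by group
  have hc : IsMulCommutative ↥(⁅H, K⁆) := by
    rw [Subgroup.commutator_def]
    apply Subgroup.isMulCommutative_closure
    rintro _ ⟨a, ha, b, hb, rfl⟩ _ ⟨c, hc, d, hd, rfl⟩
    exact hgen a ha b hb c hc d hd
  have hle := Subgroup.le_centralizer_iff_isMulCommutative.mpr hc
  intro x hx y hy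
  exact (hle hx y hy).symm

/-- `⁅H, K⁆` is normalized by `H`. -/
theorem le_normalizer_commutator (H K : Subgroup G) :
    H ≤ normalizer ((⁅H, K⁆ : Subgroup G) : Set G) := by
  rw [Subgroup.commutator_def, Subgroup.le_normalizer_closure_iff]
  rintro h hh _ ⟨a, ha, b, hb, rfl⟩
  have e : h * ⁅a, b⁆ * h⁻¹ = ⁅h * a, b⁆ * (⁅h, b⁆)⁻¹ := by
    simp only [commutatorElement_def]; group
  rw [e, ← Subgroup.commutator_def]
  exact Subgroup.mul_mem _ (commutator_mem_commutator (H.mul_mem hh ha) hb)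
    (Subgroup.inv_mem _ (commutator_mem_commutator hh hb))

/-- If `H K` is a subgroup then `|H K| |H ∩ K| ≤ |H| |K|`. -/
theorem card_sup_mul_card_inf_le [Finite G] (H K : Subgroup G)
    (h : ((H ⊔ K : Subgroup G) : Set G) = (H : Set G) * (K : Set G)) :
    Nat.card ↥(H ⊔ K) * Nat.card ↥(H ⊓ K) ≤ Nat.card H * Nat.card K := by
  have hidx : K.relIndex (H ⊔ K) ≤ K.relIndex H := by
    set e := Subgroup.quotientSubgroupOfEmbeddingOfLE K (le_sup_left : H ≤ H ⊔ K) with he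
    have hsurj : Function.Surjective e := by
      intro q
      obtain ⟨x, rfl⟩ := QuotientGroup.mk_surjective q
      have hx : (x : G) ∈ ((H ⊔ K : Subgroup G) : Set G) := x.2
      rw [h] at hx
      obtain ⟨a, ha, b, hb, hab⟩ := hx
      refine ⟨QuotientGroup.mk (⟨a, ha⟩ : H), ?_⟩
      rw [he, Subgroup.quotientSubgroupOfEmbeddingOfLE_apply_mk, QuotientGroup.eq,
        Subgroup.mem_subgroupOf]
      have e3 : (((Subgroup.inclusion (le_sup_left : H ≤ H ⊔ K) ⟨a, ha⟩)⁻¹ * x : ↥(H ⊔ K)) : G)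
          = b := by
        simp only [Subgroup.coe_mul, Subgroup.coe_inv, Subgroup.coe_inclusion]
        have hab' : a * b = (x : G) := hab
        rw [← hab']; group
      rw [e3]; exact hb
    have h1 : Nat.card (↥H ⧸ K.subgroupOf H) = K.relIndex H := rfl
    have h2 : Nat.card (↥(H ⊔ K) ⧸ K.subgroupOf (H ⊔ K)) = K.relIndex (H ⊔ K) := rfl
    rw [← h1, ← h2]
    exact Nat.card_le_card_of_surjective e hsurj
  rw [card_eq_card_inf_mul_relIndex H K, card_sup_eq_card_mul_relIndex H K]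
  calc Nat.card K * K.relIndex (H ⊔ K) * Nat.card ↥(H ⊓ K)
      ≤ Nat.card K * K.relIndex H * Nat.card ↥(H ⊓ K) := by gcongr
    _ = Nat.card ↥(H ⊓ K) * K.relIndex H * Nat.card K := by ring

end Cfsg.Agent.Lib.Lead.CLIto
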