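import Cfsg.Agent.Lib.Lead.CLIto

set_option autoImplicit false

/-!
A maximal abelian member of the Chermak–Delgado lattice of a finite nilpotent group which is
normalized by the (abelian version of the) Thompson subgroup.

For an abelian member `U` of largest order of the lattice and an abelian subgroup `A` of largest
order, `Z(U^A) ⁅U, A⁆` is again an abelian member of largest order (`isZ_DA`); a member `U` whose
normal closure under `J` has least order is then normal in `J` (`exists_isZ_normal`).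
-/

namespace Cfsg.Agent.Lib.Lead.CLNormal

open Subgroup
open scoped Pointwise commutatorElement
open Cfsg.Agent.Lib.Helper18 Cfsg.Agent.Lib.Lead.CLIto

variable {G : Type*} [Group G]

/-- The conjugate `g U g⁻¹`. -/
def cj (g : G) (U : Subgroup G) : Subgroup G := U.map (MulAut.conj g).toMonoidHom

theorem mem_cj {g x : G} {U : Subgroup G} : x ∈ cj g U ↔ ∃ y ∈ U, g * y * g⁻¹ = x := by
  simp only [cj, Subgroup.mem_map, MulEquiv.coe_toMonoidHom, MulAut.conj_apply]

theorem conj_mem_cj {g u : G} {U : Subgroup G} (hu : u ∈ U) : g * u * g⁻¹ ∈ cj g U :=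
  mem_cj.mpr ⟨u, hu, rfl⟩

/-- The closure of `U` under conjugation by `A`. -/
def XA (U A : Subgroup G) : Subgroup G := ⨆ a : A, cj (a : G) U

/-- The centre of `XA U A`. -/
def ZA (U A : Subgroup G) : Subgroup G := XA U A ⊓ centralizer (XA U A : Set G)

/-- The replacement of `U` with respect to `A`. -/
def DA (U A : Subgroup G) : Subgroup G := ZA U A ⊔ ⁅U, A⁆

theorem cj_le_XA (U A : Subgroup G) {a : G} (ha : a ∈ A) : cj a U ≤ XA U A :=
  le_iSup (fun a : A => cj (a : G) U) ⟨a, ha⟩

theorem le_XA (U A : Subgroup G) : U ≤ XA U A := by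
  intro u hu
  have h1 : u ∈ cj (1 : G) U := mem_cj.mpr ⟨u, hu, by simp⟩
  exact cj_le_XA U A A.one_mem h1

theorem XA_conj_mem (U A : Subgroup G) {a x : G} (ha : a ∈ A) (hx : x ∈ XA U A) :
    a * x * a⁻¹ ∈ XA U A := by
  unfold XA at hx
  refine Subgroup.iSup_induction (fun b : A => cj (b : G) U)
    (C := fun x => a * x * a⁻¹ ∈ XA U A) hx ?_ ?_ ?_
  · rintro ⟨b, hb⟩ y hy
    obtain ⟨u, hu, rfl⟩ := mem_cj.mp hy
    have e : a * (b * u * b⁻¹) * a⁻¹ = (a * b) * u * (a * b)⁻¹ := by group
    show a * (b * u * b⁻¹) * a⁻¹ ∈ XA U A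
    rw [e]
    exact cj_le_XA U A (A.mul_mem ha hb) (conj_mem_cj hu)
  · show a * 1 * a⁻¹ ∈ XA U A
    simp
  · intro x y hx hy
    have e : a * (x * y) * a⁻¹ = (a * x * a⁻¹) * (a * y * a⁻¹) := by group
    show a * (x * y) * a⁻¹ ∈ XA U A
    rw [e]
    exact Subgroup.mul_mem _ hx hy

theorem XA_mono (U : Subgroup G) {A B : Subgroup G} (h : A ≤ B) : XA U A ≤ XA U B :=
  iSup_le fun a => cj_le_XA U B (h a.2)

theorem commutator_le_XA (U A : Subgroup G) : ⁅U, A⁆ ≤ XA U A := by
  rw [Subgroup.commutator_le]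
  intro u hu a ha
  have e : ⁅u, a⁆ = u * (a * u⁻¹ * a⁻¹) := by simp only [commutatorElement_def]; group
  rw [e]
  exact Subgroup.mul_mem _ (le_XA U A hu) (cj_le_XA U A ha (conj_mem_cj (U.inv_mem hu)))

theorem XA_le_sup_commutator (U A : Subgroup G) : XA U A ≤ U ⊔ ⁅U, A⁆ := by
  apply iSup_le
  rintro ⟨a, ha⟩ x hx
  obtain ⟨u, hu, rfl⟩ := mem_cj.mp hx
  have e : a * u * a⁻¹ = (⁅u, a⁆)⁻¹ * u := by simp only [commutatorElement_def]; group
  show a * u * a⁻¹ ∈ U ⊔ ⁅U, A⁆
  rw [e]
  exact Subgroup.mul_mem _ (Subgroup.inv_mem _ (mem_sup_right (commutator_mem_commutator hu ha)))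
    (mem_sup_left hu)

theorem ZA_le_XA (U A : Subgroup G) : ZA U A ≤ XA U A := inf_le_left

theorem ZA_conj_mem (U A : Subgroup G) {a z : G} (ha : a ∈ A) (hz : z ∈ ZA U A) :
    a * z * a⁻¹ ∈ ZA U A := by
  refine ⟨XA_conj_mem U A ha hz.1, ?_⟩
  show a * z * a⁻¹ ∈ centralizer (XA U A : Set G)
  rw [Subgroup.mem_centralizer_iff]
  intro x hx
  have hx' : a⁻¹ * x * a ∈ XA U A := by
    have := XA_conj_mem U A (A.inv_mem ha) hx
    simpa using this
  have h := (Subgroup.mem_centralizer_iff.mp hz.2) _ hx'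
  calc x * (a * z * a⁻¹) = a * ((a⁻¹ * x * a) * z) * a⁻¹ := by group
    _ = a * (z * (a⁻¹ * x * a)) * a⁻¹ := by rw [h]
    _ = a * z * a⁻¹ * x := by group

theorem DA_le_XA (U A : Subgroup G) : DA U A ≤ XA U A :=
  sup_le (ZA_le_XA U A) (commutator_le_XA U A)

variable [Finite G]

/-- `H` is an abelian member of order `n` of the Chermak–Delgado lattice. -/
def IsZ (n : ℕ) (H : Subgroup G) : Prop :=
  H ≤ centralizer (H : Set G) ∧ cdm H = cdmax G ∧ Nat.card H = n

theorem cdm_XA {n : ℕ} {U : Subgroup G} (hU : IsZ n U) (A : Subgroup G) :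
    cdm (XA U A) = cdmax G := by
  have h := sSup_mem_of_sup_closed (fun X : Subgroup G => cdm X = cdmax G)
    (fun X Y hX hY => (cdm_sup_inf_of_max X Y hX hY).1)
    (Set.range fun a : A => cj (a : G) U) ⟨_, ⟨⟨1, A.one_mem⟩, rfl⟩⟩ (by
      rintro _ ⟨a, rfl⟩
      show cdm (cj (a : G) U) = cdmax G
      unfold cj
      rw [cdm_map_conj]
      exact hU.2.1)
  exact h

theorem ZA_le {n : ℕ}
    (hn : ∀ H : Subgroup G, H ≤ centralizer (H : Set G) → cdm H = cdmax G → Nat.card H ≤ n)
    {U : Subgroup G} (hU : IsZ n U) (A : Subgroup G) : ZA U A ≤ U := by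
  have hX := cdm_XA hU A
  obtain ⟨hC, -⟩ := cdm_centralizer_of_max (XA U A) hX
  have hZ : cdm (ZA U A) = cdmax G := (cdm_sup_inf_of_max _ _ hX hC).2.1
  have hZab : ZA U A ≤ centralizer (ZA U A : Set G) := by
    intro z hz
    rw [Subgroup.mem_centralizer_iff]
    intro y hy
    exact (Subgroup.mem_centralizer_iff.mp hz.2) y hy.1
  have hUZ : U ≤ centralizer (ZA U A : Set G) := by
    intro u hu
    rw [Subgroup.mem_centralizer_iff]
    intro z hz
    exact ((Subgroup.mem_centralizer_iff.mp hz.2) u (le_XA U A hu)).symm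
  have hcomm := isMulCommutative_sup U (ZA U A) hU.1 hZab hUZ
  have hab : U ⊔ ZA U A ≤ centralizer ((U ⊔ ZA U A : Subgroup G) : Set G) :=
    Subgroup.le_centralizer_iff_isMulCommutative.mpr hcomm
  have hcd : cdm (U ⊔ ZA U A) = cdmax G := (cdm_sup_inf_of_max _ _ hU.2.1 hZ).1
  have hcard := hn _ hab hcd
  have he : U = U ⊔ ZA U A :=
    Subgroup.eq_of_le_of_card_ge le_sup_left (by rw [hU.2.2]; exact hcard)
  calc ZA U A ≤ U ⊔ ZA U A := le_sup_right
    _ = U := he.symm

/-- The arithmetic at the heart of `isZ_DA`. -/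
theorem squeeze {x c z m d q e w v t n F : ℕ} (hc : 0 < c) (hz : 0 < z) (hw : 0 < w)
    (hn0 : 0 < n) (hd0 : 0 < d)
    (h1 : x * c = F) (h2 : n * q = F) (h3 : n * c ≤ q * z) (h4 : d * c ≤ e * z)
    (h4' : d * e ≤ F) (h5 : z * m ≤ d * v) (h6 : v ≤ w) (h7 : x ≤ t) (h7' : t * w ≤ n * m) :
    d = n ∧ d * e = F := by
  have hA : z * x ≤ n * d := by
    have : z * x * w ≤ n * d * w := by
      calc z * x * w ≤ z * t * w := by gcongr
        _ = z * (t * w) := by ring
        _ ≤ z * (n * m) := by gcongr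
        _ = n * (z * m) := by ring
        _ ≤ n * (d * v) := by gcongr
        _ ≤ n * (d * w) := by gcongr
        _ = n * d * w := by ring
    exact Nat.le_of_mul_le_mul_right this hw
  have hB : n * n ≤ x * z := by
    have : n * n * c ≤ x * z * c := by
      calc n * n * c = n * (n * c) := by ring
        _ ≤ n * (q * z) := by gcongr
        _ = (n * q) * z := by ring
        _ = x * c * z := by rw [h2, h1]
        _ = x * z * c := by ring
    exact Nat.le_of_mul_le_mul_right this hc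
  have hC : d * d ≤ x * z := by
    have : d * d * c ≤ x * z * c := by
      calc d * d * c = d * (d * c) := by ring
        _ ≤ d * (e * z) := by gcongr
        _ = (d * e) * z := by ring
        _ ≤ F * z := by gcongr
        _ = x * c * z := by rw [h1]
        _ = x * z * c := by ring
    exact Nat.le_of_mul_le_mul_right this hc
  have hnd : n ≤ d := by
    have : n * n ≤ n * d := by
      calc n * n ≤ x * z := hB
        _ = z * x := by ring
        _ ≤ n * d := hA
    exact Nat.le_of_mul_le_mul_left this hn0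
  have hdn : d ≤ n := by
    have : d * d ≤ n * d := by
      calc d * d ≤ x * z := hC
        _ = z * x := by ring
        _ ≤ n * d := hA
    exact Nat.le_of_mul_le_mul_right this hd0
  have hdn' : d = n := le_antisymm hdn hnd
  refine ⟨hdn', le_antisymm h4' ?_⟩
  have hxz : x * z = n * n := by
    apply le_antisymm _ hB
    calc x * z = z * x := by ring
      _ ≤ n * d := hA
      _ = n * n := by rw [hdn']
  have : F * z ≤ d * e * z := by
    calc F * z = x * c * z := by rw [h1]
      _ = (x * z) * c := by ring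
      _ = n * n * c := by rw [hxz]
      _ = d * (d * c) := by rw [hdn']; ring
      _ ≤ d * (e * z) := by gcongr
      _ = d * e * z := by ring
  exact Nat.le_of_mul_le_mul_right this hz

/-- The replacement `Z(U^A) ⁅U, A⁆` is again an abelian member of order `n` of the lattice. -/
theorem isZ_DA {n : ℕ}
    (hn : ∀ H : Subgroup G, H ≤ centralizer (H : Set G) → cdm H = cdmax G → Nat.card H ≤ n)
    {U : Subgroup G} (hU : IsZ n U) {A : Subgroup G}
    (hAab : ∀ x ∈ A, ∀ y ∈ A, x * y = y * x)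
    (hperm : ((U ⊔ A : Subgroup G) : Set G) = (U : Set G) * (A : Set G)) :
    IsZ n (DA U A) := by
  have hUab : ∀ x ∈ U, ∀ y ∈ U, x * y = y * x := fun x hx y hy =>
    ((Subgroup.mem_centralizer_iff.mp (hU.1 hx)) y hy).symm
  have hMab := ito U A hUab hAab hperm
  set M : Subgroup G := ⁅U, A⁆ with hM
  have hMM : M ≤ centralizer (M : Set G) := by
    intro x hx
    rw [Subgroup.mem_centralizer_iff]
    intro y hy
    exact hMab y hy x hx
  have hMX : M ≤ XA U A := commutator_le_XA U A
  have hZU : ZA U A ≤ U := ZA_le hn hU A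
  have hZab : ZA U A ≤ centralizer (ZA U A : Set G) := by
    intro z hz
    rw [Subgroup.mem_centralizer_iff]
    intro y hy
    exact (Subgroup.mem_centralizer_iff.mp hz.2) y hy.1
  have hZM : ZA U A ≤ centralizer (M : Set G) := by
    intro z hz
    rw [Subgroup.mem_centralizer_iff]
    intro y hy
    exact (Subgroup.mem_centralizer_iff.mp hz.2) y (hMX hy)
  have hDcomm := isMulCommutative_sup (ZA U A) M hZab hMM hZM
  have hDab : DA U A ≤ centralizer ((DA U A : Subgroup G) : Set G) :=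
    Subgroup.le_centralizer_iff_isMulCommutative.mpr hDcomm
  have hDX : DA U A ≤ XA U A := DA_le_XA U A
  have hX := cdm_XA hU A
  -- cardinalities
  have h1 : Nat.card (XA U A) * Nat.card ↥(centralizer (XA U A : Set G)) = cdmax G := hX
  have h2 : n * Nat.card ↥(centralizer (U : Set G)) = cdmax G := by
    have := hU.2.1
    unfold cdm at this
    rw [hU.2.2] at this
    exact this
  have h3 : n * Nat.card ↥(centralizer (XA U A : Set G)) ≤
      Nat.card ↥(centralizer (U : Set G)) * Nat.card (ZA U A) := by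
    have h := card_mul_card_le_card_sup_mul_card_inf U (centralizer (XA U A : Set G))
    rw [hU.2.2] at h
    have ha : U ⊔ centralizer (XA U A : Set G) ≤ centralizer (U : Set G) :=
      sup_le hU.1 (Subgroup.centralizer_le (by exact_mod_cast (le_XA U A)))
    have hb : U ⊓ centralizer (XA U A : Set G) ≤ ZA U A := fun y hy => ⟨le_XA U A hy.1, hy.2⟩
    exact h.trans (Nat.mul_le_mul (Subgroup.card_le_of_le ha) (Subgroup.card_le_of_le hb))
  have h4 : Nat.card (DA U A) * Nat.card ↥(centralizer (XA U A : Set G)) ≤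
      Nat.card ↥(centralizer ((DA U A : Subgroup G) : Set G)) * Nat.card (ZA U A) := by
    have h := card_mul_card_le_card_sup_mul_card_inf (DA U A) (centralizer (XA U A : Set G))
    have ha : DA U A ⊔ centralizer (XA U A : Set G) ≤
        centralizer ((DA U A : Subgroup G) : Set G) :=
      sup_le hDab (Subgroup.centralizer_le (by exact_mod_cast hDX))
    have hb : DA U A ⊓ centralizer (XA U A : Set G) ≤ ZA U A := fun y hy => ⟨hDX hy.1, hy.2⟩
    exact h.trans (Nat.mul_le_mul (Subgroup.card_le_of_le ha) (Subgroup.card_le_of_le hb))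
  have h4' : Nat.card (DA U A) * Nat.card ↥(centralizer ((DA U A : Subgroup G) : Set G)) ≤
      cdmax G := cdm_le_cdmax (DA U A)
  have h5 : Nat.card (ZA U A) * Nat.card M ≤ Nat.card (DA U A) * Nat.card ↥(ZA U A ⊓ M) :=
    card_mul_card_le_card_sup_mul_card_inf (ZA U A) M
  have h6 : Nat.card ↥(ZA U A ⊓ M) ≤ Nat.card ↥(U ⊓ M) :=
    Subgroup.card_le_of_le (inf_le_inf_right M hZU)
  have h7 : Nat.card (XA U A) ≤ Nat.card ↥(U ⊔ M) :=
    Subgroup.card_le_of_le (XA_le_sup_commutator U A)
  have h7' : Nat.card ↥(U ⊔ M) * Nat.card ↥(U ⊓ M) ≤ n * Nat.card M := by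
    have := card_sup_mul_card_inf_le U M
      (Subgroup.coe_mul_of_left_le_normalizer_right U M (le_normalizer_commutator U A))
    rw [hU.2.2] at this
    exact this
  have hn0 : 0 < n := by rw [← hU.2.2]; exact Nat.card_pos
  obtain ⟨e1, e2⟩ := squeeze (Nat.card_pos (α := ↥(centralizer (XA U A : Set G))))
    (Nat.card_pos (α := ↥(ZA U A))) (Nat.card_pos (α := ↥(U ⊓ M))) hn0
    (Nat.card_pos (α := ↥(DA U A))) h1 h2 h3 h4 h4' h5 h6 h7 h7'
  exact ⟨hDab, e2, e1⟩

/-- **Main theorem**: some abelian member of order `n` of the lattice is normalized by `J`. -/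
theorem exists_isZ_normal (hnil : Group.IsNilpotent G) (n : ℕ)
    (hn : ∀ H : Subgroup G, H ≤ centralizer (H : Set G) → cdm H = cdmax G → Nat.card H ≤ n)
    (hne : ∃ U : Subgroup G, IsZ n U)
    (hperm : ∀ U : Subgroup G, IsZ n U → ∀ A ∈ Cfsg.maxAbelianSubgroups G,
      ((U ⊔ A : Subgroup G) : Set G) = (U : Set G) * (A : Set G)) :
    ∃ U : Subgroup G, IsZ n U ∧ Cfsg.thompsonSubgroupA G ≤ normalizer (U : Set G) := by
  classical
  set J := Cfsg.thompsonSubgroupA G with hJ
  have hAJ : ∀ A ∈ Cfsg.maxAbelianSubgroups G, A ≤ J := fun A hA => le_sSup hA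
  obtain ⟨U₀, hU₀⟩ := hne
  have : Nonempty {U : Subgroup G // IsZ n U} := ⟨⟨U₀, hU₀⟩⟩
  obtain ⟨Um, hUm⟩ := Finite.exists_min
    (fun U : {U : Subgroup G // IsZ n U} => Nat.card (XA U.1 J))
  set kmin := Nat.card (XA Um.1 J) with hk
  have hmin : ∀ U, IsZ n U → kmin ≤ Nat.card (XA U J) := fun U hU => hUm ⟨U, hU⟩
  set Γ : ℕ → Subgroup G := fun j => (⊤ : Subgroup G).lowerCentralSeries j with hΓ
  have hΓn : ∀ j, (Γ j).Normal := fun j => by
    show ((⊤ : Subgroup G).lowerCentralSeries j).Normal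
    infer_instance
  have key : ∀ j : ℕ, ∀ U : Subgroup G, IsZ n U → Nat.card (XA U J) = kmin →
      (J ≤ normalizer ((U ⊔ Γ j : Subgroup G) : Set G)) ∧
      (∀ A ∈ Cfsg.maxAbelianSubgroups G, ⁅U, A⁆ ≤ ZA U A ⊔ Γ j) := by
    intro j
    induction j with
    | zero =>
      intro U hU hkU
      have h0 : Γ 0 = ⊤ := rfl
      constructor
      · rw [h0, sup_top_eq, Subgroup.normalizer_eq_top]
        exact le_top
      · intro A hA
        rw [h0, sup_top_eq]
        exact le_top
    | succ j ih =>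
      intro U hU hkU
      have hii : ∀ A ∈ Cfsg.maxAbelianSubgroups G, ⁅U, A⁆ ≤ ZA U A ⊔ Γ (j + 1) := by
        intro A hA
        have hAab : ∀ x ∈ A, ∀ y ∈ A, x * y = y * x := fun x hx y hy =>
          ((Subgroup.mem_centralizer_iff.mp
            ((Subgroup.le_centralizer_iff_isMulCommutative.mpr hA.1) hx)) y hy).symm
        have hΔ : IsZ n (DA U A) := isZ_DA hn hU hAab (hperm U hU A hA)
        have hΔX : DA U A ≤ XA U A := DA_le_XA U A
        have hXAJ : XA U A ≤ XA U J := XA_mono U (hAJ A hA)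
        have hKΔ : XA (DA U A) J ≤ XA U J := by
          apply iSup_le
          rintro ⟨g, hg⟩ x hx
          obtain ⟨δ, hδ, rfl⟩ := mem_cj.mp hx
          exact XA_conj_mem U J hg (hXAJ (hΔX hδ))
        have hcardΔ : Nat.card (XA (DA U A) J) = kmin :=
          le_antisymm ((Subgroup.card_le_of_le hKΔ).trans hkU.le) (hmin _ hΔ)
        have hKeq : XA (DA U A) J = XA U J :=
          Subgroup.eq_of_le_of_card_ge hKΔ (by rw [hcardΔ, hkU])
        obtain ⟨ihΔ1, -⟩ := ih (DA U A) hΔ hcardΔ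
        obtain ⟨-, ihU2⟩ := ih U hU hkU
        have h1 : XA (DA U A) J ≤ DA U A ⊔ Γ j := by
          apply iSup_le
          rintro ⟨g, hg⟩ x hx
          obtain ⟨δ, hδ, rfl⟩ := mem_cj.mp hx
          exact (Subgroup.le_normalizer_iff.mp ihΔ1) g hg δ (mem_sup_left hδ)
        have h2 : DA U A ≤ ZA U A ⊔ Γ j := sup_le le_sup_left (ihU2 A hA)
        have h3 : U ≤ ZA U A ⊔ Γ j := by
          have h4 : U ≤ XA (DA U A) J := by rw [hKeq]; exact le_XA U J
          exact (h4.trans h1).trans (sup_le h2 le_sup_right)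
        rw [Subgroup.commutator_le]
        intro u hu a ha
        have hu' : u ∈ ((ZA U A ⊔ Γ j : Subgroup G) : Set G) := h3 hu
        have := hΓn j
        rw [Subgroup.mul_normal] at hu'
        obtain ⟨z, hz, γ, hγ, rfl⟩ := hu'
        have e : ⁅z * γ, a⁆ = z * ⁅γ, a⁆ * z⁻¹ * ⁅z, a⁆ := by
          simp only [commutatorElement_def]; group
        rw [e]
        refine Subgroup.mul_mem _ (mem_sup_right ?_) (mem_sup_left ?_)
        · have hγa : ⁅γ, a⁆ ∈ Γ (j + 1) :=
            commutator_mem_commutator (H₁ := Γ j) (H₂ := ⊤) hγ (mem_top a)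
          exact (hΓn (j + 1)).conj_mem _ hγa z
        · have e' : ⁅z, a⁆ = z * (a * z⁻¹ * a⁻¹) := by
            simp only [commutatorElement_def]; group
          rw [e']
          exact Subgroup.mul_mem _ hz (ZA_conj_mem U A ha (Subgroup.inv_mem _ hz))
      refine ⟨?_, hii⟩
      show Cfsg.thompsonSubgroupA G ≤ _
      unfold Cfsg.thompsonSubgroupA
      apply sSup_le
      intro A hA
      rw [Subgroup.le_normalizer_iff]
      intro a ha s hs
      have hs' : s ∈ ((U ⊔ Γ (j + 1) : Subgroup G) : Set G) := hs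
      have := hΓn (j + 1)
      rw [Subgroup.mul_normal] at hs'
      obtain ⟨u, hu, γ, hγ, rfl⟩ := hs'
      have e : a * (u * γ) * a⁻¹ = (⁅u, a⁆)⁻¹ * u * (a * γ * a⁻¹) := by
        simp only [commutatorElement_def]; group
      rw [e]
      have hZU := ZA_le hn hU A
      have hc : ⁅u, a⁆ ∈ U ⊔ Γ (j + 1) :=
        (sup_le_sup_right hZU _) (hii A hA (commutator_mem_commutator hu ha))
      exact Subgroup.mul_mem _ (Subgroup.mul_mem _ (Subgroup.inv_mem _ hc) (mem_sup_left hu))
        (mem_sup_right ((hΓn (j + 1)).conj_mem _ hγ a))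
  obtain ⟨c, hc⟩ := Subgroup.nilpotent_iff_lowerCentralSeries.mp hnil
  obtain ⟨h1, -⟩ := key c Um.1 Um.2 rfl
  refine ⟨Um.1, Um.2, ?_⟩
  have hc' : Γ c = ⊥ := hc
  rw [hc', sup_bot_eq] at h1
  exact h1

end Cfsg.Agent.Lib.Lead.CLNormal
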