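import Cfsg.Agent.Lib.Lead.CLNormal

set_option autoImplicit false

/-!
Glauberman's results on minimal centrally large subgroups and the Thompson subgroup, in the
language of `Cfsg.Agent.Lib.Helper18` (`clm`, `clmax`, `cdm`, `cdmax`).
-/

namespace Cfsg.Agent.Lib.Lead.CLParts

open Subgroup
open scoped Pointwise commutatorElement
open Cfsg.Agent.Lib.Helper18 Cfsg.Agent.Lib.Lead.CLNormal

variable {G : Type*} [Group G]

theorem normalizer_le_normalizer_centralizer (U : Subgroup G) :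
    normalizer (U : Set G) ≤ normalizer ((centralizer (U : Set G) : Subgroup G) : Set G) := by
  rw [Subgroup.le_normalizer_iff]
  intro g hg q hq
  rw [Subgroup.mem_centralizer_iff]
  intro u hu
  have hu' : g⁻¹ * u * g ∈ U := (Subgroup.mem_normalizer_iff''.mp hg u).mp hu
  have h := (Subgroup.mem_centralizer_iff.mp hq) _ hu'
  calc u * (g * q * g⁻¹) = g * ((g⁻¹ * u * g) * q) * g⁻¹ := by group
    _ = g * (q * (g⁻¹ * u * g)) * g⁻¹ := by rw [h]
    _ = g * q * g⁻¹ * u := by group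

variable [Finite G]

/-- `Q J` is centrally large for a centrally large `Q`. -/
theorem clm_sup_thompson (Q : Subgroup G) (hQ : clm Q = clmax G) :
    clm (Q ⊔ Cfsg.thompsonSubgroupA G) = clmax G := by
  obtain ⟨A₀, hA₀⟩ := exists_mem_maxAbelian (G := G)
  set F : Set (Subgroup G) := {X | ∃ A ∈ Cfsg.maxAbelianSubgroups G, X = Q ⊔ A} with hF
  have h := sSup_mem_of_sup_closed (fun X : Subgroup G => clm X = clmax G)
    (fun X Y hX hY => (clm_sup_of_max X Y hX hY).2) F ⟨Q ⊔ A₀, A₀, hA₀, rfl⟩ (by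
      rintro _ ⟨A, hA, rfl⟩
      exact (clm_sup_maxAbelian Q A hQ hA).2.1)
  have he : sSup F = Q ⊔ Cfsg.thompsonSubgroupA G := by
    apply le_antisymm
    · apply sSup_le
      rintro _ ⟨A, hA, rfl⟩
      exact sup_le_sup_left (le_sSup hA) Q
    · apply sup_le
      · exact le_sup_left.trans (le_sSup (⟨A₀, hA₀, rfl⟩ : Q ⊔ A₀ ∈ F))
      · unfold Cfsg.thompsonSubgroupA
        apply sSup_le
        intro A hA
        exact le_sup_right.trans (le_sSup (⟨A, hA, rfl⟩ : Q ⊔ A ∈ F))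
  rw [← he]
  exact h

/-- `Q J(P) ⊇ C_P(Z(J(P)))` for a centrally large `Q`. -/
theorem part1 (Q : Subgroup G) (hQ : clm Q = clmax G) :
    centralizer ((Cfsg.thompsonSubgroupA G ⊓
      centralizer (Cfsg.thompsonSubgroupA G : Set G) : Subgroup G) : Set G) ≤
      Q ⊔ Cfsg.thompsonSubgroupA G := by
  obtain ⟨A₀, hA₀⟩ := exists_mem_maxAbelian (G := G)
  set T := Q ⊔ Cfsg.thompsonSubgroupA G with hT
  have hTcl := clm_sup_thompson Q hQ
  obtain ⟨hT1, hT2⟩ := cdm_eq_of_clm_eq T hTcl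
  obtain ⟨-, hT3⟩ := cdm_centralizer_of_max T hT1
  have hJT : Cfsg.thompsonSubgroupA G ≤ T := le_sup_right
  have hAJ : A₀ ≤ Cfsg.thompsonSubgroupA G := le_sSup hA₀
  have hAT : A₀ ≤ T := hAJ.trans hJT
  have hCT : centralizer (T : Set G) ≤ Cfsg.thompsonSubgroupA G ⊓
      centralizer (Cfsg.thompsonSubgroupA G : Set G) := by
    refine le_inf ?_ (Subgroup.centralizer_le (by exact_mod_cast hJT))
    have h3 : centralizer (T : Set G) ≤ centralizer (A₀ : Set G) :=
      Subgroup.centralizer_le (by exact_mod_cast hAT)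
    exact (h3.trans (centralizer_le_of_mem_maxAbelian A₀ hA₀)).trans hAJ
  calc centralizer ((Cfsg.thompsonSubgroupA G ⊓
          centralizer (Cfsg.thompsonSubgroupA G : Set G) : Subgroup G) : Set G)
      ≤ centralizer ((centralizer (T : Set G) : Subgroup G) : Set G) :=
        Subgroup.centralizer_le (by exact_mod_cast hCT)
    _ = T := hT3.symm

theorem exists_minimalCL_le (R : Subgroup G) (hR : clm R = clmax G) :
    ∃ Q : Subgroup G, Q ≤ R ∧ clm Q = clmax G ∧
      ∀ R' : Subgroup G, R' ≤ Q → clm R' = clmax G → R' = Q := by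
  have : Nonempty {X : Subgroup G // X ≤ R ∧ clm X = clmax G} := ⟨⟨R, le_rfl, hR⟩⟩
  obtain ⟨Q, hQ⟩ := Finite.exists_min
    (fun X : {X : Subgroup G // X ≤ R ∧ clm X = clmax G} => Nat.card X.1)
  refine ⟨Q.1, Q.2.1, Q.2.2, ?_⟩
  intro R' hR'Q hR'
  exact Subgroup.eq_of_le_of_card_ge hR'Q (hQ ⟨R', hR'Q.trans Q.2.1, hR'⟩)

theorem mem_maxAbelian_of_clm (Q : Subgroup G) (hQ : clm Q = clmax G)
    (hc : IsMulCommutative Q) : Q ∈ Cfsg.maxAbelianSubgroups G := by
  refine ⟨hc, fun B hB => ?_⟩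
  have h1 := clm_le_clmax B
  rw [clm_of_isMulCommutative B hB, ← hQ, clm_of_isMulCommutative Q hc] at h1
  exact Nat.mul_self_le_mul_self_iff.mp h1

/-- If all minimal centrally large subgroups are abelian then `C_P(Z(J(P))) = J(P)`. -/
theorem part4 (hall : ∀ Q : Subgroup G, clm Q = clmax G →
      (∀ R' : Subgroup G, R' ≤ Q → clm R' = clmax G → R' = Q) → IsMulCommutative Q) :
    centralizer ((Cfsg.thompsonSubgroupA G ⊓
      centralizer (Cfsg.thompsonSubgroupA G : Set G) : Subgroup G) : Set G) =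
      Cfsg.thompsonSubgroupA G := by
  obtain ⟨R, hR⟩ := exists_clm_eq_clmax (G := G)
  obtain ⟨Q, -, hQ, hQmin⟩ := exists_minimalCL_le R hR
  have hc := hall Q hQ hQmin
  have hQA := mem_maxAbelian_of_clm Q hQ hc
  have hQJ : Q ≤ Cfsg.thompsonSubgroupA G := le_sSup hQA
  apply le_antisymm
  · exact (part1 Q hQ).trans (sup_le hQJ le_rfl)
  · intro x hx
    rw [Subgroup.mem_centralizer_iff]
    intro z hz
    exact ((Subgroup.mem_centralizer_iff.mp hz.2) x hx).symm

/-- If `P = J(P)` and `d(P)² = |P| |Z(P)|` then the minimal centrally large subgroups are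
abelian. -/
theorem part3 (hJtop : Cfsg.thompsonSubgroupA G = ⊤)
    (hsq : ∀ A ∈ Cfsg.maxAbelianSubgroups G,
      Nat.card ↥A ^ 2 = Nat.card G * Nat.card ↥(Subgroup.center G))
    (Q : Subgroup G) (hQ : clm Q = clmax G)
    (hQmin : ∀ R' : Subgroup G, R' ≤ Q → clm R' = clmax G → R' = Q) : IsMulCommutative Q := by
  obtain ⟨A₀, hA₀⟩ := exists_mem_maxAbelian (G := G)
  have hT := clm_sup_thompson Q hQ
  rw [hJtop, sup_top_eq] at hT
  have htop : clm (⊤ : Subgroup G) = Nat.card G * Nat.card ↥(Subgroup.center G) := by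
    rw [clm_eq, top_inf_eq, Subgroup.coe_top, Subgroup.centralizer_univ, Subgroup.card_top]
  obtain ⟨-, -, hB⟩ := clm_sup_maxAbelian Q A₀ hQ hA₀
  have hBQ : (Q ⊓ A₀) ⊔ (Q ⊓ centralizer (Q : Set G)) ≤ Q := sup_le inf_le_left inf_le_left
  have hBcl : clm ((Q ⊓ A₀) ⊔ (Q ⊓ centralizer (Q : Set G))) = clmax G := by
    rw [clm_of_isMulCommutative _ hB.1, ← hT, htop, ← hsq _ hB, sq]
  have he := hQmin _ hBQ hBcl
  rw [← he]
  exact hB.1

/-- Some minimal centrally large subgroup is normalized by `J(P)` and by every minimal centrally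
large subgroup. -/
theorem part2 (hnil : Group.IsNilpotent G)
    (hS6 : ∀ Q A : Subgroup G, clm Q = clmax G → A ∈ Cfsg.maxAbelianSubgroups G →
      (((Q ⊓ centralizer (Q : Set G)) ⊔ A : Subgroup G) : Set G) =
        ((Q ⊓ centralizer (Q : Set G) : Subgroup G) : Set G) * (A : Set G)) :
    ∃ Q : Subgroup G,
      (clm Q = clmax G ∧ ∀ R' : Subgroup G, R' ≤ Q → clm R' = clmax G → R' = Q) ∧
      Cfsg.thompsonSubgroupA G ≤ normalizer (Q : Set G) ∧
      ∀ R : Subgroup G, clm R = clmax G →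
        (∀ R' : Subgroup G, R' ≤ R → clm R' = clmax G → R' = R) → R ≤ normalizer (Q : Set G) := by
  obtain ⟨A₀, hA₀⟩ := exists_mem_maxAbelian (G := G)
  obtain ⟨R₀, hR₀⟩ := exists_clm_eq_clmax (G := G)
  obtain ⟨Q₀, -, hQ₀, hQ₀min⟩ := exists_minimalCL_le R₀ hR₀
  set n := Nat.card ↥(centralizer (Q₀ : Set G)) with hn_def
  -- centres of minimal centrally large subgroups have order `n`
  have hcardZ : ∀ Q' : Subgroup G, clm Q' = clmax G →
      (∀ R' : Subgroup G, R' ≤ Q' → clm R' = clmax G → R' = Q') →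
      Nat.card ↥(centralizer (Q' : Set G)) = n := by
    intro Q' hQ' hQ'min
    obtain ⟨-, -, -, h4⟩ := minimalCL_uniform Q' Q₀ hQ' hQ'min hQ₀ hQ₀min
    rw [inf_eq_right.mpr (cdm_eq_of_clm_eq Q' hQ').2,
      inf_eq_right.mpr (cdm_eq_of_clm_eq Q₀ hQ₀).2] at h4
    exact h4
  have hn : ∀ H : Subgroup G, H ≤ centralizer (H : Set G) → cdm H = cdmax G →
      Nat.card H ≤ n := by
    intro H hab hH
    obtain ⟨hC1, hHCC⟩ := cdm_centralizer_of_max H hH
    have hCcl : clm (centralizer (H : Set G)) = clmax G := by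
      apply clm_eq_of_cdm_eq _ hC1
      rw [← hHCC]
      exact hab
    obtain ⟨Q', hQ'C, hQ', hQ'min⟩ := exists_minimalCL_le _ hCcl
    have h1 : H ≤ centralizer (Q' : Set G) := by
      rw [hHCC]
      exact Subgroup.centralizer_le (by exact_mod_cast hQ'C)
    rw [← hcardZ Q' hQ' hQ'min]
    exact Subgroup.card_le_of_le h1
  have hne : ∃ U : Subgroup G, IsZ n U := by
    refine ⟨centralizer (Q₀ : Set G), ?_, ?_, rfl⟩
    · exact Subgroup.centralizer_le (by exact_mod_cast (cdm_eq_of_clm_eq Q₀ hQ₀).2)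
    · exact (cdm_centralizer_of_max Q₀ (cdm_eq_of_clm_eq Q₀ hQ₀).1).1
  -- the centralizer of a member is centrally large
  have hcl : ∀ U : Subgroup G, IsZ n U → clm (centralizer (U : Set G)) = clmax G := by
    intro U hU
    obtain ⟨hC1, hUCC⟩ := cdm_centralizer_of_max U hU.2.1
    apply clm_eq_of_cdm_eq _ hC1
    rw [← hUCC]
    exact hU.1
  have hperm : ∀ U : Subgroup G, IsZ n U → ∀ A ∈ Cfsg.maxAbelianSubgroups G,
      ((U ⊔ A : Subgroup G) : Set G) = (U : Set G) * (A : Set G) := by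
    intro U hU A hA
    obtain ⟨-, hUCC⟩ := cdm_centralizer_of_max U hU.2.1
    have h := hS6 (centralizer (U : Set G)) A (hcl U hU) hA
    have e : centralizer (U : Set G) ⊓
        centralizer ((centralizer (U : Set G) : Subgroup G) : Set G) = U := by
      rw [← hUCC]
      exact inf_eq_right.mpr hU.1
    rw [e] at h
    exact h
  obtain ⟨U, hU, hJU⟩ := exists_isZ_normal hnil n hn hne hperm
  obtain ⟨hC1, hUCC⟩ := cdm_centralizer_of_max U hU.2.1
  have hQcl := hcl U hU
  have hQmin : ∀ R' : Subgroup G, R' ≤ centralizer (U : Set G) → clm R' = clmax G →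
      R' = centralizer (U : Set G) := by
    intro R' hR'Q hR'
    obtain ⟨hR1, hR2⟩ := cdm_eq_of_clm_eq R' hR'
    obtain ⟨hCR1, hRCC⟩ := cdm_centralizer_of_max R' hR1
    have hCab : centralizer (R' : Set G) ≤
        centralizer ((centralizer (R' : Set G) : Subgroup G) : Set G) :=
      Subgroup.centralizer_le (by exact_mod_cast hR2)
    have hUC : U ≤ centralizer (R' : Set G) := by
      rw [hUCC]
      exact Subgroup.centralizer_le (by exact_mod_cast hR'Q)
    have hcard := hn _ hCab hCR1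
    have he : U = centralizer (R' : Set G) :=
      Subgroup.eq_of_le_of_card_ge hUC (by rw [hU.2.2]; exact hcard)
    rw [hRCC, ← he]
  have hQle : centralizer (U : Set G) ≤
      normalizer ((centralizer (U : Set G) : Subgroup G) : Set G) := Subgroup.le_normalizer
  have hJQ : Cfsg.thompsonSubgroupA G ≤
      normalizer ((centralizer (U : Set G) : Subgroup G) : Set G) :=
    hJU.trans (normalizer_le_normalizer_centralizer U)
  refine ⟨centralizer (U : Set G), ⟨hQcl, hQmin⟩, hJQ, ?_⟩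
  intro R hR hRmin
  have h1 := sup_centralizer_eq_of_minimal R (centralizer (U : Set G)) hR hQcl hRmin
  rw [← h1]
  apply sup_le
  · exact inf_le_right.trans hQle
  · obtain ⟨-, -, hB⟩ := clm_sup_maxAbelian R A₀ hR hA₀
    have h2 : centralizer (R : Set G) ≤ (R ⊓ A₀) ⊔ (R ⊓ centralizer (R : Set G)) :=
      (le_inf (cdm_eq_of_clm_eq R hR).2 le_rfl).trans le_sup_right
    have h3 : (R ⊓ A₀) ⊔ (R ⊓ centralizer (R : Set G)) ≤ Cfsg.thompsonSubgroupA G := le_sSup hB
    exact (h2.trans h3).trans hJQ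

end Cfsg.Agent.Lib.Lead.CLParts
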