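import Mathlib
import Cfsg.Prelude.Def_Solvable
import Cfsg.Agent.Lib.Helper1.Coprime
import Cfsg.Agent.Lib.Helper1.CoprimeSylow
import Cfsg.Agent.Lib.Helper4.ComplementSystem

/-!
Consequences of Glauberman's Z*-theorem for a class of involutions whose pairwise products have
`p`-power order (Fischer-type statements).  Everything here takes the conclusion of the
Z*-theorem as a hypothesis `hZ`.
-/

set_option autoImplicit false

namespace Cfsg.Agent.Lib.Lead.ZStarP

open Cfsg.Agent.Lib.Helper1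

universe u

variable {G : Type u} [Group G]

/-- If `d` is an involution which is central modulo the odd order normal subgroup `N` and all
products `d * d^g` have `p`-power order, then they all lie in one normal `p`-subgroup. -/
theorem exists_normal_pGroup [Finite G] {p : ℕ} (hp : p.Prime) (d : G) (hd : orderOf d = 2)
    (hprod : ∀ g : G, ∃ k : ℕ, orderOf (d * (g * d * g⁻¹)) = p ^ k)
    (hZ : ∃ N : Subgroup G, N.Normal ∧ Odd (Nat.card N) ∧ ∀ g : G, d * g * d⁻¹ * g⁻¹ ∈ N) :
    ∃ Q : Subgroup G, Q.Normal ∧ IsPGroup p Q ∧ ∀ g : G, d * (g * d * g⁻¹) ∈ Q := by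
  classical
  obtain ⟨N, hNn, hNodd, hN⟩ := hZ
  haveI := hNn
  haveI : Fact p.Prime := ⟨hp⟩
  have hdd : d * d = 1 := by rw [← pow_two, ← hd, pow_orderOf_eq_one]
  have hdinv : d⁻¹ = d := inv_eq_of_mul_eq_one_left hdd
  have hcardA : Nat.card (Subgroup.zpowers d) = 2 := by rw [Nat.card_zpowers, hd]
  have hcop : CoprimeAct (Subgroup.zpowers d) N :=
    { norm := by rw [Subgroup.normalizer_eq_top]; exact le_top
      cop := by rw [hcardA]; exact Nat.coprime_two_left.mpr hNodd
      solv := Or.inl (Group.isSolvable_of_comm (fun a b =>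
        (inferInstance : IsMulCommutative (Subgroup.zpowers d)).is_comm.comm a b)) }
  obtain ⟨P, hP⟩ := hcop.exists_invariant_sylow p
  let C : Subgroup N := (Subgroup.centralizer ({d} : Set G)).subgroupOf N
  -- `d` centralizes every `d`-invariant `r`-subgroup for `r ≠ p`
  have hcent : ∀ (r : ℕ) [Fact r.Prime], r ≠ p → ∀ R : Sylow r N,
      Subgroup.zpowers d ≤ Subgroup.normalizer (((R : Subgroup N).map N.subtype : Subgroup G) : Set G) →
      (R : Subgroup N) ≤ C := by
    intro r hr hrp R hR x hx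
    have hRp : IsPGroup r ((R : Subgroup N).map N.subtype) := R.isPGroup'.map N.subtype
    have hxR : (x : G) ∈ (R : Subgroup N).map N.subtype := ⟨x, hx, rfl⟩
    have hdn := hR (Subgroup.mem_zpowers d)
    have h1 : d * (x : G) * d⁻¹ ∈ (R : Subgroup N).map N.subtype :=
      (Subgroup.mem_normalizer_iff.mp hdn (x : G)).mp hxR
    have he : d * ((x : G) * d * (x : G)⁻¹) ∈ (R : Subgroup N).map N.subtype := by
      have h2 := mul_mem h1 (inv_mem hxR)
      have e : d * (x : G) * d⁻¹ * (x : G)⁻¹ = d * ((x : G) * d⁻¹ * (x : G)⁻¹) := by group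
      rw [e, hdinv] at h2
      exact h2
    obtain ⟨k, hk⟩ := hprod (x : G)
    obtain ⟨j, hj⟩ := hRp ⟨_, he⟩
    have hj' : (d * ((x : G) * d * (x : G)⁻¹)) ^ (r ^ j) = 1 := by
      have := congrArg Subtype.val hj
      simpa using this
    have hdvd : p ^ k ∣ r ^ j := by rw [← hk]; exact orderOf_dvd_of_pow_eq_one hj'
    have hk0 : k = 0 := by
      by_contra hk0
      have h3 : p ∣ r ^ j := (dvd_pow_self p hk0).trans hdvd
      have h4 : p ∣ r := hp.dvd_of_dvd_pow h3
      exact hrp ((Nat.prime_dvd_prime_iff_eq hp hr.out).mp h4).symm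
    rw [hk0, pow_zero, orderOf_eq_one_iff] at hk
    -- `d x d x⁻¹ = 1`
    have hcomm : d * (x : G) = (x : G) * d := by
      have e : d * (x : G) = (d * ((x : G) * d * (x : G)⁻¹)) * ((x : G) * d⁻¹) := by group
      rw [e, hk, one_mul, hdinv]
    change (x : G) ∈ Subgroup.centralizer ({d} : Set G)
    rw [Subgroup.mem_centralizer_iff]
    intro h hh
    rw [Set.mem_singleton_iff] at hh
    rw [hh]
    exact hcomm
  -- the indices of `P` and `C` in `N` are coprime
  have hindex : (P : Subgroup N).index.Coprime C.index := by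
    apply Nat.coprime_of_dvd
    intro r hr hrP hrC
    haveI : Fact r.Prime := ⟨hr⟩
    have hrp : r ≠ p := by
      rintro rfl
      exact P.not_dvd_index hrP
    obtain ⟨R, hR⟩ := hcop.exists_invariant_sylow r
    have hRC := hcent r hrp R hR
    exact R.not_dvd_index (hrC.trans (Subgroup.index_dvd_of_le hRC))
  have hPp : IsPGroup p ((P : Subgroup N).map N.subtype) := P.isPGroup'.map N.subtype
  -- all products lie in the image of `P`
  have key : ∀ g : G, d * (g * d * g⁻¹) ∈ (P : Subgroup N).map N.subtype := by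
    intro g
    have hbb : (g * d * g⁻¹) * (g * d * g⁻¹) = 1 := by
      have e : (g * d * g⁻¹) * (g * d * g⁻¹) = g * (d * d) * g⁻¹ := by group
      rw [e, hdd]; group
    have hbinv : (g * d * g⁻¹)⁻¹ = g * d * g⁻¹ := inv_eq_of_mul_eq_one_left hbb
    have hnN : d * (g * d * g⁻¹) ∈ N := by
      have h1 := hN g
      have e : d * g * d⁻¹ * g⁻¹ = d * (g * d⁻¹ * g⁻¹) := by group
      rw [e, hdinv] at h1
      exact h1
    have hninv : d * (d * (g * d * g⁻¹)) * d⁻¹ = (d * (g * d * g⁻¹))⁻¹ := by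
      rw [mul_inv_rev, hbinv, ← mul_assoc d d, hdd, one_mul]
    have hodd_n : Odd (orderOf (d * (g * d * g⁻¹))) := by
      have h1 : orderOf (⟨_, hnN⟩ : N) ∣ Nat.card N := orderOf_dvd_natCard _
      rw [Subgroup.orderOf_mk] at h1
      exact Odd.of_dvd_nat hNodd h1
    obtain ⟨k, hk⟩ := hodd_n
    obtain ⟨m, hmN, hm2, hminv⟩ : ∃ m : G, m ∈ N ∧ m * m = d * (g * d * g⁻¹) ∧
        d * m * d⁻¹ = m⁻¹ := by
      refine ⟨(d * (g * d * g⁻¹)) ^ (k + 1), pow_mem hnN _, ?_, ?_⟩
      · rw [← pow_add]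
        have e : k + 1 + (k + 1) = orderOf (d * (g * d * g⁻¹)) + 1 := by rw [hk]; ring
        rw [e, pow_succ, pow_orderOf_eq_one, one_mul]
      · rw [← conj_pow, hninv, inv_pow]
    -- `g d g⁻¹ = m⁻¹ d m`
    have hb : g * d * g⁻¹ = m⁻¹ * d * m := by
      symm
      calc m⁻¹ * d * m = m⁻¹ * (d * m * d⁻¹) * d := by group
        _ = m⁻¹ * m⁻¹ * d := by rw [hminv]
        _ = (m * m)⁻¹ * d := by group
        _ = (d * (g * d * g⁻¹))⁻¹ * d := by rw [hm2]
        _ = (g * d * g⁻¹)⁻¹ * d⁻¹ * d := by group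
        _ = g * d * g⁻¹ := by rw [hbinv]; group
    obtain ⟨x, hx, c, hc, hxc⟩ := Cfsg.Agent.Lib.Helper4.exists_mul_of_coprime_index
      (P : Subgroup N) C hindex ⟨m⁻¹, inv_mem hmN⟩
    have hm' : m⁻¹ = (x : G) * (c : G) := by
      have := congrArg Subtype.val hxc
      simpa using this
    have hm'' : m = ((x : G) * (c : G))⁻¹ := by
      rw [← hm', inv_inv]
    have hcd : d * (c : G) = (c : G) * d := by
      have h1 : (c : G) ∈ Subgroup.centralizer ({d} : Set G) := hc
      rw [Subgroup.mem_centralizer_iff] at h1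
      exact h1 d rfl
    have hb2 : g * d * g⁻¹ = (x : G) * d * (x : G)⁻¹ := by
      rw [hb, hm', hm'']
      calc (x : G) * (c : G) * d * ((x : G) * (c : G))⁻¹
          = (x : G) * ((c : G) * d) * (c : G)⁻¹ * (x : G)⁻¹ := by group
        _ = (x : G) * (d * (c : G)) * (c : G)⁻¹ * (x : G)⁻¹ := by rw [hcd]
        _ = (x : G) * d * (x : G)⁻¹ := by group
    have hxP : (x : G) ∈ (P : Subgroup N).map N.subtype := ⟨x, hx, rfl⟩
    have hdn := hP (Subgroup.mem_zpowers d)
    have h1 : d * (x : G) * d⁻¹ ∈ (P : Subgroup N).map N.subtype :=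
      (Subgroup.mem_normalizer_iff.mp hdn (x : G)).mp hxP
    have h2 := mul_mem h1 (inv_mem hxP)
    have e : d * (x : G) * d⁻¹ * (x : G)⁻¹ = d * ((x : G) * d⁻¹ * (x : G)⁻¹) := by group
    rw [e, hdinv, ← hb2] at h2
    exact h2
  refine ⟨Subgroup.normalClosure (Set.range fun g : G => d * (g * d * g⁻¹)),
    Subgroup.normalClosure_normal, ?_, fun g => Subgroup.subset_normalClosure ⟨g, rfl⟩⟩
  have hle : Subgroup.normalClosure (Set.range fun g : G => d * (g * d * g⁻¹))
      ≤ (P : Subgroup N).map N.subtype := by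
    change Subgroup.closure (Group.conjugatesOfSet _) ≤ _
    rw [Subgroup.closure_le]
    intro y hy
    obtain ⟨s, ⟨g, rfl⟩, hsy⟩ := Group.mem_conjugatesOfSet_iff.mp hy
    obtain ⟨h, rfl⟩ := isConj_iff.mp hsy
    have e : h * (d * (g * d * g⁻¹)) * h⁻¹
        = (d * (h * d⁻¹ * h⁻¹))⁻¹ * (d * ((h * g) * d * (h * g)⁻¹)) := by group
    rw [hdinv] at e
    change h * (d * (g * d * g⁻¹)) * h⁻¹ ∈ _
    rw [e]
    exact mul_mem (inv_mem (key h)) (key (h * g))
  exact hPp.to_le hle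

/-- Statement of the Z*-theorem for the group `G` (as in S0215). -/
def ZStarStatement (G : Type u) [Group G] : Prop :=
  ∀ (P : Sylow 2 G) (u : G), orderOf u = 2 → u ∈ P →
    (∀ g : G, g * u * g⁻¹ ∈ P → g * u * g⁻¹ = u) →
    ∃ N : Subgroup G, N.Normal ∧ Odd (Nat.card N) ∧ ∀ g : G, u * g * u⁻¹ * g⁻¹ ∈ N

/-- Fischer-type consequence of Z*: for `p` odd, if all `d * d^g` have `p`-power order then they
lie in a normal `p`-subgroup. -/
theorem exists_normal_pGroup_of_zstar [Finite G] (hZS : ZStarStatement G) {p : ℕ} (hp : p.Prime)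
    (hp2 : p ≠ 2) (d : G) (hd : orderOf d = 2)
    (hprod : ∀ g : G, ∃ k : ℕ, orderOf (d * (g * d * g⁻¹)) = p ^ k) :
    ∃ Q : Subgroup G, Q.Normal ∧ IsPGroup p Q ∧ ∀ g : G, d * (g * d * g⁻¹) ∈ Q := by
  classical
  haveI : Fact (Nat.Prime 2) := ⟨Nat.prime_two⟩
  have hdd : d * d = 1 := by rw [← pow_two, ← hd, pow_orderOf_eq_one]
  have hdinv : d⁻¹ = d := inv_eq_of_mul_eq_one_left hdd
  have hA : IsPGroup 2 (Subgroup.zpowers d) :=
    IsPGroup.of_card (n := 1) (by rw [Nat.card_zpowers, hd, pow_one])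
  obtain ⟨P, hPle⟩ := hA.exists_le_sylow
  have hdP : d ∈ (P : Subgroup G) := hPle (Subgroup.mem_zpowers d)
  apply exists_normal_pGroup hp d hd hprod
  apply hZS P d hd hdP
  intro g hg
  obtain ⟨k, hk⟩ := hprod g
  have hmem : d * (g * d * g⁻¹) ∈ (P : Subgroup G) := mul_mem hdP hg
  obtain ⟨j, hj⟩ := P.isPGroup' ⟨_, hmem⟩
  have hj' : (d * (g * d * g⁻¹)) ^ (2 ^ j) = 1 := by
    have := congrArg Subtype.val hj
    simpa using this
  have hdvd : p ^ k ∣ 2 ^ j := by rw [← hk]; exact orderOf_dvd_of_pow_eq_one hj'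
  have hk0 : k = 0 := by
    by_contra hk0
    have h3 : p ∣ 2 ^ j := (dvd_pow_self p hk0).trans hdvd
    have h4 : p ∣ 2 := hp.dvd_of_dvd_pow h3
    exact hp2 ((Nat.prime_dvd_prime_iff_eq hp Nat.prime_two).mp h4)
  rw [hk0, pow_zero, orderOf_eq_one_iff] at hk
  have e : g * d * g⁻¹ = d⁻¹ * (d * (g * d * g⁻¹)) := by group
  rw [e, hk, mul_one, hdinv]

/-- If `d` is central modulo the normal subgroup `Q` and `G` is generated by conjugates of `d`,
then `G' ≤ Q`. -/
theorem commutator_le_of_central_mod (Q : Subgroup G) [hQ : Q.Normal] (d : G)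
    (hgen : Subgroup.closure (conjugatesOf d) = ⊤)
    (hc : ∀ g : G, d * g * d⁻¹ * g⁻¹ ∈ Q) : commutator G ≤ Q := by
  have hZ : ∀ x : G, x ∈ (Subgroup.center (G ⧸ Q)).comap (QuotientGroup.mk' Q) := by
    intro x
    have hx : x ∈ Subgroup.closure (conjugatesOf d) := by rw [hgen]; exact Subgroup.mem_top x
    have hle : Subgroup.closure (conjugatesOf d)
        ≤ (Subgroup.center (G ⧸ Q)).comap (QuotientGroup.mk' Q) := by
      rw [Subgroup.closure_le]
      intro a ha
      obtain ⟨c, rfl⟩ := isConj_iff.mp (ha : IsConj d a)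
      have hd : d ∈ (Subgroup.center (G ⧸ Q)).comap (QuotientGroup.mk' Q) := by
        rw [Subgroup.mem_comap, Subgroup.mem_center_iff]
        intro y
        obtain ⟨y, rfl⟩ := QuotientGroup.mk'_surjective Q y
        have h1 := hc y
        rw [← QuotientGroup.eq_one_iff] at h1
        have h2 : (QuotientGroup.mk' Q) (d * y * d⁻¹ * y⁻¹) = 1 := h1
        rw [map_mul, map_mul, map_mul, map_inv, map_inv] at h2
        have h3 : (QuotientGroup.mk' Q) d * (QuotientGroup.mk' Q) y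
            = (QuotientGroup.mk' Q) y * (QuotientGroup.mk' Q) d := by
          calc (QuotientGroup.mk' Q) d * (QuotientGroup.mk' Q) y
              = ((QuotientGroup.mk' Q) d * (QuotientGroup.mk' Q) y * ((QuotientGroup.mk' Q) d)⁻¹
                * ((QuotientGroup.mk' Q) y)⁻¹) * ((QuotientGroup.mk' Q) y * (QuotientGroup.mk' Q) d) := by
                group
            _ = (QuotientGroup.mk' Q) y * (QuotientGroup.mk' Q) d := by rw [h2, one_mul]
        exact h3.symm
      have hn : ((Subgroup.center (G ⧸ Q)).comap (QuotientGroup.mk' Q)).Normal := inferInstance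
      exact hn.conj_mem d hd c
    exact hle hx
  rw [commutator_def, Subgroup.commutator_le]
  intro x _ y _
  have hx := hZ x
  rw [Subgroup.mem_comap, Subgroup.mem_center_iff] at hx
  have h1 := hx ((QuotientGroup.mk' Q) y)
  rw [commutatorElement_def, ← QuotientGroup.eq_one_iff]
  change (QuotientGroup.mk' Q) (x * y * x⁻¹ * y⁻¹) = 1
  rw [map_mul, map_mul, map_mul, map_inv, map_inv, ← h1]
  group

/-- S5560 modulo the Z*-theorem. -/
theorem s5560_of_zstar [Finite G] (hZS : ZStarStatement G) {p : ℕ} (hp : p.Prime) (hp2 : p ≠ 2)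
    (d : G) (hd : orderOf d = 2)
    (hprod : ∀ a ∈ conjugatesOf d, ∀ b ∈ conjugatesOf d, ∃ k : ℕ, orderOf (a * b) = p ^ k) :
    ∀ a ∈ conjugatesOf d, ∀ b ∈ conjugatesOf d, a * b ∈ Cfsg.pCore p G := by
  obtain ⟨Q, hQn, hQp, hQ⟩ := exists_normal_pGroup_of_zstar hZS hp hp2 d hd
    (fun g => hprod d mem_conjugatesOf_self (g * d * g⁻¹) (isConj_iff.mpr ⟨g, rfl⟩))
  intro a ha b hb
  obtain ⟨g, rfl⟩ := isConj_iff.mp (ha : IsConj d a)
  obtain ⟨h, rfl⟩ := isConj_iff.mp (hb : IsConj d b)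
  have hle : Q ≤ Cfsg.pCore p G := le_sSup ⟨hQn, hQp⟩
  apply hle
  have hdd : d * d = 1 := by rw [← pow_two, ← hd, pow_orderOf_eq_one]
  have hdinv : d⁻¹ = d := inv_eq_of_mul_eq_one_left hdd
  have e : g * d * g⁻¹ * (h * d * h⁻¹)
      = (d * (g * d⁻¹ * g⁻¹))⁻¹ * (d * (h * d * h⁻¹)) := by group
  rw [hdinv] at e
  rw [e]
  exact mul_mem (inv_mem (hQ g)) (hQ h)

/-- S1618 modulo the Z*-theorem. -/
theorem s1618_of_zstar [Finite G] (hZS : ZStarStatement G) (p : ℕ) (hp : p.Prime) (hodd : p ≠ 2)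
    {D : Set G} (hinv : ∀ d ∈ D, orderOf d = 2) (hconj : ∃ d ∈ D, D = conjugatesOf d)
    (hgen : Subgroup.closure D = ⊤)
    (hprod : ∀ x ∈ D, ∀ y ∈ D, x ≠ y → ∃ k : ℕ, orderOf (x * y) = p ^ k) :
    Group.IsNilpotent ↥(commutator G) := by
  classical
  haveI : Fact p.Prime := ⟨hp⟩
  obtain ⟨d, hdD, hD⟩ := hconj
  have hd : orderOf d = 2 := hinv d hdD
  have hdd : d * d = 1 := by rw [← pow_two, ← hd, pow_orderOf_eq_one]
  have hdinv : d⁻¹ = d := inv_eq_of_mul_eq_one_left hdd
  have hprod' : ∀ g : G, ∃ k : ℕ, orderOf (d * (g * d * g⁻¹)) = p ^ k := by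
    intro g
    by_cases hne : d = g * d * g⁻¹
    · refine ⟨0, ?_⟩
      rw [← hne, hdd, orderOf_one, pow_zero]
    · have hmem : g * d * g⁻¹ ∈ D := by
        rw [hD]
        exact isConj_iff.mpr ⟨g, rfl⟩
      exact hprod d hdD _ hmem hne
  obtain ⟨Q, hQn, hQp, hQ⟩ := exists_normal_pGroup_of_zstar hZS hp hodd d hd hprod'
  haveI := hQn
  have hle : commutator G ≤ Q := by
    apply commutator_le_of_central_mod Q d (by rw [← hD]; exact hgen)
    intro g
    have h1 := hQ g
    have e : d * (g * d * g⁻¹) = d * g * d * g⁻¹ := by group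
    rw [e] at h1
    rw [hdinv]
    exact h1
  have hcp : IsPGroup p ↥(commutator G) := hQp.to_le hle
  exact hcp.isNilpotent

end Cfsg.Agent.Lib.Lead.ZStarP
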