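import Mathlib
import Cfsg.Prelude.Def_Solvable
import Cfsg.Prelude.Def_CaseTheorems
import Cfsg.Agent.Lib.Lead.ZStarP

/-!
If distinct Sylow 2-subgroups of `G` meet inside the centre of some Sylow 2-subgroup and `C` is a
cyclic characteristic subgroup of a Sylow 2-subgroup `S`, then the involution of `C` is weakly
closed in `S` with respect to `G`; with the Z*-theorem it is central modulo `O(G)` (S3184).
-/

set_option autoImplicit false

namespace Cfsg.Agent.Lib.Lead.CharCyclicWC

open scoped Pointwise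

universe u

variable {G : Type u} [Group G]

/-- Conjugation by an element of the normalizer, as an automorphism of the subgroup. -/
def conjAut (H : Subgroup G) (g : G) (hg : g ∈ Subgroup.normalizer (H : Set G)) : ↥H ≃* ↥H where
  toFun s := ⟨g * s * g⁻¹, (Subgroup.mem_normalizer_iff.mp hg s).mp s.2⟩
  invFun s := ⟨g⁻¹ * s * g, by
    have h := (Subgroup.mem_normalizer_iff.mp (inv_mem hg) s).mp s.2
    rwa [inv_inv] at h⟩
  left_inv s := by
    apply Subtype.ext
    change g⁻¹ * (g * (s : G) * g⁻¹) * g = s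
    group
  right_inv s := by
    apply Subtype.ext
    change g * (g⁻¹ * (s : G) * g) * g⁻¹ = s
    group
  map_mul' a b := by
    apply Subtype.ext
    change g * ((a : G) * (b : G)) * g⁻¹ = (g * (a : G) * g⁻¹) * (g * (b : G) * g⁻¹)
    group

theorem conjAut_coe (H : Subgroup G) (g : G) (hg : g ∈ Subgroup.normalizer (H : Set G)) (s : H) :
    ((conjAut H g hg s : H) : G) = g * s * g⁻¹ := rfl

/-- A finite cyclic group has at most one element of order two. -/
theorem eq_of_orderOf_two {C : Type*} [Group C] [Finite C] [IsCyclic C] {a b : C}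
    (ha : orderOf a = 2) (hb : orderOf b = 2) : a = b := by
  classical
  letI := Fintype.ofFinite C
  have hd : 2 ∣ Fintype.card C := by rw [← ha]; exact orderOf_dvd_card
  have h := IsCyclic.card_orderOf_eq_totient hd
  rw [Nat.totient_two] at h
  exact Finset.card_le_one.mp h.le a (by simp [ha]) b (by simp [hb])

/-- An element of the normalizer of `S` fixes the involution of a cyclic characteristic subgroup
of `S`. -/
theorem conj_eq_of_mem_normalizer [Finite G] (S : Subgroup G) (C : Subgroup ↥S) (hCc : IsCyclic ↥C)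
    (hCh : C.Characteristic) (c : ↥S) (hc : c ∈ C) (hc2 : orderOf c = 2) (g : G)
    (hg : g ∈ Subgroup.normalizer (S : Set G)) : g * (c : G) * g⁻¹ = c := by
  have hmap : C.map (conjAut S g hg).toMonoidHom = C :=
    Subgroup.characteristic_iff_map_eq.mp hCh (conjAut S g hg)
  have hmem : conjAut S g hg c ∈ C := by
    rw [← hmap]
    exact Subgroup.mem_map_of_mem _ hc
  have h1 : orderOf (⟨conjAut S g hg c, hmem⟩ : C) = 2 := by
    rw [Subgroup.orderOf_mk, MulEquiv.orderOf_eq, hc2]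
  have h2 : orderOf (⟨c, hc⟩ : C) = 2 := by
    rw [Subgroup.orderOf_mk, hc2]
  have h3 := eq_of_orderOf_two h1 h2
  have h4 : conjAut S g hg c = c := congrArg Subtype.val h3
  have h5 := congrArg Subtype.val h4
  rw [conjAut_coe] at h5
  exact h5

theorem mem_smul_iff (S : Sylow 2 G) (g x : G) :
    x ∈ ((g • S : Sylow 2 G) : Subgroup G) ↔ g⁻¹ * x * g ∈ (S : Subgroup G) := by
  rw [Sylow.coe_subgroup_smul, Subgroup.mem_pointwise_smul_iff_inv_smul_mem]
  simp [MulAut.smul_def]

/-- The involution of a cyclic characteristic subgroup of a Sylow 2-subgroup is weakly closed. -/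
theorem weakly_closed [Finite G]
    (hCI : ∀ S T : Sylow 2 G, S ≠ T → ∃ U : Sylow 2 G,
      (S : Subgroup G) ⊓ (T : Subgroup G)
        ≤ (Subgroup.center ↥(U : Subgroup G)).map (U : Subgroup G).subtype)
    (S : Sylow 2 G) (C : Subgroup ↥(S : Subgroup G)) (hCc : IsCyclic ↥C) (hCh : C.Characteristic)
    (c : ↥(S : Subgroup G)) (hc : c ∈ C) (hc2 : orderOf c = 2) :
    ∀ g : G, g * (c : G) * g⁻¹ ∈ (S : Subgroup G) → g * (c : G) * g⁻¹ = (c : G) := by
  classical
  haveI : Fact (Nat.Prime 2) := ⟨Nat.prime_two⟩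
  have F1 : ∀ n : G, n ∈ Subgroup.normalizer ((S : Subgroup G) : Set G) →
      n * (c : G) * n⁻¹ = c :=
    fun n hn => conj_eq_of_mem_normalizer (S : Subgroup G) C hCc hCh c hc hc2 n hn
  have hcS : (c : G) ∈ Subgroup.centralizer ((S : Subgroup G) : Set G) := by
    rw [Subgroup.mem_centralizer_iff]
    intro s hs
    have h1 := F1 s (Subgroup.le_normalizer hs)
    calc s * (c : G) = (s * (c : G) * s⁻¹) * s := by group
      _ = (c : G) * s := by rw [h1]
  have B1 : ∀ h : G, h⁻¹ * (c : G) * h ∈ Subgroup.centralizer ((S : Subgroup G) : Set G) →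
      h⁻¹ * (c : G) * h = c := by
    intro h hh
    obtain ⟨n, hn, e⟩ := Sylow.conj_eq_normalizer_conj_of_mem_centralizer S (c : G) h hcS hh
    rw [e]
    have h1 := F1 n⁻¹ (inv_mem hn)
    rwa [inv_inv] at h1
  have B2 : ∀ (U : Sylow 2 G) (a b : G),
      a * (c : G) * a⁻¹ ∈ Subgroup.centralizer ((U : Subgroup G) : Set G) →
      b * (c : G) * b⁻¹ ∈ Subgroup.centralizer ((U : Subgroup G) : Set G) →
      a * (c : G) * a⁻¹ = b * (c : G) * b⁻¹ := by
    intro U a b ha hb
    obtain ⟨u, rfl⟩ := MulAction.exists_smul_eq G S U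
    have key : ∀ x : G, x * (c : G) * x⁻¹ ∈
        Subgroup.centralizer (((u • S : Sylow 2 G) : Subgroup G) : Set G) →
        x * (c : G) * x⁻¹ = u * (c : G) * u⁻¹ := by
      intro x hx
      have h1 : (x⁻¹ * u)⁻¹ * (c : G) * (x⁻¹ * u) ∈
          Subgroup.centralizer ((S : Subgroup G) : Set G) := by
        rw [Subgroup.mem_centralizer_iff] at hx ⊢
        intro s hs
        have hs' : u * s * u⁻¹ ∈ ((u • S : Sylow 2 G) : Subgroup G) := by
          refine (mem_smul_iff S u _).mpr ?_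
          have e : u⁻¹ * (u * s * u⁻¹) * u = s := by group
          rw [e]; exact hs
        have h2 := hx _ hs'
        calc s * ((x⁻¹ * u)⁻¹ * (c : G) * (x⁻¹ * u))
            = u⁻¹ * ((u * s * u⁻¹) * (x * (c : G) * x⁻¹)) * u := by group
          _ = u⁻¹ * ((x * (c : G) * x⁻¹) * (u * s * u⁻¹)) * u := by rw [h2]
          _ = ((x⁻¹ * u)⁻¹ * (c : G) * (x⁻¹ * u)) * s := by group
      have h3 := B1 _ h1
      calc x * (c : G) * x⁻¹ = u * ((x⁻¹ * u)⁻¹ * (c : G) * (x⁻¹ * u)) * u⁻¹ := by group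
        _ = u * (c : G) * u⁻¹ := by rw [h3]
    rw [key a ha, key b hb]
  have hc1 : ∀ W : Sylow 2 G, (c : G) ∈ Subgroup.centralizer ((W : Subgroup G) : Set G) →
      (1 : G) * (c : G) * (1 : G)⁻¹ ∈ Subgroup.centralizer ((W : Subgroup G) : Set G) := by
    intro W h
    simpa using h
  intro g hg
  -- `y = g c g⁻¹` centralizes `g • S`
  have hyg : g * (c : G) * g⁻¹ ∈
      Subgroup.centralizer (((g • S : Sylow 2 G) : Subgroup G) : Set G) := by
    rw [Subgroup.mem_centralizer_iff]
    intro s hs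
    have hs' : g⁻¹ * s * g ∈ (S : Subgroup G) := (mem_smul_iff S g s).mp hs
    have h1 := (Subgroup.mem_centralizer_iff.mp hcS) _ hs'
    calc s * (g * (c : G) * g⁻¹) = g * ((g⁻¹ * s * g) * (c : G)) * g⁻¹ := by group
      _ = g * ((c : G) * (g⁻¹ * s * g)) * g⁻¹ := by rw [h1]
      _ = g * (c : G) * g⁻¹ * s := by group
  by_cases hSg : g • S = S
  · rw [hSg] at hyg
    have h := B2 S g 1 hyg (hc1 S hcS)
    simpa using h
  · obtain ⟨U, hU⟩ := hCI (g • S) S hSg
    have hyU : g * (c : G) * g⁻¹ ∈ Subgroup.centralizer ((U : Subgroup G) : Set G) := by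
      have hmem : g * (c : G) * g⁻¹ ∈ ((g • S : Sylow 2 G) : Subgroup G) ⊓ (S : Subgroup G) := by
        refine Subgroup.mem_inf.mpr ⟨(mem_smul_iff S g _).mpr ?_, hg⟩
        have e : g⁻¹ * (g * (c : G) * g⁻¹) * g = c := by group
        rw [e]; exact c.2
      obtain ⟨z, hz, hzy⟩ := hU hmem
      rw [Subgroup.mem_centralizer_iff]
      intro s hs
      have h1 := Subgroup.mem_center_iff.mp hz ⟨s, hs⟩
      have h2 := congrArg Subtype.val h1
      rw [← hzy]
      simpa using h2
    have hUK : (U : Subgroup G) ≤ Subgroup.centralizer ({g * (c : G) * g⁻¹} : Set G) := by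
      intro s hs
      rw [Subgroup.mem_centralizer_iff]
      intro h hh
      rw [Set.mem_singleton_iff] at hh
      rw [hh]
      exact ((Subgroup.mem_centralizer_iff.mp hyU) s hs).symm
    have hD : IsPGroup 2 ((S : Subgroup G) ⊓
        Subgroup.centralizer ({g * (c : G) * g⁻¹} : Set G) : Subgroup G) :=
      S.isPGroup'.to_le inf_le_left
    have hD' : IsPGroup 2 (((S : Subgroup G) ⊓
        Subgroup.centralizer ({g * (c : G) * g⁻¹} : Set G)).subgroupOf
        (Subgroup.centralizer ({g * (c : G) * g⁻¹} : Set G))) := hD.comap_subtype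
    obtain ⟨Q, hQ⟩ := hD'.exists_le_sylow
    obtain ⟨k, hk⟩ := MulAction.exists_smul_eq
      (Subgroup.centralizer ({g * (c : G) * g⁻¹} : Set G)) (U.subtype hUK) Q
    have hDT : (S : Subgroup G) ⊓ Subgroup.centralizer ({g * (c : G) * g⁻¹} : Set G)
        ≤ (((k : G) • U : Sylow 2 G) : Subgroup G) := by
      intro x hx
      have h1 : (⟨x, (Subgroup.mem_inf.mp hx).2⟩ :
          Subgroup.centralizer ({g * (c : G) * g⁻¹} : Set G))
          ∈ (Q : Subgroup (Subgroup.centralizer ({g * (c : G) * g⁻¹} : Set G))) :=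
        hQ (by rw [Subgroup.mem_subgroupOf]; exact hx)
      rw [← hk, Sylow.smul_subtype hUK k, Sylow.coe_subtype, Subgroup.mem_subgroupOf] at h1
      exact h1
    have hky : (g * (c : G) * g⁻¹) * (k : G) = (k : G) * (g * (c : G) * g⁻¹) := by
      have h1 := k.2
      rw [Subgroup.mem_centralizer_iff] at h1
      exact h1 _ rfl
    have hky' : (k : G)⁻¹ * (g * (c : G) * g⁻¹) = (g * (c : G) * g⁻¹) * (k : G)⁻¹ := by
      calc (k : G)⁻¹ * (g * (c : G) * g⁻¹)
          = (k : G)⁻¹ * ((g * (c : G) * g⁻¹) * (k : G)) * (k : G)⁻¹ := by group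
        _ = (k : G)⁻¹ * ((k : G) * (g * (c : G) * g⁻¹)) * (k : G)⁻¹ := by rw [hky]
        _ = (g * (c : G) * g⁻¹) * (k : G)⁻¹ := by group
    have hyT : g * (c : G) * g⁻¹ ∈
        Subgroup.centralizer ((((k : G) • U : Sylow 2 G) : Subgroup G) : Set G) := by
      rw [Subgroup.mem_centralizer_iff]
      intro s hs
      have hs' : (k : G)⁻¹ * s * (k : G) ∈ (U : Subgroup G) := (mem_smul_iff U (k : G) s).mp hs
      have h1 := (Subgroup.mem_centralizer_iff.mp hyU) _ hs'
      calc s * (g * (c : G) * g⁻¹)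
          = (k : G) * ((k : G)⁻¹ * s * (k : G)) * ((k : G)⁻¹ * (g * (c : G) * g⁻¹)) := by group
        _ = (k : G) * ((k : G)⁻¹ * s * (k : G)) * ((g * (c : G) * g⁻¹) * (k : G)⁻¹) := by
            rw [hky']
        _ = (k : G) * (((k : G)⁻¹ * s * (k : G)) * (g * (c : G) * g⁻¹)) * (k : G)⁻¹ := by group
        _ = (k : G) * ((g * (c : G) * g⁻¹) * ((k : G)⁻¹ * s * (k : G))) * (k : G)⁻¹ := by
            rw [h1]
        _ = ((k : G) * (g * (c : G) * g⁻¹)) * ((k : G)⁻¹ * s * (k : G)) * (k : G)⁻¹ := by group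
        _ = ((g * (c : G) * g⁻¹) * (k : G)) * ((k : G)⁻¹ * s * (k : G)) * (k : G)⁻¹ := by
            rw [hky]
        _ = (g * (c : G) * g⁻¹) * s := by group
    by_cases hTS : ((k : G) • U : Sylow 2 G) = S
    · rw [hTS] at hyT
      have h := B2 S g 1 hyT (hc1 S hcS)
      simpa using h
    · obtain ⟨W, hW⟩ := hCI ((k : G) • U) S hTS
      have hcy : (g * (c : G) * g⁻¹) * (c : G) = (c : G) * (g * (c : G) * g⁻¹) :=
        (Subgroup.mem_centralizer_iff.mp hcS) _ hg
      have hcD : (c : G) ∈ (S : Subgroup G) ⊓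
          Subgroup.centralizer ({g * (c : G) * g⁻¹} : Set G) := by
        refine Subgroup.mem_inf.mpr ⟨c.2, Subgroup.mem_centralizer_iff.mpr ?_⟩
        intro h hh
        rw [Set.mem_singleton_iff] at hh
        rw [hh]
        exact hcy
      have hyD : g * (c : G) * g⁻¹ ∈ (S : Subgroup G) ⊓
          Subgroup.centralizer ({g * (c : G) * g⁻¹} : Set G) := by
        refine Subgroup.mem_inf.mpr ⟨hg, Subgroup.mem_centralizer_iff.mpr ?_⟩
        intro h hh
        rw [Set.mem_singleton_iff] at hh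
        rw [hh]
      have cen : ∀ x : G, x ∈ (S : Subgroup G) ⊓
          Subgroup.centralizer ({g * (c : G) * g⁻¹} : Set G) →
          x ∈ Subgroup.centralizer ((W : Subgroup G) : Set G) := by
        intro x hx
        have hmem : x ∈ (((k : G) • U : Sylow 2 G) : Subgroup G) ⊓ (S : Subgroup G) :=
          Subgroup.mem_inf.mpr ⟨hDT hx, (Subgroup.mem_inf.mp hx).1⟩
        obtain ⟨z, hz, hzx⟩ := hW hmem
        rw [Subgroup.mem_centralizer_iff]
        intro s hs
        have h1 := Subgroup.mem_center_iff.mp hz ⟨s, hs⟩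
        have h2 := congrArg Subtype.val h1
        rw [← hzx]
        simpa using h2
      have h := B2 W g 1 (cen _ hyD) (hc1 W (cen _ hcD))
      simpa using h

/-- S3184 modulo the Z*-theorem. -/
theorem s3184_of_zstar [Finite G] (hZS : Cfsg.Agent.Lib.Lead.ZStarP.ZStarStatement G)
    (hCI : ∀ S T : Sylow 2 G, S ≠ T → ∃ U : Sylow 2 G,
      (S : Subgroup G) ⊓ (T : Subgroup G)
        ≤ (Subgroup.center ↥(U : Subgroup G)).map (U : Subgroup G).subtype)
    (S : Sylow 2 G) (C : Subgroup ↥(S : Subgroup G)) (hCc : IsCyclic ↥C) (hCh : C.Characteristic)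
    (c : ↥(S : Subgroup G)) (hc : c ∈ C) (hc2 : orderOf c = 2) :
    ∀ g : G, (QuotientGroup.mk (s := Cfsg.oddCore G) (g * (c : G) * g⁻¹)) =
      QuotientGroup.mk (s := Cfsg.oddCore G) (c : G) := by
  intro g
  obtain ⟨N, hNn, hNodd, hN⟩ := hZS S (c : G) (by rw [Subgroup.orderOf_coe, hc2]) c.2
    (weakly_closed hCI S C hCc hCh c hc hc2)
  have hle : N ≤ Cfsg.oddCore G := le_sSup ⟨hNn, (Nat.coprime_two_right).mpr hNodd⟩
  rw [QuotientGroup.eq]
  apply hle
  have h1 := hN g
  have h2 := hNn.conj_mem _ (inv_mem h1) (c : G)⁻¹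
  have e : (g * (c : G) * g⁻¹)⁻¹ * (c : G)
      = ((c : G)⁻¹ * ((c : G) * g * (c : G)⁻¹ * g⁻¹)⁻¹ * (c : G)⁻¹⁻¹)⁻¹ := by group
  rw [e]
  exact inv_mem h2

end Cfsg.Agent.Lib.Lead.CharCyclicWC
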