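import Mathlib

/-!
Groups with an elementary abelian Sylow 2-subgroup `S` of order 8 on whose nonidentity elements
`N_G(S)` acts without fixed points (Janko–Ree type).

* `cyc7_trivial`: a combinatorial lemma about functions on `ℤ/7`.
* `exists_transitive_elt`: if no nonidentity element of the abelian Sylow 2-subgroup `S` of
  order 8 is fixed by `N_G(S)`, then some `g ∈ N_G(S)` permutes `S \ {1}` transitively
  (and `g ^ 7` centralizes `S`).
* `ker_eq_bot_of_E8`: a perfect central extension, by a 2-group, of a group whose Sylow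
  2-subgroup is elementary abelian of order 8 with such a `g`, is trivial.
-/

set_option autoImplicit false
open scoped commutatorElement

namespace Cfsg.Agent.Lib.Lead.E8Cover

open Subgroup

universe u v

/-- A function on `ℤ/7` with values in a commutative group of involutions which is even and
satisfies `f i * f (i+1) = f (i+k)` is trivial. -/
theorem cyc7_trivial {M : Type*} [CommGroup M] (f : ℤ → M) (h0 : f 0 = 1)
    (hneg : ∀ i, f (-i) = f i) (hper : ∀ i, f (i + 7) = f i) (hsq : ∀ i, f i * f i = 1)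
    (k : ℤ) (hk : ∀ i, f i * f (i + 1) = f (i + k)) : ∀ i, f i = 1 := by
  have hperq : ∀ (q : ℤ) (i : ℤ), f (i + 7 * q) = f i := by
    intro q
    refine Int.induction_on q ?_ ?_ ?_
    · intro i; rw [mul_zero, add_zero]
    · intro n ih i
      rw [show i + 7 * ((n : ℤ) + 1) = (i + 7 * n) + 7 by ring, hper, ih]
    · intro n ih i
      have h := hper (i + 7 * (-(n : ℤ) - 1))
      rw [show i + 7 * (-(n : ℤ) - 1) + 7 = i + 7 * (-(n : ℤ)) by ring] at h
      rw [← h, ih]
  have h4 : f 4 = f 3 := by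
    have h := hper (-3)
    rw [show (-3 : ℤ) + 7 = 4 by norm_num] at h
    rw [h, hneg]
  have h5 : f 5 = f 2 := by
    have h := hper (-2)
    rw [show (-2 : ℤ) + 7 = 5 by norm_num] at h
    rw [h, hneg]
  have h6 : f 6 = f 1 := by
    have h := hper (-1)
    rw [show (-1 : ℤ) + 7 = 6 by norm_num] at h
    rw [h, hneg]
  have h7 : f 7 = 1 := by
    have h := hper 0
    rw [show (0 : ℤ) + 7 = 7 by norm_num] at h
    rw [h, h0]
  have h8 : f 8 = f 1 := by
    have h := hper 1
    rw [show (1 : ℤ) + 7 = 8 by norm_num] at h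
    exact h
  have h9 : f 9 = f 2 := by
    have h := hper 2
    rw [show (2 : ℤ) + 7 = 9 by norm_num] at h
    exact h
  obtain ⟨q, r, hr0, hr7, rfl⟩ : ∃ q r : ℤ, 0 ≤ r ∧ r < 7 ∧ k = r + 7 * q :=
    ⟨k / 7, k % 7, Int.emod_nonneg _ (by norm_num), Int.emod_lt_of_pos _ (by norm_num),
      (Int.emod_add_mul_ediv k 7).symm⟩
  have hk' : ∀ i, f i * f (i + 1) = f (i + r) := by
    intro i
    rw [hk i, ← add_assoc, hperq]
  have e0 := hk' 0
  have e1 := hk' 1
  have e2 := hk' 2
  have e3 := hk' 3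
  have key : f 1 = 1 ∧ f 2 = 1 ∧ f 3 = 1 := by
    interval_cases r
    · -- r = 0
      simp only [Int.reduceAdd, zero_add, add_zero] at e0 e1 e2 e3
      rw [h0, one_mul] at e0
      have ha : f 1 = 1 := e0
      have hb : f 2 = 1 := by
        have : f 1 * f 2 = f 1 * 1 := by rw [mul_one]; exact e1
        exact mul_left_cancel this
      have hc : f 3 = 1 := by
        have : f 2 * f 3 = f 2 * 1 := by rw [mul_one]; exact e2
        exact mul_left_cancel this
      exact ⟨ha, hb, hc⟩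
    · -- r = 1
      simp only [Int.reduceAdd, zero_add] at e0 e1 e2 e3
      have ha : f 1 = 1 := by
        have : f 1 * f 2 = 1 * f 2 := by rw [one_mul]; exact e1
        exact mul_right_cancel this
      have hb : f 2 = 1 := by
        have : f 2 * f 3 = 1 * f 3 := by rw [one_mul]; exact e2
        exact mul_right_cancel this
      have hc : f 3 = 1 := by
        rw [h4] at e3
        have : f 3 * f 3 = f 3 * 1 := by rw [mul_one]; exact e3
        exact mul_left_cancel this
      exact ⟨ha, hb, hc⟩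
    · -- r = 2
      simp only [Int.reduceAdd, zero_add] at e0 e1 e2 e3
      rw [h0, one_mul] at e0
      rw [h4] at e2
      have hb : f 2 = 1 := by
        have : f 2 * f 3 = 1 * f 3 := by rw [one_mul]; exact e2
        exact mul_right_cancel this
      have ha : f 1 = 1 := by rw [e0, hb]
      have hc : f 3 = 1 := by rw [← e1, ha, hb, mul_one]
      exact ⟨ha, hb, hc⟩
    · -- r = 3
      simp only [Int.reduceAdd, zero_add] at e0 e1 e2 e3
      rw [h0, one_mul] at e0
      rw [h4] at e1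
      rw [h5] at e2
      have hb : f 2 = 1 := by
        have : f 1 * f 2 = f 1 * 1 := by rw [mul_one, e1, e0]
        exact mul_left_cancel this
      have hc : f 3 = 1 := by
        have : f 2 * f 3 = f 2 * 1 := by rw [mul_one]; exact e2
        exact mul_left_cancel this
      have ha : f 1 = 1 := by rw [e0, hc]
      exact ⟨ha, hb, hc⟩
    · -- r = 4
      simp only [Int.reduceAdd, zero_add] at e0 e1 e2 e3
      rw [h0, one_mul, h4] at e0
      rw [h5] at e1
      rw [h6] at e2
      have ha : f 1 = 1 := by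
        have : f 1 * f 2 = 1 * f 2 := by rw [one_mul]; exact e1
        exact mul_right_cancel this
      have hc : f 3 = 1 := by rw [← e0, ha]
      have hb : f 2 = 1 := by
        rw [hc, mul_one, ha] at e2
        exact e2
      exact ⟨ha, hb, hc⟩
    · -- r = 5
      simp only [Int.reduceAdd, zero_add] at e0 e1 e2 e3
      rw [h0, one_mul, h5] at e0
      rw [h6] at e1
      rw [h7] at e2
      have hb : f 2 = 1 := by
        have : f 1 * f 2 = f 1 * 1 := by rw [mul_one]; exact e1
        exact mul_left_cancel this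
      have ha : f 1 = 1 := by rw [e0, hb]
      have hc : f 3 = 1 := by
        rw [hb, one_mul] at e2
        exact e2
      exact ⟨ha, hb, hc⟩
    · -- r = 6
      simp only [Int.reduceAdd, zero_add] at e0 e1 e2 e3
      rw [h7] at e1
      rw [h8] at e2
      rw [h4, h9] at e3
      have hb : f 2 = 1 := by rw [← e3]; exact hsq 3
      have ha : f 1 = 1 := by
        rw [hb, mul_one] at e1
        exact e1
      have hc : f 3 = 1 := by
        rw [hb, one_mul, ha] at e2
        exact e2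
      exact ⟨ha, hb, hc⟩
  obtain ⟨ha, hb, hc⟩ := key
  intro i
  have hi : f i = f (i % 7) := by
    conv_lhs => rw [← Int.emod_add_mul_ediv i 7]
    exact hperq _ _
  have h1 : 0 ≤ i % 7 := Int.emod_nonneg _ (by norm_num)
  have h2 : i % 7 < 7 := Int.emod_lt_of_pos _ (by norm_num)
  rw [hi]
  generalize i % 7 = s at h1 h2
  interval_cases s
  · exact h0
  · exact ha
  · exact hb
  · exact hc
  · rw [h4]; exact hc
  · rw [h5]; exact hb
  · rw [h6]; exact ha

section action

variable {G : Type u} [Group G]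

/-- The set of nonidentity elements of a subgroup. -/
def nonId (S : Subgroup G) : Set G := (S : Set G) \ {1}

theorem mem_nonId {S : Subgroup G} {x : G} : x ∈ nonId S ↔ x ∈ S ∧ x ≠ 1 := by
  simp [nonId]

/-- The normalizer of `S` acts on the nonidentity elements of `S` by conjugation. -/
instance conjActNonId (S : Subgroup G) : MulAction (normalizer (S : Set G)) (nonId S) where
  smul n u := ⟨(n : G) * (u : G) * (n : G)⁻¹, by
    rw [mem_nonId]
    obtain ⟨hu1, hu2⟩ := mem_nonId.mp u.2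
    refine ⟨(mem_normalizer_iff.mp n.2 (u : G)).mp hu1, fun h => hu2 ?_⟩
    exact conj_eq_one_iff.mp h⟩
  one_smul u := Subtype.ext (by
    show ((1 : normalizer (S : Set G)) : G) * (u : G) * ((1 : normalizer (S : Set G)) : G)⁻¹ = u
    simp)
  mul_smul m n u := Subtype.ext (by
    show ((m * n : normalizer (S : Set G)) : G) * (u : G) * ((m * n : normalizer (S : Set G)) : G)⁻¹
      = (m : G) * ((n : G) * (u : G) * (n : G)⁻¹) * (m : G)⁻¹
    rw [Subgroup.coe_mul, mul_inv_rev]
    group)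

theorem coe_smul_nonId (S : Subgroup G) (n : normalizer (S : Set G)) (u : nonId S) :
    ((n • u : nonId S) : G) = (n : G) * (u : G) * (n : G)⁻¹ := rfl

end action

/-- If no nonidentity element of the abelian Sylow 2-subgroup `S` of order 8 is fixed by
`N_G(S)`, then some `g ∈ N_G(S)` permutes `S \ {1}` transitively, with `g ^ 7` centralizing `S`. -/
theorem exists_transitive_elt {G : Type u} [Group G] [Finite G] (S : Sylow 2 G)
    (hcard : Nat.card (S : Subgroup G) = 8)
    (hcomm : ∀ a ∈ (S : Subgroup G), ∀ b ∈ (S : Subgroup G), a * b = b * a)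
    (hfix : ∀ u ∈ (S : Subgroup G), u ≠ 1 →
      ∃ n ∈ normalizer ((S : Subgroup G) : Set G), n * u * n⁻¹ ≠ u) :
    ∃ g ∈ normalizer ((S : Subgroup G) : Set G),
      (∀ x ∈ (S : Subgroup G), g ^ 7 * x * (g ^ 7)⁻¹ = x) ∧
      ∀ x ∈ (S : Subgroup G), x ≠ 1 → ∀ y ∈ (S : Subgroup G), y ≠ 1 →
        ∃ i : ℕ, g ^ i * x * (g ^ i)⁻¹ = y := by
  classical
  let N : Subgroup G := normalizer ((S : Subgroup G) : Set G)
  let X : Set G := nonId (S : Subgroup G)
  haveI : Fact (Nat.Prime 7) := ⟨by norm_num⟩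
  -- the number of nonidentity elements
  have hXcard : Nat.card X = 7 := by
    rw [Nat.card_coe_set_eq]
    show (((S : Subgroup G) : Set G) \ {1}).ncard = 7
    rw [Set.ncard_diff_singleton_of_mem (one_mem _), ← Nat.card_coe_set_eq]
    show Nat.card (S : Subgroup G) - 1 = 7
    rw [hcard]
  -- the index of `S` is odd
  have hSodd : Odd (S : Subgroup G).index := by
    rw [← Nat.not_even_iff_odd, even_iff_two_dvd]
    exact S.not_dvd_index
  -- orbits have odd size different from one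
  have horb_odd : ∀ u : X, Odd (MulAction.orbit N u).ncard := by
    intro u
    rw [← MulAction.index_stabilizer]
    have hle : (S : Subgroup G).subgroupOf N ≤ MulAction.stabilizer N u := by
      intro s hs
      rw [MulAction.mem_stabilizer_iff]
      apply Subtype.ext
      rw [coe_smul_nonId]
      have h1 : (s : G) * (u : G) = (u : G) * (s : G) :=
        hcomm _ (mem_subgroupOf.mp hs) _ (mem_nonId.mp u.2).1
      rw [h1, mul_inv_cancel_right]
    have h1 : (MulAction.stabilizer N u).index ∣ ((S : Subgroup G).subgroupOf N).index :=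
      index_dvd_of_le hle
    have h2 : ((S : Subgroup G).subgroupOf N).index ∣ (S : Subgroup G).index :=
      relIndex_dvd_index_of_le le_normalizer
    exact Odd.of_dvd_nat hSodd (h1.trans h2)
  have horb_ne : ∀ u : X, (MulAction.orbit N u).ncard ≠ 1 := by
    intro u h1
    obtain ⟨a, ha⟩ := Set.ncard_eq_one.mp h1
    obtain ⟨n, hn, hnu⟩ := hfix (u : G) (mem_nonId.mp u.2).1 (mem_nonId.mp u.2).2
    have hu : u ∈ MulAction.orbit N u := MulAction.mem_orbit_self u
    have hnu' : (⟨n, hn⟩ : N) • u ∈ MulAction.orbit N u := MulAction.mem_orbit u _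
    rw [ha, Set.mem_singleton_iff] at hu hnu'
    apply hnu
    have := congrArg Subtype.val (hnu'.trans hu.symm)
    exact this
  have horb3 : ∀ u : X, 3 ≤ (MulAction.orbit N u).ncard := by
    intro u
    have h1 := horb_odd u
    have h2 := horb_ne u
    obtain ⟨m, hm⟩ := h1
    omega
  -- there is a single orbit
  haveI : Finite X := Nat.finite_of_card_ne_zero (by rw [hXcard]; norm_num)
  haveI : Fintype (MulAction.orbitRel.Quotient N X) := Fintype.ofFinite _
  have hsum : ∑ ω : MulAction.orbitRel.Quotient N X, (MulAction.orbit N ω.out).ncard = 7 := by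
    rw [← hXcard, Nat.card_congr (MulAction.selfEquivSigmaOrbits N X), Nat.card_sigma]
    exact Finset.sum_congr rfl (fun ω _ => (Nat.card_coe_set_eq _).symm)
  have hΩle : Fintype.card (MulAction.orbitRel.Quotient N X) ≤ 2 := by
    have h1 : (Finset.univ : Finset (MulAction.orbitRel.Quotient N X)).card • 3 ≤
        ∑ ω : MulAction.orbitRel.Quotient N X, (MulAction.orbit N ω.out).ncard :=
      Finset.card_nsmul_le_sum _ _ _ (fun ω _ => horb3 ω.out)
    rw [hsum, Finset.card_univ, smul_eq_mul] at h1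
    omega
  have hΩodd : Odd (Fintype.card (MulAction.orbitRel.Quotient N X)) := by
    have h1 : Odd (∑ ω : MulAction.orbitRel.Quotient N X, (MulAction.orbit N ω.out).ncard) := by
      rw [hsum]; decide
    rw [Finset.odd_sum_iff_odd_card_odd] at h1
    have h2 : (Finset.univ.filter fun ω : MulAction.orbitRel.Quotient N X =>
        Odd (MulAction.orbit N ω.out).ncard) = Finset.univ := by
      apply Finset.filter_true_of_mem
      intro ω _
      exact horb_odd ω.out
    rw [h2, Finset.card_univ] at h1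
    exact h1
  have hΩ1 : Fintype.card (MulAction.orbitRel.Quotient N X) ≤ 1 := by
    obtain ⟨m, hm⟩ := hΩodd
    omega
  have htrans : ∀ x y : X, x ∈ MulAction.orbit N y := by
    intro x y
    haveI := Fintype.card_le_one_iff_subsingleton.mp hΩ1
    have h1 : (Quotient.mk'' x : MulAction.orbitRel.Quotient N X) = Quotient.mk'' y :=
      Subsingleton.elim _ _
    exact MulAction.orbitRel_apply.mp (Quotient.exact' h1)
  -- a base point
  have hne : Nonempty X := (Nat.card_pos_iff.mp (by rw [hXcard]; norm_num)).1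
  obtain ⟨u₀⟩ := hne
  have horb_univ : MulAction.orbit N u₀ = Set.univ := by
    ext x
    simp only [Set.mem_univ, iff_true]
    exact htrans x u₀
  have hstab7 : (MulAction.stabilizer N u₀).index = 7 := by
    rw [MulAction.index_stabilizer, horb_univ, Set.ncard_univ, hXcard]
  -- an element of 7-power order moving `u₀`
  obtain ⟨P7⟩ := (inferInstance : Nonempty (Sylow 7 N))
  have hex : ∃ g : N, g ∈ (P7 : Subgroup N) ∧ g • u₀ ≠ u₀ := by
    by_contra hcon
    push_neg at hcon
    have hle : (P7 : Subgroup N) ≤ MulAction.stabilizer N u₀ := by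
      intro g hg
      rw [MulAction.mem_stabilizer_iff]
      exact hcon g hg
    have h1 : (MulAction.stabilizer N u₀).index ∣ (P7 : Subgroup N).index := index_dvd_of_le hle
    rw [hstab7] at h1
    exact P7.not_dvd_index h1
  obtain ⟨g, hgP, hgu⟩ := hex
  obtain ⟨k, hk⟩ := P7.isPGroup' ⟨g, hgP⟩
  have hgk : g ^ 7 ^ k = 1 := by
    have := congrArg Subtype.val hk
    simpa using this
  -- the orbit of `u₀` under `⟨g⟩`
  let H : Subgroup N := zpowers g
  have hHcard : Nat.card H ∣ 7 ^ k := by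
    rw [Nat.card_zpowers]
    exact orderOf_dvd_of_pow_eq_one hgk
  have horbH : (MulAction.orbit H u₀).ncard = 7 := by
    have h1 : (MulAction.orbit H u₀).ncard ∣ 7 ^ k := by
      rw [← MulAction.index_stabilizer]
      exact (index_dvd_card _).trans hHcard
    obtain ⟨j, hjk, hj⟩ := (Nat.dvd_prime_pow (by norm_num : Nat.Prime 7)).mp h1
    have hle : (MulAction.orbit H u₀).ncard ≤ 7 := by
      have := Set.ncard_le_card (MulAction.orbit H u₀)
      rw [hXcard] at this
      exact this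
    have hne : (MulAction.orbit H u₀).ncard ≠ 1 := by
      intro h1'
      obtain ⟨a, ha⟩ := Set.ncard_eq_one.mp h1'
      have hu : u₀ ∈ MulAction.orbit H u₀ := MulAction.mem_orbit_self u₀
      have hgu' : (⟨g, mem_zpowers g⟩ : H) • u₀ ∈ MulAction.orbit H u₀ := MulAction.mem_orbit u₀ _
      rw [ha, Set.mem_singleton_iff] at hu hgu'
      exact hgu (hgu'.trans hu.symm)
    rcases j with _ | j
    · rw [pow_zero] at hj; exact absurd hj hne
    · rw [hj] at hle ⊢
      have h7 : 7 ≤ 7 ^ (j + 1) := by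
        calc 7 = 7 ^ 1 := by norm_num
          _ ≤ 7 ^ (j + 1) := Nat.pow_le_pow_right (by norm_num) (by omega)
      omega
  have horbH_univ : MulAction.orbit H u₀ = Set.univ := by
    rw [Set.eq_univ_iff_ncard, horbH, hXcard]
  -- every point is `g ^ i • u₀`
  have hpt : ∀ x : X, ∃ i : ℤ, g ^ i • u₀ = x := by
    intro x
    have hx : x ∈ MulAction.orbit H u₀ := by rw [horbH_univ]; exact Set.mem_univ x
    obtain ⟨⟨h, hh⟩, rfl⟩ := hx
    obtain ⟨i, rfl⟩ := mem_zpowers_iff.mp hh
    exact ⟨i, rfl⟩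
  -- `g ^ 7` fixes `u₀`
  have hg7 : g ^ 7 • u₀ = u₀ := by
    haveI : (MulAction.stabilizer H u₀).Normal := normal_of_comm _
    have h1 := pow_index_mem (MulAction.stabilizer H u₀) (⟨g, mem_zpowers g⟩ : H)
    rw [MulAction.index_stabilizer, horbH, MulAction.mem_stabilizer_iff] at h1
    exact h1
  have hg7all : ∀ x : X, g ^ 7 • x = x := by
    intro x
    obtain ⟨i, rfl⟩ := hpt x
    rw [smul_smul, ← zpow_natCast, ← zpow_add, add_comm, zpow_add, zpow_natCast, ← smul_smul, hg7]
  refine ⟨(g : G), g.2, ?_, ?_⟩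
  · intro x hx
    by_cases hx1 : x = 1
    · rw [hx1, mul_one, mul_inv_cancel]
    · have h1 := hg7all ⟨x, mem_nonId.mpr ⟨hx, hx1⟩⟩
      have h2 := congrArg Subtype.val h1
      rw [coe_smul_nonId] at h2
      simpa using h2
  · intro x hx hx1 y hy hy1
    obtain ⟨a, ha⟩ := hpt ⟨x, mem_nonId.mpr ⟨hx, hx1⟩⟩
    obtain ⟨b, hb⟩ := hpt ⟨y, mem_nonId.mpr ⟨hy, hy1⟩⟩
    have h1 : g ^ (b - a) • (⟨x, mem_nonId.mpr ⟨hx, hx1⟩⟩ : X) = ⟨y, mem_nonId.mpr ⟨hy, hy1⟩⟩ := by
      rw [← ha, smul_smul, ← zpow_add, sub_add_cancel, hb]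
    have h2 : g ^ (b - a) ∈ Submonoid.powers g :=
      (isOfFinOrder_of_finite g).mem_powers_iff_mem_zpowers.mpr (zpow_mem (mem_zpowers g) _)
    obtain ⟨i, hi⟩ := h2
    refine ⟨i, ?_⟩
    rw [← hi] at h1
    have h3 := congrArg Subtype.val h1
    rw [coe_smul_nonId] at h3
    simpa using h3

open scoped IsMulCommutative in
/-- A perfect central extension `φ : L → G` with kernel a 2-group is an isomorphism when the Sylow
2-subgroup `S` of `G` is elementary abelian of order 8 and some `g ∈ N_G(S)` permutes `S \ {1}`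
transitively (with `g ^ 7` centralizing `S`). -/
theorem ker_eq_bot_of_E8 {L : Type u} {G : Type v} [Group L] [Finite L] [Group G] [Finite G]
    (φ : L →* G) (hφ : Function.Surjective φ) (hperf : commutator L = ⊤)
    (hc : φ.ker ≤ center L) (h2 : IsPGroup 2 φ.ker)
    (S : Sylow 2 G) (hS8 : Nat.card (S : Subgroup G) = 8)
    (hSexp : ∀ x ∈ (S : Subgroup G), x * x = 1)
    (g : G) (hg : g ∈ normalizer ((S : Subgroup G) : Set G))
    (hg7 : ∀ x ∈ (S : Subgroup G), g ^ 7 * x * (g ^ 7)⁻¹ = x)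
    (htr : ∀ x ∈ (S : Subgroup G), x ≠ 1 → ∀ y ∈ (S : Subgroup G), y ≠ 1 →
      ∃ i : ℕ, g ^ i * x * (g ^ i)⁻¹ = y) :
    φ.ker = ⊥ := by
  classical
  -- `S` is commutative
  have hScomm : ∀ a ∈ (S : Subgroup G), ∀ b ∈ (S : Subgroup G), a * b = b * a := by
    intro a ha b hb
    have ha' : a⁻¹ = a := inv_eq_of_mul_eq_one_left (hSexp a ha)
    have hb' : b⁻¹ = b := inv_eq_of_mul_eq_one_left (hSexp b hb)
    have hab : (a * b)⁻¹ = a * b := inv_eq_of_mul_eq_one_left (hSexp (a * b) (mul_mem ha hb))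
    rw [mul_inv_rev, ha', hb'] at hab
    exact hab.symm
  have hker_c : ∀ z : L, φ z = 1 → ∀ w : L, w * z = z * w := fun z hz w =>
    (mem_center_iff.mp (hc (MonoidHom.mem_ker.mpr hz))) w
  have hcongl : ∀ x z y : L, (∀ w, w * z = z * w) → ⁅x * z, y⁆ = ⁅x, y⁆ := by
    intro x z y hz
    have h1 : z * y * z⁻¹ = y := by rw [← hz y, mul_inv_cancel_right]
    calc ⁅x * z, y⁆ = x * (z * y * z⁻¹) * x⁻¹ * y⁻¹ := by
          simp only [commutatorElement_def]; group
      _ = ⁅x, y⁆ := by rw [h1, commutatorElement_def]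
  have hcongr : ∀ x y z : L, (∀ w, w * z = z * w) → ⁅x, y * z⁆ = ⁅x, y⁆ := by
    intro x y z hz
    have h1 : z * x⁻¹ * z⁻¹ = x⁻¹ := by rw [← hz x⁻¹, mul_inv_cancel_right]
    calc ⁅x, y * z⁆ = x * y * (z * x⁻¹ * z⁻¹) * y⁻¹ := by
          simp only [commutatorElement_def]; group
      _ = ⁅x, y⁆ := by rw [h1, commutatorElement_def]
  have hcong : ∀ x x' y y' : L, φ x = φ x' → φ y = φ y' → ⁅x', y'⁆ = ⁅x, y⁆ := by
    intro x x' y y' hx hy
    have hz1 : φ (x⁻¹ * x') = 1 := by rw [map_mul, map_inv, hx, inv_mul_cancel]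
    have hz2 : φ (y⁻¹ * y') = 1 := by rw [map_mul, map_inv, hy, inv_mul_cancel]
    have e1 : ⁅x', y'⁆ = ⁅x * (x⁻¹ * x'), y * (y⁻¹ * y')⁆ := by
      rw [mul_inv_cancel_left, mul_inv_cancel_left]
    rw [e1, hcongl _ _ _ (hker_c _ hz1), hcongr _ _ _ (hker_c _ hz2)]
  have hmulr : ∀ x y y' : L, (∀ w, w * ⁅x, y'⁆ = ⁅x, y'⁆ * w) →
      ⁅x, y * y'⁆ = ⁅x, y⁆ * ⁅x, y'⁆ := by
    intro x y y' hz
    have h1 : y * ⁅x, y'⁆ * y⁻¹ = ⁅x, y'⁆ := by rw [hz y, mul_inv_cancel_right]
    calc ⁅x, y * y'⁆ = ⁅x, y⁆ * (y * ⁅x, y'⁆ * y⁻¹) := by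
          simp only [commutatorElement_def]; group
      _ = ⁅x, y⁆ * ⁅x, y'⁆ := by rw [h1]
  -- lifts
  obtain ⟨n, hn⟩ := hφ g
  have hSne : (S : Subgroup G) ≠ ⊥ := by
    intro h
    have : Nat.card (S : Subgroup G) = 1 := card_eq_one.mpr h
    omega
  obtain ⟨⟨v, hvS⟩, hv1'⟩ := (ne_bot_iff_exists_ne_one).mp hSne
  have hv1 : v ≠ 1 := fun h => hv1' (Subtype.ext h)
  obtain ⟨vt, hvt⟩ := hφ v
  let u : ℤ → G := fun i => g ^ i * v * (g ^ i)⁻¹
  let w : ℤ → L := fun i => n ^ i * vt * (n ^ i)⁻¹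
  have hφw : ∀ i, φ (w i) = u i := by
    intro i
    simp only [w, u, map_mul, map_inv, map_zpow, hn, hvt]
  have hu_mem : ∀ i, u i ∈ (S : Subgroup G) := fun i =>
    (mem_normalizer_iff.mp (zpow_mem hg i) v).mp hvS
  have hu_ne : ∀ i, u i ≠ 1 := fun i h => hv1 (conj_eq_one_iff.mp h)
  have hu_shift : ∀ i j : ℤ, u (i + j) = g ^ j * u i * (g ^ j)⁻¹ := by
    intro i j
    simp only [u]
    rw [add_comm, zpow_add, mul_inv_rev]
    group
  have hw_shift : ∀ i j : ℤ, w (i + j) = n ^ j * w i * (n ^ j)⁻¹ := by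
    intro i j
    simp only [w]
    rw [add_comm, zpow_add, mul_inv_rev]
    group
  have hu_per : ∀ i, u (i + 7) = u i := by
    intro i
    rw [hu_shift i 7, show (7 : ℤ) = ((7 : ℕ) : ℤ) by norm_num, zpow_natCast]
    exact hg7 _ (hu_mem i)
  have hu_all : ∀ x ∈ (S : Subgroup G), x ≠ 1 → ∃ i : ℤ, u i = x := by
    intro x hx hx1
    obtain ⟨i, hi⟩ := htr v hvS hv1 x hx hx1
    refine ⟨(i : ℤ), ?_⟩
    simp only [u, zpow_natCast]
    exact hi
  have hcentral : ∀ i j, ∀ t : L, t * ⁅w i, w j⁆ = ⁅w i, w j⁆ * t := by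
    intro i j
    apply hker_c
    rw [map_commutatorElement, hφw, hφw]
    exact commutatorElement_eq_one_iff_commute.mpr (hScomm _ (hu_mem i) _ (hu_mem j))
  have hshiftc : ∀ i j m : ℤ, ⁅w (i + m), w (j + m)⁆ = ⁅w i, w j⁆ := by
    intro i j m
    rw [hw_shift i m, hw_shift j m]
    have h1 : ⁅n ^ m * w i * (n ^ m)⁻¹, n ^ m * w j * (n ^ m)⁻¹⁆ =
        n ^ m * ⁅w i, w j⁆ * (n ^ m)⁻¹ := by
      simp only [commutatorElement_def]; group
    rw [h1, hcentral i j (n ^ m), mul_inv_cancel_right]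
  -- the function on `ℤ/7`
  let f : ℤ → center L := fun i => ⟨⁅w 0, w i⁆, mem_center_iff.mpr (hcentral 0 i)⟩
  have hf0 : f 0 = 1 := Subtype.ext (commutatorElement_self _)
  have hfsq : ∀ i, f i * f i = 1 := by
    intro i
    apply Subtype.ext
    show ⁅w 0, w i⁆ * ⁅w 0, w i⁆ = 1
    rw [← hmulr _ _ _ (hcentral 0 i)]
    have h1 : φ (w i * w i) = φ 1 := by
      rw [map_mul, hφw, map_one]
      exact hSexp _ (hu_mem i)
    rw [hcong (w 0) (w 0) 1 (w i * w i) rfl h1.symm]
    exact commutatorElement_one_right _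
  have hfinv : ∀ i, ⁅w 0, w i⁆⁻¹ = ⁅w 0, w i⁆ := by
    intro i
    have h1 := congrArg Subtype.val (hfsq i)
    exact inv_eq_of_mul_eq_one_left h1
  have hfneg : ∀ i, f (-i) = f i := by
    intro i
    apply Subtype.ext
    show ⁅w 0, w (-i)⁆ = ⁅w 0, w i⁆
    have h1 := hshiftc 0 (-i) i
    rw [zero_add, neg_add_cancel] at h1
    rw [← h1, ← commutatorElement_inv, hfinv]
  have hfper : ∀ i, f (i + 7) = f i := by
    intro i
    apply Subtype.ext
    show ⁅w 0, w (i + 7)⁆ = ⁅w 0, w i⁆
    apply hcong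
    · rfl
    · rw [hφw, hφw, hu_per]
  -- the relation `u 0 * u 1 = u k`
  have hu01 : u 1 ≠ u 0 := by
    intro h
    have hfixv : g * v * g⁻¹ = v := by
      have h0 : u 0 = v := by simp [u]
      have h1 : u 1 = g * v * g⁻¹ := by simp [u]
      rw [← h1, h, h0]
    have hall : ∀ i : ℕ, g ^ i * v * (g ^ i)⁻¹ = v := by
      intro i
      induction i with
      | zero => simp
      | succ m ih =>
        rw [pow_succ, mul_inv_rev]
        calc g ^ m * g * v * (g⁻¹ * (g ^ m)⁻¹) = g ^ m * (g * v * g⁻¹) * (g ^ m)⁻¹ := by group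
          _ = v := by rw [hfixv, ih]
    have hsub : ((S : Subgroup G) : Set G) ⊆ {1, v} := by
      intro x hx
      by_cases hx1 : x = 1
      · exact Or.inl hx1
      · obtain ⟨i, hi⟩ := htr v hvS hv1 x hx hx1
        rw [hall i] at hi
        exact Or.inr hi.symm
    have h8 : Nat.card (S : Subgroup G) ≤ 2 := by
      have h1 : ((S : Subgroup G) : Set G).ncard ≤ ({1, v} : Set G).ncard :=
        Set.ncard_le_ncard hsub (Set.toFinite _)
      have h2 : ({1, v} : Set G).ncard ≤ 2 := by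
        have h := Set.ncard_insert_le (1 : G) ({v} : Set G)
        rw [Set.ncard_singleton] at h
        exact h
      have h3 : Nat.card (S : Subgroup G) = ((S : Subgroup G) : Set G).ncard :=
        Nat.card_coe_set_eq _
      omega
    omega
  have hu01' : u 0 * u 1 ≠ 1 := by
    intro h
    apply hu01
    have h1 : (u 0)⁻¹ = u 0 := inv_eq_of_mul_eq_one_left (hSexp _ (hu_mem 0))
    rw [← h1]
    exact (inv_eq_of_mul_eq_one_right h).symm
  obtain ⟨k, hk⟩ := hu_all (u 0 * u 1) (mul_mem (hu_mem 0) (hu_mem 1)) hu01'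
  have hrel : ∀ i : ℤ, u i * u (i + 1) = u (i + k) := by
    intro i
    have h0 := hu_shift 0 i
    have h1 := hu_shift 1 i
    have hk' := hu_shift k i
    rw [zero_add] at h0
    rw [add_comm i 1, add_comm i k, h0, h1, hk', hk]
    group
  have hfk : ∀ i, f i * f (i + 1) = f (i + k) := by
    intro i
    apply Subtype.ext
    show ⁅w 0, w i⁆ * ⁅w 0, w (i + 1)⁆ = ⁅w 0, w (i + k)⁆
    rw [← hmulr _ _ _ (hcentral 0 (i + 1))]
    symm
    apply hcong
    · rfl
    · rw [map_mul, hφw, hφw, hφw, hrel]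
  have hftriv := cyc7_trivial f hf0 hfneg hfper hfsq k hfk
  have hw_comm : ∀ i j, ⁅w i, w j⁆ = 1 := by
    intro i j
    have h1 := hshiftc 0 (j - i) i
    rw [zero_add, sub_add_cancel] at h1
    rw [h1]
    exact congrArg Subtype.val (hftriv (j - i))
  -- the preimage of `S` is commutative
  let T₀ : Subgroup L := (S : Subgroup G).comap φ
  have hT₀comm : ∀ x ∈ T₀, ∀ y ∈ T₀, x * y = y * x := by
    intro x hx y hy
    by_cases hx1 : φ x = 1
    · exact hker_c x hx1 y |>.symm
    by_cases hy1 : φ y = 1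
    · exact hker_c y hy1 x
    obtain ⟨i, hi⟩ := hu_all (φ x) hx hx1
    obtain ⟨j, hj⟩ := hu_all (φ y) hy hy1
    have h1 : ⁅x, y⁆ = ⁅w i, w j⁆ := by
      apply hcong
      · rw [hφw, hi]
      · rw [hφw, hj]
    rw [hw_comm] at h1
    exact commutatorElement_eq_one_iff_commute.mp h1
  haveI : IsMulCommutative T₀ := ⟨⟨fun a b => Subtype.ext (hT₀comm a a.2 b b.2)⟩⟩
  -- transfer into `T₀`
  have hindex : T₀.index = (S : Subgroup G).index := index_comap_of_surjective _ hφ
  have hodd : Odd T₀.index := by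
    rw [hindex, ← Nat.not_even_iff_odd, even_iff_two_dvd]
    exact S.not_dvd_index
  rw [eq_bot_iff]
  intro z hz
  rw [mem_bot]
  have hzφ : φ z = 1 := MonoidHom.mem_ker.mp hz
  have hzc : ∀ t : L, t * z = z * t := hker_c z hzφ
  have key : ∀ (m : ℕ) (g₀ : L), g₀⁻¹ * z ^ m * g₀ ∈ T₀ → g₀⁻¹ * z ^ m * g₀ = z ^ m := by
    intro m g₀ _
    have h1 : z ^ m * g₀ = g₀ * z ^ m := ((Commute.pow_right (hzc g₀) m).eq).symm
    rw [mul_assoc, h1, inv_mul_cancel_left]
  have h1 := MonoidHom.transfer_eq_pow (MonoidHom.id T₀) z key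
  have h2' : MonoidHom.transfer (MonoidHom.id T₀) z = 1 := by
    have h3 : z ∈ (MonoidHom.transfer (MonoidHom.id T₀)).ker := by
      apply Abelianization.commutator_subset_ker
      rw [hperf]
      exact mem_top z
    exact MonoidHom.mem_ker.mp h3
  rw [h2'] at h1
  have h4 : z ^ T₀.index = 1 := by
    have := congrArg Subtype.val h1
    simpa using this.symm
  obtain ⟨j, hj⟩ := h2 ⟨z, hz⟩
  have h5 : z ^ 2 ^ j = 1 := by
    have := congrArg Subtype.val hj
    simpa using this
  have h6 : orderOf z ∣ Nat.gcd (2 ^ j) T₀.index :=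
    Nat.dvd_gcd (orderOf_dvd_of_pow_eq_one h5) (orderOf_dvd_of_pow_eq_one h4)
  have h7 : Nat.gcd (2 ^ j) T₀.index = 1 :=
    Nat.Coprime.pow_left j (Nat.coprime_two_left.mpr hodd)
  rw [h7, Nat.dvd_one, orderOf_eq_one_iff] at h6
  exact h6

/-- In a nonabelian simple group with elementary abelian Sylow 2-subgroup `S` of order 8, some
`g ∈ N_G(S)` permutes `S \ {1}` transitively.  (`hZ` is the conclusion of the Z*-theorem.) -/
theorem exists_transitive_elt_of_simple {G : Type u} [Group G] [Finite G] [IsSimpleGroup G]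
    (hna : ¬ IsMulCommutative G) (S : Sylow 2 G)
    (hZ : ∀ v : G, orderOf v = 2 → v ∈ S → (∀ g : G, g * v * g⁻¹ ∈ S → g * v * g⁻¹ = v) →
      ∃ N : Subgroup G, N.Normal ∧ Odd (Nat.card N) ∧ ∀ g : G, v * g * v⁻¹ * g⁻¹ ∈ N)
    (hS8 : Nat.card (S : Subgroup G) = 8) (hSexp : ∀ x ∈ (S : Subgroup G), x * x = 1) :
    ∃ g ∈ normalizer ((S : Subgroup G) : Set G),
      (∀ x ∈ (S : Subgroup G), g ^ 7 * x * (g ^ 7)⁻¹ = x) ∧
      ∀ x ∈ (S : Subgroup G), x ≠ 1 → ∀ y ∈ (S : Subgroup G), y ≠ 1 →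
        ∃ i : ℕ, g ^ i * x * (g ^ i)⁻¹ = y := by
  classical
  have hScomm : ∀ a ∈ (S : Subgroup G), ∀ b ∈ (S : Subgroup G), a * b = b * a := by
    intro a ha b hb
    have ha' : a⁻¹ = a := inv_eq_of_mul_eq_one_left (hSexp a ha)
    have hb' : b⁻¹ = b := inv_eq_of_mul_eq_one_left (hSexp b hb)
    have hab : (a * b)⁻¹ = a * b := inv_eq_of_mul_eq_one_left (hSexp (a * b) (mul_mem ha hb))
    rw [mul_inv_rev, ha', hb'] at hab
    exact hab.symm
  haveI hSc : IsMulCommutative S := ⟨⟨fun a b => Subtype.ext (hScomm a a.2 b b.2)⟩⟩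
  apply exists_transitive_elt S hS8 hScomm
  intro u huS hu1
  by_contra hcon
  push_neg at hcon
  have huo : orderOf u = 2 := orderOf_eq_prime (by rw [pow_two]; exact hSexp u huS) hu1
  have hiso : ∀ g : G, g * u * g⁻¹ ∈ S → g * u * g⁻¹ = u := by
    intro g hg
    have hg' : (g⁻¹)⁻¹ * u * g⁻¹ ∈ S := by rw [inv_inv]; exact hg
    obtain ⟨n, hn, hgn⟩ := Sylow.conj_eq_normalizer_conj_of_mem S u g⁻¹ huS hg'
    rw [inv_inv] at hgn
    rw [hgn]
    have h1 := hcon n⁻¹ (inv_mem hn)
    rw [inv_inv] at h1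
    exact h1
  obtain ⟨N, hNn, hNodd, hN⟩ := hZ u huo huS hiso
  rcases hNn.eq_bot_or_eq_top with hN0 | hN1
  · -- `u` is central
    have hucen : u ∈ center G := by
      rw [mem_center_iff]
      intro g
      have h1 := hN g
      rw [hN0, mem_bot, mul_inv_eq_one, mul_inv_eq_iff_eq_mul] at h1
      exact h1.symm
    rcases (inferInstance : (center G).Normal).eq_bot_or_eq_top with hc0 | hc1
    · rw [hc0, mem_bot] at hucen
      exact hu1 hucen
    · apply hna
      refine ⟨⟨fun a b => ?_⟩⟩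
      have ha : a ∈ center G := by rw [hc1]; exact mem_top a
      exact ((mem_center_iff.mp ha) b).symm
  · -- `N = ⊤` has even order
    have h8 : Nat.card (S : Subgroup G) ∣ Nat.card G := card_subgroup_dvd_card _
    rw [hN1] at hNodd
    have h1 : Nat.card (⊤ : Subgroup G) = Nat.card G := card_top
    rw [h1] at hNodd
    rw [hS8] at h8
    have : Even (Nat.card G) := (even_iff_two_dvd.mpr (by norm_num : 2 ∣ 8)).trans_dvd h8
    exact (Nat.not_even_iff_odd.mpr hNodd) this

/-- A nonabelian simple group with elementary abelian Sylow 2-subgroups of order 8 has no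
nontrivial perfect central extension by a 2-group.  (`hZ` is the conclusion of the Z*-theorem.) -/
theorem ker_eq_bot_of_simple_E8 {L : Type u} {G : Type v} [Group L] [Finite L] [Group G] [Finite G]
    [IsSimpleGroup G] (hna : ¬ IsMulCommutative G) (S : Sylow 2 G)
    (hZ : ∀ v : G, orderOf v = 2 → v ∈ S → (∀ g : G, g * v * g⁻¹ ∈ S → g * v * g⁻¹ = v) →
      ∃ N : Subgroup G, N.Normal ∧ Odd (Nat.card N) ∧ ∀ g : G, v * g * v⁻¹ * g⁻¹ ∈ N)
    (hS8 : Nat.card (S : Subgroup G) = 8) (hSexp : ∀ x ∈ (S : Subgroup G), x * x = 1)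
    (φ : L →* G) (hφ : Function.Surjective φ) (hperf : commutator L = ⊤)
    (hc : φ.ker ≤ center L) (h2 : IsPGroup 2 φ.ker) : φ.ker = ⊥ := by
  obtain ⟨g, hg, hg7, htr⟩ := exists_transitive_elt_of_simple hna S hZ hS8 hSexp
  exact ker_eq_bot_of_E8 φ hφ hperf hc h2 S hS8 hSexp g hg hg7 htr

end Cfsg.Agent.Lib.Lead.E8Cover
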