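import Mathlib
import Cfsg.Agent.Lib.Helper13.Sylow

/-!
Fusion of involutions in an abelian Sylow `2`-subgroup with exactly three involutions
(Klein four, homocyclic of rank two, ...).
-/

set_option autoImplicit false

namespace Cfsg.Agent.Lib.Lead

open Subgroup

variable {G : Type*} [Group G] [Finite G]

/-- An element normalizing a Sylow `2`-subgroup has an odd power inside it. -/
theorem exists_odd_pow_mem_sylow (P : Sylow 2 G) {n : G}
    (hn : n ∈ normalizer ((P : Subgroup G) : Set G)) : ∃ r : ℕ, Odd r ∧ n ^ r ∈ (P : Subgroup G) := by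
  obtain ⟨a, r, hr, har⟩ := Nat.exists_eq_two_pow_mul_odd (orderOf_pos n).ne'
  refine ⟨r, hr, ?_⟩
  have hx : (n ^ r) ^ 2 ^ a = 1 := by
    rw [← pow_mul, mul_comm, ← har, pow_orderOf_eq_one]
  have hZ : IsPGroup 2 (zpowers (n ^ r)) := by
    rintro ⟨y, hy⟩
    obtain ⟨i, rfl⟩ := mem_zpowers_iff.1 hy
    refine ⟨a, Subtype.ext ?_⟩
    change ((n ^ r) ^ i) ^ 2 ^ a = 1
    rw [← zpow_natCast, ← zpow_mul, mul_comm, zpow_mul, zpow_natCast, hx, one_zpow]
  have hle : zpowers (n ^ r) ≤ normalizer ((P : Subgroup G) : Set G) := by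
    rw [zpowers_le]; exact pow_mem hn r
  have h1 : zpowers (n ^ r) ⊓ normalizer ((P : Subgroup G) : Set G) =
      zpowers (n ^ r) ⊓ (P : Subgroup G) := hZ.inf_normalizer_sylow P
  rw [inf_of_le_left hle] at h1
  have h2 : zpowers (n ^ r) ≤ (P : Subgroup G) := by rw [h1]; exact inf_le_right
  exact h2 (mem_zpowers _)

omit [Finite G] in
/-- Iterated conjugation. -/
theorem conj_pow_eq_of_conj_eq {n x : G} (h : n * x * n⁻¹ = x) (k : ℕ) :
    n ^ k * x * (n ^ k)⁻¹ = x := by
  induction k with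
  | zero => simp
  | succ k ih =>
    have : n ^ (k + 1) * x * (n ^ (k + 1))⁻¹ = n * (n ^ k * x * (n ^ k)⁻¹) * n⁻¹ := by
      rw [pow_succ']; group
    rw [this, ih, h]

section Three

variable (P : Sylow 2 G) (hab : ∀ x ∈ (P : Subgroup G), ∀ y ∈ (P : Subgroup G), x * y = y * x)
  {t₁ t₂ : G}
  (hI : ∀ x ∈ (P : Subgroup G), orderOf x = 2 → x = t₁ ∨ x = t₂ ∨ x = t₁ * t₂)

include hab hI

/-- If some element of `N_G(P)` moves an involution of `P`, and `P` is abelian with at most three
involutions, then all involutions of `P` are conjugate in `G`. -/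
theorem involutions_conj_of_moved {n t : G} (hn : n ∈ normalizer ((P : Subgroup G) : Set G))
    (ht : t ∈ (P : Subgroup G)) (ht2 : orderOf t = 2) (hmove : n * t * n⁻¹ ≠ t) :
    ∀ s ∈ (P : Subgroup G), ∀ s' ∈ (P : Subgroup G), orderOf s = 2 → orderOf s' = 2 →
      IsConj s s' := by
  obtain ⟨r, hr, hnr⟩ := exists_odd_pow_mem_sylow P hn
  have hconjP : ∀ x ∈ (P : Subgroup G), n * x * n⁻¹ ∈ (P : Subgroup G) :=
    fun x hx => (mem_normalizer_iff.1 hn x).1 hx
  have hord : ∀ x : G, orderOf (n * x * n⁻¹) = orderOf x := fun x => (MulAut.conj n).orderOf_eq x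
  set u := n * t * n⁻¹ with hu
  set v := n * u * n⁻¹ with hv
  have huP : u ∈ (P : Subgroup G) := hconjP t ht
  have hvP : v ∈ (P : Subgroup G) := hconjP u huP
  have hu2 : orderOf u = 2 := by rw [hu, hord]; exact ht2
  have hv2 : orderOf v = 2 := by rw [hv, hord]; exact hu2
  have hvu : v ≠ u := by
    intro h
    apply hmove
    have : n * u * n⁻¹ = n * t * n⁻¹ := h
    have h2 : u = t := mul_left_cancel (mul_right_cancel this)
    exact h2
  have hvt : v ≠ t := by
    intro h
    -- `n` swaps `t` and `u`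
    have hswap : ∀ k : ℕ, n ^ k * t * (n ^ k)⁻¹ = if Even k then t else u := by
      intro k
      induction k with
      | zero => simp
      | succ k ih =>
        have e : n ^ (k + 1) * t * (n ^ (k + 1))⁻¹ = n * (n ^ k * t * (n ^ k)⁻¹) * n⁻¹ := by
          rw [pow_succ']; group
        rw [e, ih]
        by_cases hk : Even k
        · have : ¬ Even (k + 1) := by
            rw [Nat.even_add_one]; exact not_not.2 hk
          rw [if_pos hk, if_neg this]
        · have : Even (k + 1) := by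
            rw [Nat.even_add_one]; exact hk
          rw [if_neg hk, if_pos this]
          exact h
    have h1 := hswap r
    rw [if_neg (Nat.not_even_iff_odd.2 hr)] at h1
    have h2 : n ^ r * t * (n ^ r)⁻¹ = t := by
      rw [hab _ hnr _ ht]; group
    exact hmove (h1.symm.trans h2)
  have hconj_tu : IsConj t u := isConj_iff.2 ⟨n, rfl⟩
  have hconj_uv : IsConj u v := isConj_iff.2 ⟨n, rfl⟩
  have hconj_tv : IsConj t v := hconj_tu.trans hconj_uv
  -- any involution of `P` is one of `t, u, v`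
  have hall : ∀ s ∈ (P : Subgroup G), orderOf s = 2 → s = t ∨ s = u ∨ s = v := by
    intro s hs hs2
    classical
    have hut : u ≠ t := hmove
    have hsub : ({t, u, v} : Finset G) ⊆ {t₁, t₂, t₁ * t₂} := by
      intro z hz
      simp only [Finset.mem_insert, Finset.mem_singleton] at hz ⊢
      rcases hz with rfl | rfl | rfl
      · exact hI _ ht ht2
      · exact hI _ huP hu2
      · exact hI _ hvP hv2
    have hcard3 : ({t, u, v} : Finset G).card = 3 := by
      rw [Finset.card_eq_three]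
      exact ⟨t, u, v, hut.symm, hvt.symm, hvu.symm, rfl⟩
    have hcardT : ({t₁, t₂, t₁ * t₂} : Finset G).card ≤ 3 := Finset.card_le_three
    have heq := Finset.eq_of_subset_of_card_le hsub (by rw [hcard3]; exact hcardT)
    have hs' : s ∈ ({t₁, t₂, t₁ * t₂} : Finset G) := by
      simp only [Finset.mem_insert, Finset.mem_singleton]
      exact hI s hs hs2
    rw [← heq] at hs'
    simpa using hs'
  intro s hs s' hs' hs2 hs'2
  have key : ∀ a b : G, (a = t ∨ a = u ∨ a = v) → (b = t ∨ b = u ∨ b = v) → IsConj a b := by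
    intro a b ha hb
    rcases ha with rfl | rfl | rfl <;> rcases hb with rfl | rfl | rfl
    · exact IsConj.refl _
    · exact hconj_tu
    · exact hconj_tv
    · exact hconj_tu.symm
    · exact IsConj.refl _
    · exact hconj_uv
    · exact hconj_tv.symm
    · exact hconj_uv.symm
    · exact IsConj.refl _
  exact key s s' (hall s hs hs2) (hall s' hs' hs'2)

omit hI in
/-- An element of `N_G(P)` fixing all involutions of the abelian Sylow `2`-subgroup `P`
centralizes `P`. -/
theorem centralizes_of_fixes_involutions {n : G} (hn : n ∈ normalizer ((P : Subgroup G) : Set G))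
    (hfix : ∀ t ∈ (P : Subgroup G), orderOf t = 2 → n * t * n⁻¹ = t) :
    ∀ x ∈ (P : Subgroup G), n * x * n⁻¹ = x := by
  obtain ⟨r, hr, hnr⟩ := exists_odd_pow_mem_sylow P hn
  have hconjP : ∀ x ∈ (P : Subgroup G), n * x * n⁻¹ ∈ (P : Subgroup G) :=
    fun x hx => (mem_normalizer_iff.1 hn x).1 hx
  have key : ∀ k : ℕ, ∀ x ∈ (P : Subgroup G), x ^ 2 ^ k = 1 → n * x * n⁻¹ = x := by
    intro k
    induction k with
    | zero =>
      intro x _ hx
      rw [pow_zero, pow_one] at hx
      rw [hx]; group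
    | succ k ih =>
      intro x hx hxk
      have hx2 : (x ^ 2) ^ 2 ^ k = 1 := by rw [← pow_mul, ← pow_succ']; exact hxk
      have h1 : n * x ^ 2 * n⁻¹ = x ^ 2 := ih _ (pow_mem hx 2) hx2
      obtain ⟨a, ha⟩ : ∃ a, a = n * x * n⁻¹ := ⟨_, rfl⟩
      obtain ⟨y, hy⟩ : ∃ y, y = a * x⁻¹ := ⟨_, rfl⟩
      have hnx : a ∈ (P : Subgroup G) := ha ▸ hconjP x hx
      have hyP : y ∈ (P : Subgroup G) := hy ▸ mul_mem hnx (inv_mem hx)
      have hy2 : y ^ 2 = 1 := by
        have e1 : a ^ 2 = x ^ 2 := by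
          rw [ha, ← h1]; simp [conj_pow]
        have hc : x⁻¹ * a = a * x⁻¹ := hab _ (inv_mem hx) _ hnx
        calc y ^ 2 = (a * x⁻¹) * (a * x⁻¹) := by rw [hy, pow_two]
          _ = a * (x⁻¹ * a) * x⁻¹ := by group
          _ = a * (a * x⁻¹) * x⁻¹ := by rw [hc]
          _ = a ^ 2 * (x ^ 2)⁻¹ := by rw [pow_two, pow_two]; group
          _ = 1 := by rw [e1, mul_inv_cancel]
      have hny : n * y * n⁻¹ = y := by
        by_cases hy1 : y = 1
        · rw [hy1]; group
        · have : Fact (Nat.Prime 2) := ⟨Nat.prime_two⟩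
          exact hfix y hyP (orderOf_eq_prime hy2 hy1)
      have hnx' : n * x * n⁻¹ = y * x := by rw [hy, ha]; group
      have hpow : ∀ j : ℕ, n ^ j * x * (n ^ j)⁻¹ = y ^ j * x := by
        intro j
        induction j with
        | zero => simp
        | succ j ihj =>
          have e : n ^ (j + 1) * x * (n ^ (j + 1))⁻¹ = n * (n ^ j * x * (n ^ j)⁻¹) * n⁻¹ := by
            rw [pow_succ']; group
          rw [e, ihj]
          have e2 : n * (y ^ j * x) * n⁻¹ = (n * y * n⁻¹) ^ j * (n * x * n⁻¹) := by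
            simp [conj_pow]
          rw [e2, hny, hnx', pow_succ]; group
      have h3 := hpow r
      have h4 : n ^ r * x * (n ^ r)⁻¹ = x := by
        rw [hab _ hnr _ hx]; group
      rw [h4] at h3
      have hyr : y ^ r = 1 := by
        have : y ^ r * x = 1 * x := by rw [one_mul]; exact h3.symm
        exact mul_right_cancel this
      obtain ⟨j, hj⟩ := hr
      have hy1 : y = 1 := by
        rw [hj, pow_succ, pow_mul, hy2, one_pow, one_mul] at hyr
        exact hyr
      rw [hnx', hy1, one_mul]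
  intro x hx
  obtain ⟨k, hk⟩ := P.2 ⟨x, hx⟩
  have hk' : x ^ 2 ^ k = 1 := by
    have := congrArg Subtype.val hk
    simpa using this
  exact key k x hx hk'

end Three

/-- If the involutions of a Sylow `2`-subgroup are all conjugate in `G`, so are all involutions of
`G`. -/
theorem isConj_involutions_of_sylow (P : Sylow 2 G)
    (h : ∀ s ∈ (P : Subgroup G), ∀ s' ∈ (P : Subgroup G), orderOf s = 2 → orderOf s' = 2 →
      IsConj s s') (s t : G) (hs : orderOf s = 2) (ht : orderOf t = 2) : IsConj s t := by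
  have : Fact (Nat.Prime 2) := ⟨Nat.prime_two⟩
  have hs1 : s ^ 2 ^ 1 = 1 := by rw [pow_one, ← hs]; exact pow_orderOf_eq_one s
  have ht1 : t ^ 2 ^ 1 = 1 := by rw [pow_one, ← ht]; exact pow_orderOf_eq_one t
  obtain ⟨c, hc⟩ := Cfsg.Agent.Lib.Helper13.exists_conj_mem_sylow P s ⟨1, hs1⟩
  obtain ⟨d, hd⟩ := Cfsg.Agent.Lib.Helper13.exists_conj_mem_sylow P t ⟨1, ht1⟩
  have h1 : orderOf (c * s * c⁻¹) = 2 := ((MulAut.conj c).orderOf_eq s).trans hs
  have h2 : orderOf (d * t * d⁻¹) = 2 := ((MulAut.conj d).orderOf_eq t).trans ht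
  have h3 := h _ hc _ hd h1 h2
  have h4 : IsConj s (c * s * c⁻¹) := isConj_iff.2 ⟨c, rfl⟩
  have h5 : IsConj t (d * t * d⁻¹) := isConj_iff.2 ⟨d, rfl⟩
  exact h4.trans (h3.trans h5.symm)

end Cfsg.Agent.Lib.Lead
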