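import Mathlib
import Cfsg.Prelude.Def_PLocal
import Cfsg.Agent.H5.Cores
import Cfsg.Agent.H5.NilAct
import Cfsg.Agent.Lib.Helper16.SylowInf
import Cfsg.Agent.Lib.Helper13.Sylow
import Cfsg.Agent.Lib.Helper13.PNilpotent

set_option autoImplicit false

/-! Quadratic action against an abelian `p'`-section: a ring computation in the endomorphism ring
of an abelian group of odd order, and `p`-stability of groups `X` with `X / O_p(X)` having an
abelian normal `p`-complement. -/

namespace Cfsg.Agent.Lib.Lead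

section RingKey

variable {R : Type*} [Ring R]

/-- If `α` is quadratic (`(α - 1)^2 = 0`), `y⁻¹ α y = α d` with `d` commuting with `y`, and `2` is
invertible, then `(d - 1)^2 = 0`. -/
theorem ring_key (α αi y yi d di half : R)
    (hα' : αi * α = 1) (hy : y * yi = 1) (hy' : yi * y = 1)
    (hd' : di * d = 1)
    (hq : (α - 1) * (α - 1) = 0) (hβ : yi * α * y = α * d) (hdy : d * y = y * d)
    (h2 : half * (1 + 1) = 1) : (d - 1) * (d - 1) = 0 := by
  have hαi : αi = 1 + 1 - α := by
    have h1 : α * (1 + 1 - α) = 1 := by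
      have : α * (1 + 1 - α) = 1 - (α - 1) * (α - 1) := by noncomm_ring
      rw [this, hq, sub_zero]
    calc αi = αi * (α * (1 + 1 - α)) := by rw [h1, mul_one]
      _ = (αi * α) * (1 + 1 - α) := by rw [mul_assoc]
      _ = 1 + 1 - α := by rw [hα', one_mul]
  have conj_sq : ∀ x : R, (x - 1) * (x - 1) = 0 → (yi * x * y - 1) * (yi * x * y - 1) = 0 := by
    intro x hx
    have e1 : yi * x * y - 1 = yi * (x - 1) * y := by
      calc yi * x * y - 1 = yi * x * y - yi * y := by rw [hy']
        _ = yi * (x - 1) * y := by noncomm_ring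
    rw [e1]
    calc yi * (x - 1) * y * (yi * (x - 1) * y)
        = yi * (x - 1) * (y * yi) * ((x - 1) * y) := by noncomm_ring
      _ = yi * ((x - 1) * (x - 1)) * y := by rw [hy]; noncomm_ring
      _ = 0 := by rw [hx]; noncomm_ring
  have E1 : (α * d - 1) * (α * d - 1) = 0 := by
    have := conj_sq α hq
    rwa [hβ] at this
  have hβ2 : yi * (α * d) * y = α * d * d := by
    calc yi * (α * d) * y = yi * α * (d * y) := by noncomm_ring
      _ = yi * α * (y * d) := by rw [hdy]
      _ = (yi * α * y) * d := by noncomm_ring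
      _ = α * d * d := by rw [hβ]
  have E2 : (α * d * d - 1) * (α * d * d - 1) = 0 := by
    have := conj_sq (α * d) E1
    rwa [hβ2] at this
  -- left-multiplying by `αi`
  have F1 : d * α * d = d + d - (1 + 1) + α := by
    have h : αi * ((α * d - 1) * (α * d - 1)) = 0 := by rw [E1, mul_zero]
    have h' : αi * ((α * d - 1) * (α * d - 1))
        = (αi * α) * d * α * d - ((αi * α) * d + (αi * α) * d) + αi := by noncomm_ring
    rw [h', hα', hαi] at h
    have h3 : d * α * d = (1 * d * α * d - (1 * d + 1 * d) + (1 + 1 - α)) + (d + d - (1 + 1) + α) := by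
      noncomm_ring
    rw [h3, h, zero_add]
  have F2 : d * d * α * d * d = d * d + d * d - (1 + 1) + α := by
    have h : αi * ((α * d * d - 1) * (α * d * d - 1)) = 0 := by rw [E2, mul_zero]
    have h' : αi * ((α * d * d - 1) * (α * d * d - 1))
        = (αi * α) * d * d * α * d * d - ((αi * α) * d * d + (αi * α) * d * d) + αi := by
      noncomm_ring
    rw [h', hα', hαi] at h
    have h3 : d * d * α * d * d
        = (1 * d * d * α * d * d - (1 * d * d + 1 * d * d) + (1 + 1 - α))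
          + (d * d + d * d - (1 + 1) + α) := by
      noncomm_ring
    rw [h3, h, zero_add]
  have F3 : d * d * α * d * d = d * (d * α * d) * d := by noncomm_ring
  rw [F1, F2] at F3
  -- F3 : d*d + d*d - 2 + α = d * (d + d - 2 + α) * d
  have F4 : (1 + 1) * (d * ((d - 1) * (d - 1))) = 0 := by
    have h4 : (1 + 1) * (d * ((d - 1) * (d - 1)))
        = d * (d + d - (1 + 1) + α) * d - (d * d + d * d - (1 + 1) + α)
          - (d * α * d - (d + d - (1 + 1) + α)) := by noncomm_ring
    rw [h4, ← F3, sub_self, F1, sub_self, sub_zero]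
  have F5 : d * ((d - 1) * (d - 1)) = 0 := by
    calc d * ((d - 1) * (d - 1)) = (half * (1 + 1)) * (d * ((d - 1) * (d - 1))) := by
          rw [h2, one_mul]
      _ = half * ((1 + 1) * (d * ((d - 1) * (d - 1)))) := by rw [mul_assoc]
      _ = 0 := by rw [F4, mul_zero]
  calc (d - 1) * (d - 1) = (di * d) * ((d - 1) * (d - 1)) := by rw [hd', one_mul]
    _ = di * (d * ((d - 1) * (d - 1))) := by rw [mul_assoc]
    _ = 0 := by rw [F5, mul_zero]

/-- powers of a quadratic unipotent element -/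
theorem pow_of_sq_zero (d : R) (h : (d - 1) * (d - 1) = 0) (m : ℕ) :
    d ^ m = 1 + m • (d - 1) := by
  induction m with
  | zero => simp
  | succ m ih =>
    rw [pow_succ, ih, succ_nsmul]
    have : (1 + m • (d - 1)) * d = 1 + (m • (d - 1) + (d - 1)) + m • ((d - 1) * (d - 1)) := by
      have hd : d = 1 + (d - 1) := by abel
      nth_rewrite 2 [hd]
      rw [mul_add, mul_one, add_mul, one_mul, smul_mul_assoc]
      abel
    rw [this, h, smul_zero, add_zero]

end RingKey

section GroupKey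

variable {Y : Type*} [Group Y]

/-- the additive endomorphism attached to an automorphism of a commutative group -/
def endOfAut {A : Type*} [CommGroup A] (f : MulAut A) : AddMonoid.End (Additive A) :=
  MonoidHom.toAdditive (f : A ≃* A).toMonoidHom

theorem endOfAut_apply {A : Type*} [CommGroup A] (f : MulAut A) (w : Additive A) :
    endOfAut f w = Additive.ofMul (f (Additive.toMul w)) := rfl

theorem end_zero_apply {M : Type*} [AddCommGroup M] (w : M) : (0 : AddMonoid.End M) w = 0 := rfl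

theorem end_one_apply {M : Type*} [AddCommGroup M] (w : M) : (1 : AddMonoid.End M) w = w := rfl

theorem end_sub_apply {M : Type*} [AddCommGroup M] (f g : AddMonoid.End M) (w : M) :
    (f - g) w = f w - g w := rfl

theorem end_mul_apply {M : Type*} [AddCommGroup M] (f g : AddMonoid.End M) (w : M) :
    (f * g) w = f (g w) := rfl

theorem endOfAut_one {A : Type*} [CommGroup A] : endOfAut (1 : MulAut A) = 1 := by
  apply AddMonoid.End.ext
  intro w
  rw [endOfAut_apply]
  rfl

theorem endOfAut_mul {A : Type*} [CommGroup A] (f g : MulAut A) :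
    endOfAut (f * g) = endOfAut f * endOfAut g := by
  apply AddMonoid.End.ext
  intro w
  rw [endOfAut_apply]
  rfl

/-- A group `Y` acting on a commutative group `A` of odd order: if `a` acts quadratically and the
commutator `d = a⁻¹ y⁻¹ a y` commutes with `y` in the action, then `d ^ |A|` acts trivially. -/
theorem act_pow_eq_of_quadratic {A : Type*} [CommGroup A] [Finite A] (hodd : Odd (Nat.card A))
    (φ : Y →* MulAut A) (a y : Y)
    (hq : ∀ w : A, φ a (φ a w * w⁻¹) = φ a w * w⁻¹)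
    (hcomm : φ ((a⁻¹ * y⁻¹ * a * y) * y) = φ (y * (a⁻¹ * y⁻¹ * a * y))) :
    φ ((a⁻¹ * y⁻¹ * a * y) ^ Nat.card A) = 1 := by
  set d : Y := a⁻¹ * y⁻¹ * a * y with hd
  let ρ : Y →* AddMonoid.End (Additive A) :=
    { toFun := fun g => endOfAut (φ g)
      map_one' := by rw [map_one, endOfAut_one]
      map_mul' := fun g h => by rw [map_mul, endOfAut_mul] }
  have hρ : ∀ g : Y, ρ g = endOfAut (φ g) := fun _ => rfl
  have hn : ((Nat.card A : ℕ) : AddMonoid.End (Additive A)) = 0 := by
    apply AddMonoid.End.ext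
    intro w
    rw [AddMonoid.End.natCast_apply, end_zero_apply]
    have : (Additive.toMul w) ^ Nat.card A = 1 := pow_card_eq_one'
    exact congrArg Additive.ofMul this
  obtain ⟨k, hk⟩ := hodd
  have h2 : (((k + 1 : ℕ) : AddMonoid.End (Additive A))) * (1 + 1) = 1 := by
    have e1 : (((k + 1 : ℕ) : AddMonoid.End (Additive A))) * (1 + 1)
        = ((Nat.card A : ℕ) : AddMonoid.End (Additive A)) + 1 := by
      rw [hk]; push_cast; noncomm_ring
    rw [e1, hn, zero_add]
  have hqR : (ρ a - 1) * (ρ a - 1) = 0 := by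
    apply AddMonoid.End.ext
    intro w
    have h1 : ∀ v : Additive A, (ρ a - 1) v
        = Additive.ofMul (φ a (Additive.toMul v) * (Additive.toMul v)⁻¹) := by
      intro v
      rw [end_sub_apply, hρ, endOfAut_apply, end_one_apply, ofMul_mul, ofMul_inv, ofMul_toMul,
        sub_eq_add_neg]
    rw [end_mul_apply, h1, h1, end_zero_apply, toMul_ofMul, hq, mul_inv_cancel]
    rfl
  have hsq := ring_key (ρ a) (ρ a⁻¹) (ρ y) (ρ y⁻¹) (ρ d) (ρ d⁻¹) ((k + 1 : ℕ) : _)
    (by rw [← map_mul, inv_mul_cancel, map_one])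
    (by rw [← map_mul, mul_inv_cancel, map_one])
    (by rw [← map_mul, inv_mul_cancel, map_one])
    (by rw [← map_mul, inv_mul_cancel, map_one])
    hqR
    (by
      rw [← map_mul, ← map_mul, ← map_mul]
      congr 1
      rw [hd]; group)
    (by
      rw [← map_mul, ← map_mul, hρ, hρ, hcomm])
    h2
  have hpow := pow_of_sq_zero (ρ d) hsq (Nat.card A)
  rw [nsmul_eq_mul, hn, zero_mul, add_zero, ← map_pow] at hpow
  apply MulEquiv.ext
  intro w
  have h3 := DFunLike.congr_fun hpow (Additive.ofMul w)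
  rw [hρ, endOfAut_apply] at h3
  exact congrArg Additive.toMul h3

/-- Section version: `a` quadratic on `V`, `V / N` abelian, and the commutator of `d = [a, y]`
with `y` acting trivially on `V / N`: then `d ^ |V|` acts trivially on `V / N`. -/
theorem pow_mem_sectionKernel {X : Type*} [Group X] (V N : Subgroup X) [hVn : V.Normal]
    [hNn : N.Normal] [Finite V] (hVN : ⁅V, V⁆ ≤ N) (hodd : Odd (Nat.card V)) (a y : X)
    (hq : ∀ v ∈ V, a * (a * v * a⁻¹ * v⁻¹) = (a * v * a⁻¹ * v⁻¹) * a)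
    (hz : (y * (a⁻¹ * y⁻¹ * a * y))⁻¹ * ((a⁻¹ * y⁻¹ * a * y) * y) ∈ Cfsg.sectionKernel V N) :
    (a⁻¹ * y⁻¹ * a * y) ^ Nat.card V ∈ Cfsg.sectionKernel V N := by
  classical
  let π : X →* X ⧸ N := QuotientGroup.mk' N
  have hπ1 : ∀ x : X, π x = 1 ↔ x ∈ N := fun x => QuotientGroup.eq_one_iff x
  let W : Subgroup (X ⧸ N) := V.map π
  have hWdef : Cfsg.sectionKernel V N = (Subgroup.centralizer (W : Set (X ⧸ N))).comap π := rfl
  have hWn : W.Normal := hVn.map π (QuotientGroup.mk'_surjective N)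
  have hWc : ∀ u v : W, u * v = v * u := by
    rintro ⟨_, u, hu, rfl⟩ ⟨_, v, hv, rfl⟩
    apply Subtype.ext
    show π u * π v = π v * π u
    rw [← map_mul, ← map_mul]
    have h1 : u * v * u⁻¹ * v⁻¹ ∈ N := hVN (by
      have := Subgroup.commutator_mem_commutator hu hv
      rwa [commutatorElement_def] at this)
    have h2 : u * v = (u * v * u⁻¹ * v⁻¹) * (v * u) := by group
    rw [h2, map_mul, (hπ1 _).2 h1, one_mul]
  let _ : CommGroup W := { (inferInstance : Group W) with mul_comm := hWc }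
  have hcardW : Nat.card W ∣ Nat.card V := Subgroup.card_map_dvd V π
  have hfin : Finite W := by
    have hpos : 0 < Nat.card W := Nat.pos_of_dvd_of_pos hcardW Nat.card_pos
    exact (Nat.card_pos_iff.1 hpos).2
  have hoddW : Odd (Nat.card W) := hodd.of_dvd_nat hcardW
  have hφ : ∀ (g : X ⧸ N) (w : W), ((MulAut.conjNormal g w : W) : X ⧸ N) = g * w * g⁻¹ :=
    fun g w => MulAut.conjNormal_apply g w
  have hcen : ∀ g : X ⧸ N, g ∈ Subgroup.centralizer (W : Set (X ⧸ N)) →
      (MulAut.conjNormal g : MulAut W) = 1 := by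
    intro g hg
    apply MulEquiv.ext
    intro w
    apply Subtype.ext
    rw [hφ]
    have := Subgroup.mem_centralizer_iff.1 hg w w.2
    rw [← this, mul_inv_cancel_right]
    rfl
  have key := act_pow_eq_of_quadratic (Y := X ⧸ N) (A := W) hoddW MulAut.conjNormal (π a) (π y)
    (by
      rintro ⟨_, v, hv, rfl⟩
      apply Subtype.ext
      have h1 := hq v hv
      have h3 : a * (a * v * a⁻¹ * v⁻¹) * a⁻¹ = a * v * a⁻¹ * v⁻¹ := by
        rw [h1, mul_inv_cancel_right]
      have h4 := congrArg π h3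
      simp only [map_mul, map_inv] at h4
      rw [hφ]
      simp only [Subgroup.coe_mul, Subgroup.coe_inv, hφ]
      exact h4)
    (by
      have hzc : π ((y * (a⁻¹ * y⁻¹ * a * y))⁻¹ * ((a⁻¹ * y⁻¹ * a * y) * y))
          ∈ Subgroup.centralizer (W : Set (X ⧸ N)) := by
        rw [hWdef] at hz
        exact hz
      have h5 := hcen _ hzc
      have h6 : (π a)⁻¹ * (π y)⁻¹ * π a * π y * π y
          = π y * ((π a)⁻¹ * (π y)⁻¹ * π a * π y)
            * π ((y * (a⁻¹ * y⁻¹ * a * y))⁻¹ * ((a⁻¹ * y⁻¹ * a * y) * y)) := by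
        simp only [map_mul, map_inv]
        group
      rw [h6, map_mul, h5, mul_one])
  rw [hWdef, Subgroup.mem_comap]
  have hkey2 : π ((a⁻¹ * y⁻¹ * a * y) ^ Nat.card W) ∈ Subgroup.centralizer (W : Set (X ⧸ N)) := by
    rw [Subgroup.mem_centralizer_iff]
    intro w hw
    have h7 := DFunLike.congr_fun key ⟨w, hw⟩
    have h8 := congrArg (fun u : W => (u : X ⧸ N)) h7
    simp only [hφ, MulAut.one_apply] at h8
    have h9 : π ((a⁻¹ * y⁻¹ * a * y) ^ Nat.card W)
        = ((π a)⁻¹ * (π y)⁻¹ * π a * π y) ^ Nat.card W := by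
      simp only [map_pow, map_mul, map_inv]
    rw [h9]
    calc w * ((π a)⁻¹ * (π y)⁻¹ * π a * π y) ^ Nat.card W
        = (((π a)⁻¹ * (π y)⁻¹ * π a * π y) ^ Nat.card W * w
            * (((π a)⁻¹ * (π y)⁻¹ * π a * π y) ^ Nat.card W)⁻¹)
            * ((π a)⁻¹ * (π y)⁻¹ * π a * π y) ^ Nat.card W := by rw [h8]
      _ = ((π a)⁻¹ * (π y)⁻¹ * π a * π y) ^ Nat.card W * w := by group
  obtain ⟨j, hj⟩ := hcardW
  rw [hj, pow_mul, map_pow]
  exact Subgroup.pow_mem _ hkey2 j

open scoped commutatorElement in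
/-- Induction over the chain `V > [V,H] > [V,H,H] > ...`: the commutator `d = [a, y]` of a quadratic
element `a` with `y ∈ K` (`K' ≤ H`, `H` a normal `p`-subgroup) acts on `V ≤ H` as a `p`-element. -/
theorem exists_pow_mem_centralizer {X : Type*} [Group X] [Finite X] {p : ℕ} [hp : Fact p.Prime]
    (hp2 : p ≠ 2) (H K : Subgroup X) [hHn : H.Normal] [hKn : K.Normal] (hH : IsPGroup p H)
    (hKH : ⁅K, K⁆ ≤ H) (a y : X) (hy : y ∈ K) :
    ∀ (n : ℕ) (V : Subgroup X), V.Normal → V ≤ H → Nat.card V = n →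
      (∀ v ∈ V, a * (a * v * a⁻¹ * v⁻¹) = (a * v * a⁻¹ * v⁻¹) * a) →
      ∃ k : ℕ, (a⁻¹ * y⁻¹ * a * y) ^ (p ^ k) ∈ Subgroup.centralizer (V : Set X) := by
  intro n
  induction n using Nat.strong_induction_on with
  | _ n ih =>
  intro V hVn hVH hcard hq
  by_cases hV1 : V = ⊥
  · refine ⟨0, ?_⟩
    rw [hV1, Subgroup.mem_centralizer_iff]
    intro v hv
    rw [Subgroup.coe_bot, Set.mem_singleton_iff] at hv
    rw [hv, one_mul, mul_one]
  set d := a⁻¹ * y⁻¹ * a * y with hd
  set N : Subgroup X := ⁅V, H⁆ with hN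
  have hNn : N.Normal := Subgroup.commutator_normal V H
  have hNV : N ≤ V := Subgroup.commutator_le_left V H
  have hVp : IsPGroup p V := hH.to_le hVH
  have hNne : N ≠ V := by
    intro heq
    apply hV1
    refine Cfsg.H5.eq_bot_of_le_commutator_pgroups' hVp hH ?_ (by rw [← hN, heq])
    rw [Subgroup.normalizer_eq_top]
    exact le_top
  have hcardN : Nat.card N < n := by
    rw [← hcard]
    by_contra hcon
    push Not at hcon
    exact hNne (Subgroup.eq_of_le_of_card_ge hNV hcon)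
  obtain ⟨k, hk⟩ := ih (Nat.card N) hcardN N hNn (hNV.trans hVH) rfl (fun v hv => hq v (hNV hv))
  have hdK : d ∈ K := by
    have e1 : d = (a⁻¹ * y⁻¹ * a⁻¹⁻¹) * y := by rw [hd]; group
    rw [e1]
    exact K.mul_mem (hKn.conj_mem _ (K.inv_mem hy) _) hy
  have hHker : H ≤ Cfsg.sectionKernel V N := by
    intro h hh
    show QuotientGroup.mk' N h ∈ Subgroup.centralizer _
    rw [Subgroup.mem_centralizer_iff]
    rintro _ ⟨v, hv, rfl⟩
    rw [← map_mul, ← map_mul]
    show ((v * h : X) : X ⧸ N) = ((h * v : X) : X ⧸ N)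
    rw [QuotientGroup.eq]
    have e2 : (v * h)⁻¹ * (h * v) = ⁅h⁻¹, v⁻¹⁆ := by rw [commutatorElement_def]; group
    rw [e2, hN, Subgroup.commutator_comm]
    exact Subgroup.commutator_mem_commutator (H.inv_mem hh) (V.inv_mem hv)
  have hz : (y * d)⁻¹ * (d * y) ∈ Cfsg.sectionKernel V N := by
    apply hHker
    apply hKH
    have e3 : (y * d)⁻¹ * (d * y) = ⁅d⁻¹, y⁻¹⁆ := by rw [commutatorElement_def]; group
    rw [e3]
    exact Subgroup.commutator_mem_commutator (K.inv_mem hdK) (K.inv_mem hy)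
  obtain ⟨j, hj⟩ := hVp.exists_card_eq
  obtain ⟨l, hl⟩ := (hVp.to_le hNV).exists_card_eq
  have hodd : Odd (Nat.card V) := by
    rw [hj]
    exact (hp.out.odd_of_ne_two hp2).pow
  have h1 := pow_mem_sectionKernel V N (Subgroup.commutator_mono le_rfl hVH) hodd a y hq hz
  rw [← hd] at h1
  set g := (d ^ Nat.card V) ^ (p ^ k) with hg
  have hg1 : g ∈ Cfsg.sectionKernel V N := Subgroup.pow_mem _ h1 _
  have hg2 : g ∈ Subgroup.centralizer (N : Set X) := by
    have e4 : g = (d ^ (p ^ k)) ^ Nat.card V := by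
      rw [hg, ← pow_mul, ← pow_mul, mul_comm]
    rw [e4]
    exact Subgroup.pow_mem _ hk _
  have hg3 : g ^ Nat.card N ∈ Subgroup.centralizer (V : Set X) := by
    rw [Subgroup.mem_centralizer_iff]
    intro v hv
    have hnN : g * v * g⁻¹ * v⁻¹ ∈ N := by
      have h5 : QuotientGroup.mk' N g ∈ Subgroup.centralizer _ := hg1
      have h6 := Subgroup.mem_centralizer_iff.1 h5 (QuotientGroup.mk' N v)
        (Subgroup.mem_map_of_mem _ hv)
      rw [← QuotientGroup.eq_one_iff]
      have h7 : ((g * v * g⁻¹ * v⁻¹ : X) : X ⧸ N)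
          = QuotientGroup.mk' N g * QuotientGroup.mk' N v * (QuotientGroup.mk' N g)⁻¹
            * (QuotientGroup.mk' N v)⁻¹ := by
        simp only [QuotientGroup.mk'_apply, QuotientGroup.mk_mul, QuotientGroup.mk_inv]
      rw [h7, ← h6]
      group
    set nn := g * v * g⁻¹ * v⁻¹ with hnn
    have hcomm : nn * g = g * nn := Subgroup.mem_centralizer_iff.1 hg2 nn hnN
    have hpow : ∀ i : ℕ, g ^ i * v * (g ^ i)⁻¹ = nn ^ i * v := by
      intro i
      induction i with
      | zero => simp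
      | succ i ihi =>
        have hc2 : nn ^ i * g = g * nn ^ i := by
          have : Commute nn g := hcomm
          exact (this.pow_left i)
        calc g ^ (i + 1) * v * (g ^ (i + 1))⁻¹ = g * (g ^ i * v * (g ^ i)⁻¹) * g⁻¹ := by
              rw [pow_succ']; group
          _ = g * (nn ^ i * v) * g⁻¹ := by rw [ihi]
          _ = (g * nn ^ i) * (v * g⁻¹) := by group
          _ = (nn ^ i * g) * (v * g⁻¹) := by rw [hc2]
          _ = nn ^ i * (g * v * g⁻¹ * v⁻¹) * v := by group
          _ = nn ^ (i + 1) * v := by rw [← hnn, ← pow_succ]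
    have h8 := hpow (Nat.card N)
    have h9 : nn ^ Nat.card N = 1 := by
      have : (⟨nn, hnN⟩ : N) ^ Nat.card N = 1 := pow_card_eq_one'
      exact congrArg Subtype.val this
    rw [h9, one_mul] at h8
    calc v * g ^ Nat.card N = (g ^ Nat.card N * v * (g ^ Nat.card N)⁻¹) * g ^ Nat.card N := by
          rw [h8]
      _ = g ^ Nat.card N * v := by group
  refine ⟨j + k + l, ?_⟩
  have e5 : d ^ p ^ (j + k + l) = g ^ Nat.card N := by
    rw [hg, hj, hl, ← pow_mul, ← pow_mul, ← pow_add, ← pow_add, add_assoc]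
  rw [e5]
  exact hg3

end GroupKey

section Stable

open scoped commutatorElement

/-- conjugating by powers when the commutator commutes -/
theorem conj_pow_of_comm {X : Type*} [Group X] (g v : X)
    (hcomm : (g * v * g⁻¹ * v⁻¹) * g = g * (g * v * g⁻¹ * v⁻¹)) (i : ℕ) :
    g ^ i * v * (g ^ i)⁻¹ = (g * v * g⁻¹ * v⁻¹) ^ i * v := by
  set nn := g * v * g⁻¹ * v⁻¹ with hnn
  induction i with
  | zero => simp
  | succ i ihi =>
    have hc2 : nn ^ i * g = g * nn ^ i := by
      have : Commute nn g := hcomm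
      exact (this.pow_left i)
    calc g ^ (i + 1) * v * (g ^ (i + 1))⁻¹ = g * (g ^ i * v * (g ^ i)⁻¹) * g⁻¹ := by
          rw [pow_succ']; group
      _ = g * (nn ^ i * v) * g⁻¹ := by rw [ihi]
      _ = (g * nn ^ i) * (v * g⁻¹) := by group
      _ = (nn ^ i * g) * (v * g⁻¹) := by rw [hc2]
      _ = nn ^ i * (g * v * g⁻¹ * v⁻¹) * v := by group
      _ = nn ^ (i + 1) * v := by rw [← hnn, ← pow_succ]

/-- in a finite nilpotent group the `p`-elements lie in `O_p` -/
theorem mem_pCore_of_isNilpotent {F : Type*} [Group F] [Finite F] (hF : Group.IsNilpotent F)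
    {p : ℕ} [hp : Fact p.Prime] (x : F) (k : ℕ) (hx : x ^ (p ^ k) = 1) : x ∈ Cfsg.pCore p F := by
  have hz : IsPGroup p (Subgroup.zpowers x) := by
    apply IsPGroup.of_card_dvd_pow (n := k)
    rw [Nat.card_zpowers]
    exact orderOf_dvd_of_pow_eq_one hx
  obtain ⟨Q, hQ⟩ := hz.exists_le_sylow
  have hQn : (Q : Subgroup F).Normal := inferInstance
  exact Cfsg.H5.le_pCore hQn Q.2 (hQ (Subgroup.mem_zpowers x))

/-- a `p`-element centralizing a normal subgroup of `p`-power index lies in `O_p` -/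
theorem mem_pCore_of_centralizes {Z : Type*} [Group Z] [Finite Z] {p : ℕ} [hp : Fact p.Prime]
    (L : Subgroup Z) [hLn : L.Normal] (hidx : ∃ k : ℕ, L.index = p ^ k) (t : Z)
    (ht : t ∈ Subgroup.centralizer (L : Set Z)) (k : ℕ) (htp : t ^ (p ^ k) = 1) :
    t ∈ Cfsg.pCore p Z := by
  set F : Subgroup Z := Subgroup.centralizer (L : Set Z) with hF
  have hFn : F.Normal := inferInstance
  -- `F` is nilpotent
  let f : F →* Z ⧸ L := (QuotientGroup.mk' L).comp F.subtype
  have hker : f.ker ≤ Subgroup.center F := by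
    intro x hx
    rw [MonoidHom.mem_ker] at hx
    have hxL : (x : Z) ∈ L := by
      have : ((x : Z) : Z ⧸ L) = 1 := hx
      exact (QuotientGroup.eq_one_iff _).1 this
    rw [Subgroup.mem_center_iff]
    intro g
    apply Subtype.ext
    have := Subgroup.mem_centralizer_iff.1 g.2 (x : Z) hxL
    simpa using this.symm
  have hQp : IsPGroup p (Z ⧸ L) := by
    obtain ⟨k', hk'⟩ := hidx
    apply IsPGroup.of_card (n := k')
    rw [← hk', Subgroup.index]
  have hQnil : Group.IsNilpotent (Z ⧸ L) := hQp.isNilpotent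
  have hFnil : Group.IsNilpotent F := Subgroup.isNilpotent_of_ker_le_center f hker
  have h1 : (⟨t, ht⟩ : F) ∈ Cfsg.pCore p F :=
    mem_pCore_of_isNilpotent hFnil _ k (Subtype.ext (by simpa using htp))
  have hchar : (Cfsg.pCore p F).Characteristic := Cfsg.H5.pCore_characteristic p F
  have hBn : ((Cfsg.pCore p F).map F.subtype).Normal := ConjAct.normal_of_characteristic_of_normal
  have hBp : IsPGroup p ((Cfsg.pCore p F).map F.subtype) :=
    (Cfsg.H5.pCore_isPGroup p F).map F.subtype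
  exact Cfsg.H5.le_pCore hBn hBp ⟨⟨t, ht⟩, h1, rfl⟩

/-- `p`-stability when `X` has a normal subgroup `K` of `p`-power index with `K' ≤ O_p(X)` and all
`p`-elements of `K` in `O_p(X)` (i.e. `K / O_p(X)` an abelian `p'`-group). -/
theorem isPStableOn_of_abelian_section {X : Type*} [Group X] [Finite X] {p : ℕ}
    [hp : Fact p.Prime] (hp2 : p ≠ 2) (K : Subgroup X) [hKn : K.Normal]
    (hKH : ⁅K, K⁆ ≤ Cfsg.pCore p X)
    (hcop : ∀ x ∈ K, (∃ k : ℕ, x ^ (p ^ k) = 1) → x ∈ Cfsg.pCore p X)
    (hidx : ∃ k : ℕ, K.index = p ^ k)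
    (V : Subgroup X) [hVn : V.Normal] (hV : IsPGroup p V) : Cfsg.IsPStableOn p V := by
  intro a hquad
  set H := Cfsg.pCore p X with hHdef
  have hHn : H.Normal := Cfsg.H5.pCore_normal p X
  have hHp : IsPGroup p H := Cfsg.H5.pCore_isPGroup p X
  have hVH : V ≤ H := Cfsg.H5.le_pCore hVn hV
  set C := Subgroup.centralizer (V : Set X) with hC
  have hCn : C.Normal := inferInstance
  have hquad' : ∀ g ∈ Subgroup.zpowers a, ∀ v ∈ V,
      g * (g * v * g⁻¹ * v⁻¹) = (g * v * g⁻¹ * v⁻¹) * g := by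
    intro g hg v hv
    have h1 : ⁅⁅v, g⁆, g⁆ ∈ ⁅⁅V, Subgroup.zpowers a⁆, Subgroup.zpowers a⁆ :=
      Subgroup.commutator_mem_commutator (Subgroup.commutator_mem_commutator hv hg) hg
    rw [hquad, Subgroup.mem_bot, commutatorElement_eq_one_iff_mul_comm] at h1
    have h2 : g * v * g⁻¹ * v⁻¹ = ⁅v, g⁆⁻¹ := by rw [commutatorElement_def]; group
    rw [h2]
    have h3 : Commute g ⁅v, g⁆ := h1.symm
    exact h3.inv_right.eq
  obtain ⟨t, u, ht, hu, hatu, ⟨kt, hkt⟩, hucop⟩ := Cfsg.Agent.Lib.Helper16.exists_p_decomp' p a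
  -- the `p'`-part centralizes `V`
  have huC : u ∈ C := by
    rw [hC, Subgroup.mem_centralizer_iff]
    intro v hv
    set w := u * v * u⁻¹ * v⁻¹ with hw
    have hwV : w ∈ V := V.mul_mem (hVn.conj_mem v hv u) (V.inv_mem hv)
    have hcomm : w * u = u * w := (hquad' u hu v hv).symm
    have h1 := conj_pow_of_comm u v hcomm (orderOf u)
    rw [pow_orderOf_eq_one, inv_one, mul_one, one_mul, ← hw] at h1
    have hw1 : w ^ orderOf u = 1 := by
      have : w ^ orderOf u * v = 1 * v := by rw [← h1, one_mul]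
      exact mul_right_cancel this
    obtain ⟨s, hs⟩ := hV ⟨w, hwV⟩
    have hw2 : w ^ (p ^ s) = 1 := congrArg Subtype.val hs
    have hw3 : w = 1 := by
      have hdvd1 : orderOf w ∣ orderOf u := orderOf_dvd_of_pow_eq_one hw1
      have hdvd2 : orderOf w ∣ p ^ s := orderOf_dvd_of_pow_eq_one hw2
      have h4 : orderOf w ∣ Nat.gcd (orderOf u) (p ^ s) := Nat.dvd_gcd hdvd1 hdvd2
      have hg : Nat.gcd (orderOf u) (p ^ s) = 1 := Nat.Coprime.pow_right s hucop
      rw [hg] at h4
      exact orderOf_eq_one_iff.1 (Nat.dvd_one.1 h4)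
    have h5 : u * v * u⁻¹ * v⁻¹ = 1 := by rw [← hw, hw3]
    calc v * u = (u * v * u⁻¹ * v⁻¹) * (v * u) := by rw [h5, one_mul]
      _ = u * v := by group
  have hmk : (QuotientGroup.mk a : X ⧸ C) = QuotientGroup.mk t := by
    rw [hatu, QuotientGroup.mk_mul, (QuotientGroup.eq_one_iff u).2 huC, mul_one]
  rw [hmk]
  have hqt := hquad' t ht
  -- `M = H C`
  set M : Subgroup X := H ⊔ C with hM
  have hMn : M.Normal := inferInstance
  have hstep : ∀ y ∈ K, t⁻¹ * y⁻¹ * t * y ∈ M := by
    intro y hy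
    obtain ⟨k, hk⟩ := exists_pow_mem_centralizer hp2 H K hHp hKH t y hy (Nat.card V) V hVn hVH rfl hqt
    set d := t⁻¹ * y⁻¹ * t * y with hd
    have hdK : d ∈ K := by
      have e1 : d = (t⁻¹ * y⁻¹ * t⁻¹⁻¹) * y := by rw [hd]; group
      rw [e1]
      exact K.mul_mem (hKn.conj_mem _ (K.inv_mem hy) _) hy
    obtain ⟨dp, dq, hdp, hdq, hddecomp, ⟨kd, hkd⟩, hdqcop⟩ :=
      Cfsg.Agent.Lib.Helper16.exists_p_decomp' p d
    have hzK : Subgroup.zpowers d ≤ K := Subgroup.zpowers_le.2 hdK
    have hdpH : dp ∈ H := hcop dp (hzK hdp) ⟨kd, by rw [← hkd]; exact pow_orderOf_eq_one dp⟩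
    have hdqC : dq ∈ C := by
      obtain ⟨e, he⟩ := Subgroup.mem_zpowers_iff.1 hdq
      have h1 : dq ^ (p ^ k) ∈ C := by
        have e2 : dq ^ (p ^ k) = (d ^ (p ^ k)) ^ e := by
          rw [← he, ← zpow_natCast, ← zpow_natCast, ← zpow_mul, ← zpow_mul, mul_comm]
        rw [e2]
        exact C.zpow_mem hk e
      have hcop2 : Nat.Coprime (p ^ k) (orderOf dq) := Nat.Coprime.pow_left k hdqcop.symm
      obtain ⟨m, hm⟩ := exists_pow_eq_self_of_coprime hcop2
      rw [← hm]
      exact C.pow_mem h1 m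
    rw [hddecomp]
    exact M.mul_mem (Subgroup.mem_sup_left hdpH) (Subgroup.mem_sup_right hdqC)
  -- pass to `X / M`
  let π' : X →* X ⧸ M := QuotientGroup.mk' M
  set L : Subgroup (X ⧸ M) := K.map π' with hL
  have hLn : L.Normal := hKn.map π' (QuotientGroup.mk'_surjective M)
  have hLidx : ∃ k : ℕ, L.index = p ^ k := by
    obtain ⟨k, hk⟩ := hidx
    have hdvd : L.index ∣ K.index := Subgroup.index_map_dvd K (QuotientGroup.mk'_surjective M)
    rw [hk] at hdvd
    obtain ⟨j, -, hj⟩ := (Nat.dvd_prime_pow hp.out).1 hdvd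
    exact ⟨j, hj⟩
  have htL : π' t ∈ Subgroup.centralizer (L : Set (X ⧸ M)) := by
    rw [Subgroup.mem_centralizer_iff]
    rintro _ ⟨y, hy, rfl⟩
    have h1 : π' (t⁻¹ * y⁻¹ * t * y) = 1 := (QuotientGroup.eq_one_iff _).2 (hstep y hy)
    simp only [map_mul, map_inv] at h1
    calc π' y * π' t = π' y * π' t * ((π' t)⁻¹ * (π' y)⁻¹ * π' t * π' y) := by rw [h1, mul_one]
      _ = π' t * π' y := by group
  have htp : (π' t) ^ (p ^ kt) = 1 := by
    rw [← map_pow, ← hkt, pow_orderOf_eq_one, map_one]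
  have h6 : π' t ∈ Cfsg.pCore p (X ⧸ M) := mem_pCore_of_centralizes L hLidx (π' t) htL kt htp
  -- back to `X / C`
  have hCM : C ≤ M := le_sup_right
  let ψ : X ⧸ C →* X ⧸ M := QuotientGroup.map C M (MonoidHom.id X) hCM
  have hψ : ∀ x : X, ψ (QuotientGroup.mk x) = π' x := fun x => rfl
  set D : Subgroup (X ⧸ C) := (Cfsg.pCore p (X ⧸ M)).comap ψ with hD
  have hDn : D.Normal := (Cfsg.H5.pCore_normal p (X ⧸ M)).comap ψ
  have hkerp : IsPGroup p ψ.ker := by
    have hle : ψ.ker ≤ H.map (QuotientGroup.mk' C) := by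
      intro x hx
      obtain ⟨x, rfl⟩ := QuotientGroup.mk_surjective x
      rw [MonoidHom.mem_ker, hψ] at hx
      have hxM : x ∈ M := (QuotientGroup.eq_one_iff x).1 hx
      have h7 : (QuotientGroup.mk' C) x ∈ M.map (QuotientGroup.mk' C) :=
        Subgroup.mem_map_of_mem _ hxM
      rw [hM, Subgroup.map_sup, QuotientGroup.map_mk'_self, sup_bot_eq] at h7
      exact h7
    exact (hHp.map (QuotientGroup.mk' C)).to_le hle
  have hDp : IsPGroup p D := (Cfsg.H5.pCore_isPGroup p (X ⧸ M)).comap_of_ker_isPGroup ψ hkerp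
  have htD : (QuotientGroup.mk t : X ⧸ C) ∈ D := by
    rw [hD, Subgroup.mem_comap, hψ]
    exact h6
  exact Cfsg.H5.le_pCore hDn hDp htD

/-- If a Sylow `p`-subgroup `R` of `Y` is a maximal subgroup and `N` is a normal `p`-complement,
then `N` is abelian. -/
theorem abelian_of_coatom_sylow {Y : Type*} [Group Y] [Finite Y] {p : ℕ} [hp : Fact p.Prime]
    (N : Subgroup Y) [hNn : N.Normal] (hNcop : (Nat.card N).Coprime p)
    (hNidx : ∃ k : ℕ, N.index = p ^ k) (R : Sylow p Y) (hR : IsCoatom (R : Subgroup Y)) :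
    ∀ x ∈ N, ∀ y ∈ N, x * y = y * x := by
  classical
  have hdisj : (R : Subgroup Y) ⊓ N = ⊥ := by
    obtain ⟨m, hm⟩ := R.2.exists_card_eq
    have hc : (Nat.card (R : Subgroup Y)).Coprime (Nat.card N) := by
      rw [hm]
      exact Nat.Coprime.pow_left m hNcop.symm
    exact disjoint_iff.1 (Subgroup.disjoint_of_coprime_natCard hc)
  have hmin : ∀ L : Subgroup Y, L.Normal → L ≤ N → L = ⊥ ∨ L = N := by
    intro L hLn hLN
    have h1 : (R : Subgroup Y) ≤ L ⊔ R := le_sup_right
    rcases eq_or_lt_of_le h1 with h2 | h2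
    · left
      have hLR : L ≤ R := by
        rw [h2]
        exact le_sup_left
      rw [eq_bot_iff, ← hdisj]
      exact le_inf hLR hLN
    · right
      have htop : L ⊔ R = ⊤ := hR.2 _ h2
      apply le_antisymm hLN
      intro n hn
      have hn' : n ∈ ((L ⊔ (R : Subgroup Y) : Subgroup Y) : Set Y) := by
        rw [htop]
        trivial
      rw [Subgroup.normal_mul] at hn'
      obtain ⟨l, hl, r, hr, hlr⟩ := Set.mem_mul.1 hn'
      have hrN : r ∈ N := by
        have e1 : r = l⁻¹ * n := by rw [← hlr]; group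
        rw [e1]
        exact N.mul_mem (N.inv_mem (hLN hl)) hn
      have hr1 : r ∈ (R : Subgroup Y) ⊓ N := Subgroup.mem_inf.2 ⟨hr, hrN⟩
      rw [hdisj, Subgroup.mem_bot] at hr1
      rw [← hlr, hr1, mul_one]
      exact hl
  by_contra hnab
  push Not at hnab
  obtain ⟨x, hx, y, hy, hxy⟩ := hnab
  have hcomm_ne : ⁅N, N⁆ ≠ ⊥ := by
    intro h
    have h1 : ⁅x, y⁆ ∈ ⁅N, N⁆ := Subgroup.commutator_mem_commutator hx hy
    rw [h, Subgroup.mem_bot, commutatorElement_eq_one_iff_mul_comm] at h1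
    exact hxy h1
  have hperf : ⁅N, N⁆ = N :=
    (hmin _ inferInstance (Subgroup.commutator_le_left N N)).resolve_left hcomm_ne
  have hN1 : N ≠ ⊥ := by
    intro h
    apply hcomm_ne
    rw [h, Subgroup.commutator_bot_left]
  have hcardN : Nat.card N ≠ 1 := by
    rw [Ne, Subgroup.card_eq_one]
    exact hN1
  obtain ⟨q, hq, hqN⟩ := Nat.exists_prime_and_dvd hcardN
  have : Fact q.Prime := ⟨hq⟩
  have Q : Sylow q N := default
  set Qm : Subgroup Y := (Q : Subgroup N).map N.subtype with hQm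
  have hQmN : Qm ≤ N := Subgroup.map_subtype_le _
  have hQm1 : Qm ≠ ⊥ := by
    intro h
    have h1 := Q.ne_bot_of_dvd_card hqN
    apply h1
    rw [eq_bot_iff]
    intro z hz
    have : (z : Y) ∈ Qm := Subgroup.mem_map_of_mem _ hz
    rw [h, Subgroup.mem_bot] at this
    rw [Subgroup.mem_bot]
    exact Subtype.ext this
  have hQmq : IsPGroup q Qm := Q.2.map _
  have hfrat : Subgroup.normalizer (Qm : Set Y) ⊔ N = ⊤ := Sylow.normalizer_sup_eq_top Q
  set M₁ : Subgroup Y := Subgroup.normalizer (Qm : Set Y) with hM₁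
  have hM1idx : ¬ p ∣ M₁.index := by
    obtain ⟨k, hk⟩ := hNidx
    have h1 : N.relIndex M₁ = p ^ k := by
      have := Subgroup.relIndex_sup_right M₁ N
      rw [hfrat, Subgroup.relIndex_top_right, hk] at this
      exact this.symm
    have h2 : p ^ k ∣ Nat.card M₁ := by
      rw [← h1]
      exact Subgroup.index_dvd_card _
    have h3 : Nat.card N * p ^ k = Nat.card Y := by rw [← hk, Subgroup.card_mul_index]
    have h4 : Nat.card M₁ * M₁.index = Nat.card Y := Subgroup.card_mul_index M₁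
    intro hdvd
    obtain ⟨c, hc⟩ := h2
    obtain ⟨e, he⟩ := hdvd
    have h5 : p ^ k * (c * (p * e)) = p ^ k * Nat.card N := by
      rw [← mul_assoc, ← hc, ← he, h4, ← h3, mul_comm]
    have h6 : c * (p * e) = Nat.card N := Nat.eq_of_mul_eq_mul_left (pow_pos hp.out.pos k) h5
    have h7 : p ∣ Nat.card N := ⟨c * e, by rw [← h6]; ring⟩
    exact (Nat.Prime.coprime_iff_not_dvd hp.out).1 hNcop.symm h7
  have T₁' : Sylow p M₁ := default
  set T₁ : Subgroup Y := (T₁' : Subgroup M₁).map M₁.subtype with hT₁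
  have hT1p : IsPGroup p T₁ := T₁'.2.map _
  have hT1M : T₁ ≤ M₁ := Subgroup.map_subtype_le _
  have hT1idx : ¬ p ∣ T₁.relIndex ⊤ := by
    rw [Subgroup.relIndex_top_right, hT₁, Subgroup.index_map_subtype]
    intro h
    rcases (Nat.Prime.dvd_mul hp.out).1 h with h' | h'
    · exact T₁'.not_dvd_index h'
    · exact hM1idx h'
  obtain ⟨h, -, hh⟩ := Cfsg.Agent.Lib.Helper13.exists_conj_le_of_relIndex ⊤ T₁ (R : Subgroup Y)
    hT1p hT1idx le_top R.2
  set Q' : Subgroup Y := Qm.comap (MulAut.conj h).toMonoidHom with hQ'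
  have hmemQ' : ∀ z : Y, z ∈ Q' ↔ h * z * h⁻¹ ∈ Qm := fun z => Iff.rfl
  have hQ'N : Q' ≤ N := by
    intro z hz
    have h1 : h * z * h⁻¹ ∈ N := hQmN ((hmemQ' z).1 hz)
    have e1 : z = h⁻¹ * (h * z * h⁻¹) * h⁻¹⁻¹ := by group
    rw [e1]
    exact hNn.conj_mem _ h1 _
  have hQ'1 : Q' ≠ ⊥ := by
    intro hb
    apply hQm1
    rw [eq_bot_iff]
    intro z hz
    have h1 : h⁻¹ * z * h ∈ Q' := by
      rw [hmemQ']
      have e1 : h * (h⁻¹ * z * h) * h⁻¹ = z := by group
      rw [e1]
      exact hz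
    rw [hb, Subgroup.mem_bot] at h1
    rw [Subgroup.mem_bot]
    calc z = h * (h⁻¹ * z * h) * h⁻¹ := by group
      _ = 1 := by rw [h1]; group
  have hQ'q : IsPGroup q Q' :=
    hQmq.comap_of_injective (MulAut.conj h).toMonoidHom (MulAut.conj h).injective
  have hRQ' : (R : Subgroup Y) ≤ Subgroup.normalizer (Q' : Set Y) := by
    intro r hr
    have hg : h * r * h⁻¹ ∈ M₁ := hT1M (hh r hr)
    rw [hM₁, Subgroup.mem_set_normalizer_iff] at hg
    rw [Subgroup.mem_set_normalizer_iff]
    intro z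
    rw [SetLike.mem_coe, SetLike.mem_coe, hmemQ', hmemQ']
    have h1 := hg (h * z * h⁻¹)
    rw [SetLike.mem_coe, SetLike.mem_coe] at h1
    rw [h1]
    have e1 : h * r * h⁻¹ * (h * z * h⁻¹) * (h * r * h⁻¹)⁻¹ = h * (r * z * r⁻¹) * h⁻¹ := by group
    rw [e1]
  rcases eq_or_lt_of_le hRQ' with h2 | h2
  · have hQR : Q' ≤ R := by
      rw [h2]
      exact Subgroup.le_normalizer
    apply hQ'1
    rw [eq_bot_iff, ← hdisj]
    exact le_inf hQR hQ'N
  · have htop := hR.2 _ h2
    have hQ'n : Q'.Normal := Subgroup.normalizer_eq_top_iff.1 htop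
    rcases hmin Q' hQ'n hQ'N with h3 | h3
    · exact hQ'1 h3
    · have hNq : IsPGroup q N := by rw [← h3]; exact hQ'q
      have hnil : Group.IsNilpotent N := hNq.isNilpotent
      have hnt : Nontrivial N := (Subgroup.nontrivial_iff_ne_bot N).2 hN1
      have hlt := Group.IsSolvable.commutator_lt_top_of_nontrivial N
      have hlt2 := Subgroup.map_subtype_lt_map_subtype.2 hlt
      rw [Subgroup.map_subtype_commutator, ← MonoidHom.range_eq_map, Subgroup.range_subtype,
        hperf] at hlt2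
      exact lt_irrefl _ hlt2

/-- `p`-stability of a group `X` whose quotient `X / O_p(X)` has a normal `p`-complement and whose
Sylow `p`-subgroup is a maximal subgroup. -/
theorem isPStableOn_of_coatom {X : Type*} [Group X] [Finite X] {p : ℕ} [hp : Fact p.Prime]
    (hp2 : p ≠ 2) (hnc : Cfsg.HasNormalPComplement p (X ⧸ Cfsg.pCore p X)) (T : Sylow p X)
    (hT : IsCoatom (T : Subgroup X)) (V : Subgroup X) [hVn : V.Normal] (hV : IsPGroup p V) :
    Cfsg.IsPStableOn p V := by
  set H := Cfsg.pCore p X with hH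
  have hHn : H.Normal := Cfsg.H5.pCore_normal p X
  have hHp : IsPGroup p H := Cfsg.H5.pCore_isPGroup p X
  have hHT : H ≤ T := hHp.le_sylow_of_normal T
  let π : X →* X ⧸ H := QuotientGroup.mk' H
  have hπs : Function.Surjective π := QuotientGroup.mk'_surjective H
  have hker : π.ker = H := QuotientGroup.ker_mk' H
  obtain ⟨N, hNn, hNcop, k, hNk⟩ := Cfsg.Agent.Lib.Helper13.hasNormalPComplement_iff_exists.1 hnc
  let R : Sylow p (X ⧸ H) := T.mapSurjective hπs
  have hRcoe : (R : Subgroup (X ⧸ H)) = (T : Subgroup X).map π := rfl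
  have hcm : ((T : Subgroup X).map π).comap π = T := by
    rw [Subgroup.comap_map_eq, hker, sup_of_le_left hHT]
  have hRco : IsCoatom (R : Subgroup (X ⧸ H)) := by
    constructor
    · intro htop
      apply hT.1
      rw [← hcm, ← hRcoe, htop, Subgroup.comap_top]
    · intro L hL
      have h1 : (T : Subgroup X) ≤ L.comap π := by
        rw [← hcm]
        exact Subgroup.comap_mono (le_of_lt (hRcoe ▸ hL))
      have h2 : (T : Subgroup X) ≠ L.comap π := by
        intro heq
        have h3 : (R : Subgroup (X ⧸ H)) = L := by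
          rw [hRcoe, heq, Subgroup.map_comap_eq_self_of_surjective hπs]
        exact (ne_of_lt hL) h3
      have h4 := hT.2 _ (lt_of_le_of_ne h1 h2)
      rw [← Subgroup.map_comap_eq_self_of_surjective hπs L, h4, Subgroup.map_top_of_surjective π hπs]
  have hab := abelian_of_coatom_sylow N hNcop ⟨k, hNk⟩ R hRco
  set K : Subgroup X := N.comap π with hK
  have hKn : K.Normal := hNn.comap π
  have hKH : ⁅K, K⁆ ≤ H := by
    rw [Subgroup.commutator_le]
    intro x hx y hy
    rw [← hker, MonoidHom.mem_ker, map_commutatorElement, commutatorElement_eq_one_iff_mul_comm]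
    exact hab _ hx _ hy
  have hcop : ∀ x ∈ K, (∃ j : ℕ, x ^ (p ^ j) = 1) → x ∈ H := by
    rintro x hx ⟨j, hj⟩
    rw [← hker, MonoidHom.mem_ker]
    have h1 : (π x) ^ (p ^ j) = 1 := by rw [← map_pow, hj, map_one]
    have h2 : orderOf (π x) ∣ p ^ j := orderOf_dvd_of_pow_eq_one h1
    have hx' : π x ∈ N := hx
    have h3 : orderOf (π x) ∣ Nat.card N := by
      have : orderOf (⟨π x, hx'⟩ : N) ∣ Nat.card N := orderOf_dvd_natCard _
      rwa [Subgroup.orderOf_mk] at this
    have h4 : orderOf (π x) ∣ Nat.gcd (Nat.card N) (p ^ j) := Nat.dvd_gcd h3 h2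
    rw [Nat.Coprime.pow_right j hNcop] at h4
    exact orderOf_eq_one_iff.1 (Nat.dvd_one.1 h4)
  have hidx : ∃ k : ℕ, K.index = p ^ k :=
    ⟨k, by rw [hK, Subgroup.index_comap_of_surjective N hπs, hNk]⟩
  exact isPStableOn_of_abelian_section hp2 K hKH hcop hidx V hV

end Stable

end Cfsg.Agent.Lib.Lead
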