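import Mathlib
import Cfsg.Agent.Lib.Lead.ThompsonFpf
import Cfsg.Agent.Lib.Lead.QuadAbelian

set_option autoImplicit false

/-! Kegel's theorem: a finite group with a splitting automorphism of prime order is nilpotent. -/

namespace Cfsg.Agent.Lib.Lead.Kegel

open Cfsg.Agent.Lib.Lead.Fpf Cfsg.H5.ZJ

universe u

section Norm

variable {G : Type*} [Group G]

/-- `x * φ x * ⋯ * φ^[n-1] x` -/
def nrm (φ : G ≃* G) : ℕ → G → G
  | 0, _ => 1
  | n + 1, x => nrm φ n x * (⇑φ)^[n] x

theorem nrm_zero (φ : G ≃* G) (x : G) : nrm φ 0 x = 1 := rfl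

theorem nrm_succ (φ : G ≃* G) (n : ℕ) (x : G) :
    nrm φ (n + 1) x = nrm φ n x * (⇑φ)^[n] x := rfl

theorem iter_mul (φ : G ≃* G) (n : ℕ) (a b : G) :
    (⇑φ)^[n] (a * b) = (⇑φ)^[n] a * (⇑φ)^[n] b := by
  induction n with
  | zero => rfl
  | succ n ih =>
    rw [Function.iterate_succ_apply', Function.iterate_succ_apply', Function.iterate_succ_apply',
      ih, map_mul]

theorem iter_inv (φ : G ≃* G) (n : ℕ) (a : G) : (⇑φ)^[n] a⁻¹ = ((⇑φ)^[n] a)⁻¹ := by
  induction n with
  | zero => rfl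
  | succ n ih => rw [Function.iterate_succ_apply', Function.iterate_succ_apply', ih, map_inv]

theorem nrm_succ' (φ : G ≃* G) (n : ℕ) (x : G) : nrm φ (n + 1) x = x * φ (nrm φ n x) := by
  induction n with
  | zero => simp [nrm]
  | succ n ih =>
    calc nrm φ (n + 1 + 1) x = nrm φ (n + 1) x * (⇑φ)^[n + 1] x := rfl
      _ = x * φ (nrm φ n x) * (⇑φ)^[n + 1] x := by rw [ih]
      _ = x * (φ (nrm φ n x) * φ ((⇑φ)^[n] x)) := by
          rw [mul_assoc, Function.iterate_succ_apply']
      _ = x * φ (nrm φ n x * (⇑φ)^[n] x) := by rw [map_mul]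
      _ = x * φ (nrm φ (n + 1) x) := rfl

/-- `φ` is a splitting automorphism for the exponent `p` -/
def Split (p : ℕ) (φ : G ≃* G) : Prop := ∀ x : G, nrm φ p x = 1

theorem Split.iterate {p : ℕ} {φ : G ≃* G} (h : Split p φ) (x : G) : (⇑φ)^[p] x = x := by
  have h1 : nrm φ (p + 1) x = (⇑φ)^[p] x := by rw [nrm_succ, h x, one_mul]
  have h2 : nrm φ (p + 1) x = x := by rw [nrm_succ', h x, map_one, mul_one]
  rw [← h1, h2]

theorem nrm_of_fixed (φ : G ≃* G) {x : G} (hx : φ x = x) (n : ℕ) : nrm φ n x = x ^ n := by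
  induction n with
  | zero => simp [nrm]
  | succ n ih => rw [nrm_succ, ih, Function.iterate_fixed hx, pow_succ]

theorem Split.pow_eq_one {p : ℕ} {φ : G ≃* G} (h : Split p φ) {x : G} (hx : φ x = x) :
    x ^ p = 1 := by
  rw [← nrm_of_fixed φ hx, h x]

theorem iter_conj (φ : G ≃* G) (g : G) (n : ℕ) (x : G) :
    (⇑(MulAut.conj g * φ : G ≃* G))^[n] x = nrm φ n g * (⇑φ)^[n] x * (nrm φ n g)⁻¹ := by
  induction n generalizing x with
  | zero => simp [nrm]
  | succ n ih =>
    rw [Function.iterate_succ_apply, ih, MulAut.mul_apply, MulAut.conj_apply, iter_mul, iter_mul,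
      iter_inv, ← Function.iterate_succ_apply (⇑φ) n x, nrm_succ]
    group

theorem nrm_conj (φ : G ≃* G) (g : G) (n : ℕ) (x : G) :
    nrm (MulAut.conj g * φ : G ≃* G) n x = nrm φ n (x * g) * (nrm φ n g)⁻¹ := by
  induction n with
  | zero => simp [nrm]
  | succ n ih =>
    rw [nrm_succ (MulAut.conj g * φ : G ≃* G) n x, ih, iter_conj, nrm_succ φ n (x * g),
      nrm_succ φ n g, iter_mul]
    group

theorem Split.conj {p : ℕ} {φ : G ≃* G} (h : Split p φ) (g : G) :
    Split p (MulAut.conj g * φ : G ≃* G) := by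
  intro x
  rw [nrm_conj, h, h, inv_one, mul_one]

theorem nrm_tele (φ : G ≃* G) (z : G) (n : ℕ) :
    nrm φ n (z⁻¹ * φ z) = z⁻¹ * (⇑φ)^[n] z := by
  induction n with
  | zero => simp [nrm]
  | succ n ih =>
    rw [nrm_succ, ih, iter_mul, iter_inv, ← Function.iterate_succ_apply (⇑φ) n z]
    group

theorem iter_coe_of_comm {H : Subgroup G} (f : H ≃* H) (F : G ≃* G)
    (hfF : ∀ v : H, ((f v : H) : G) = F v) (n : ℕ) (v : H) :
    (((⇑f)^[n] v : H) : G) = (⇑F)^[n] v := by
  induction n with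
  | zero => rfl
  | succ n ih => rw [Function.iterate_succ_apply', Function.iterate_succ_apply', hfF, ih]

theorem nrm_coe_of_comm {H : Subgroup G} (f : H ≃* H) (F : G ≃* G)
    (hfF : ∀ v : H, ((f v : H) : G) = F v) (n : ℕ) (v : H) :
    ((nrm f n v : H) : G) = nrm F n v := by
  induction n with
  | zero => rfl
  | succ n ih => rw [nrm_succ, nrm_succ, Subgroup.coe_mul, ih, iter_coe_of_comm f F hfF]

theorem Split.res {p : ℕ} {φ : G ≃* G} (h : Split p φ) (M : Subgroup G) (hM : Inv φ M) :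
    Split p (Fpf.res φ M hM) := by
  intro x
  apply Subtype.ext
  rw [nrm_coe_of_comm (Fpf.res φ M hM) φ (fun v => Fpf.res_coe φ M hM v), h]
  rfl

theorem nrm_quo (φ : G ≃* G) (N : Subgroup G) [N.Normal] (hN : Inv φ N) (n : ℕ) (x : G) :
    nrm (Fpf.quo φ N hN) n (x : G ⧸ N) = ((nrm φ n x : G) : G ⧸ N) := by
  induction n with
  | zero => rfl
  | succ n ih => rw [nrm_succ, nrm_succ, ih, quo_iterate, QuotientGroup.mk_mul]

theorem Split.quo {p : ℕ} {φ : G ≃* G} (h : Split p φ) (N : Subgroup G) [N.Normal]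
    (hN : Inv φ N) : Split p (Fpf.quo φ N hN) := by
  intro x
  obtain ⟨x, rfl⟩ := QuotientGroup.mk_surjective x
  rw [nrm_quo, h]
  rfl

theorem pow_apply_eq_iterate (α : MulAut G) (n : ℕ) (x : G) : (α ^ n) x = (⇑α)^[n] x := by
  induction n generalizing x with
  | zero => rfl
  | succ n ih => rw [pow_succ', MulAut.mul_apply, ih, Function.iterate_succ_apply']

theorem list_prod_eq_nrm (α : MulAut G) (n : ℕ) (x : G) :
    ((List.range n).map (fun i : ℕ => (α ^ i) x)).prod = nrm α n x := by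
  induction n with
  | zero => rfl
  | succ n ih =>
    rw [List.range_succ, List.map_append, List.prod_append, ih, List.map_singleton,
      List.prod_singleton, nrm_succ, ← pow_apply_eq_iterate]

/-- for a fixed-point-free automorphism `z ↦ z⁻¹ * τ z` is injective -/
theorem injective_of_fpf (τ : G ≃* G) (h : ∀ x : G, τ x = x → x = 1) :
    Function.Injective (fun z : G => z⁻¹ * τ z) := by
  intro a b hab
  simp only at hab
  have h1 : τ (b * a⁻¹) = b * a⁻¹ := by
    rw [map_mul, map_inv]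
    have h3 : b * (a⁻¹ * τ a) = b * (b⁻¹ * τ b) := by rw [hab]
    rw [mul_inv_cancel_left] at h3
    have h4 : b * a⁻¹ = (b * (a⁻¹ * τ a)) * (τ a)⁻¹ := by group
    rw [h4, h3]
  have h2 := h _ h1
  exact (mul_inv_eq_one.mp h2).symm

theorem iter_mod (σ : G ≃* G) (p : ℕ) (hσ : ∀ x : G, (⇑σ)^[p] x = x) (k : ℕ) (x : G) :
    (⇑σ)^[k] x = (⇑σ)^[k % p] x := by
  conv_lhs => rw [← Nat.div_add_mod k p]
  rw [Function.iterate_add_apply, Function.iterate_mul]
  exact Function.iterate_fixed (hσ _) _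

/-- the norm maps of a fixed-point-free automorphism of prime order are bijective -/
theorem nrm_bijective [Finite G] (σ : G ≃* G) (p : ℕ) (hp : p.Prime)
    (hσ : ∀ x : G, (⇑σ)^[p] x = x) (hfp : ∀ x : G, σ x = x → x = 1) (i : ℕ) (hi0 : 0 < i)
    (hip : i < p) : Function.Bijective (nrm σ i) := by
  have hsurj : Function.Surjective (fun z : G => z⁻¹ * σ z) :=
    Finite.surjective_of_injective (injective_of_fpf σ hfp)
  have hcop : Nat.Coprime i p :=
    Nat.Coprime.symm ((Nat.Prime.coprime_iff_not_dvd hp).2 (Nat.not_dvd_of_pos_of_lt hi0 hip))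
  obtain ⟨m, -, hm⟩ := Nat.exists_mul_mod_eq_one_of_coprime hcop hp.one_lt
  have hfpi : ∀ x : G, ((σ : MulAut G) ^ i) x = x → x = 1 := by
    intro x hx
    rw [pow_apply_eq_iterate] at hx
    apply hfp
    have h1 : ((⇑σ)^[i])^[m] x = x := Function.iterate_fixed hx m
    rw [← Function.iterate_mul, iter_mod σ p hσ, hm] at h1
    exact h1
  have hinj : Function.Injective (nrm σ i) := by
    intro y y' hyy
    obtain ⟨z, rfl⟩ := hsurj y
    obtain ⟨z', rfl⟩ := hsurj y'
    simp only at hyy ⊢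
    rw [nrm_tele, nrm_tele, ← pow_apply_eq_iterate, ← pow_apply_eq_iterate] at hyy
    have := injective_of_fpf ((σ : MulAut G) ^ i) hfpi hyy
    rw [this]
  exact Finite.injective_iff_bijective.1 hinj

/-- an automorphism of `p`-power order of a nontrivial `p`-group has a nontrivial fixed point -/
theorem exists_fixed_ne_one [Finite G] (σ : G ≃* G) (p : ℕ) [hp : Fact p.Prime]
    (hσ : ∀ x : G, (⇑σ)^[p] x = x) (hG : IsPGroup p G) [Nontrivial G] :
    ∃ z : G, z ≠ 1 ∧ σ z = z := by
  classical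
  let _ := Fintype.ofFinite G
  let f : Function.End G := ⇑σ
  have h3 : (f ^ p : G → G) = (⇑σ)^[p] :=
    hom_coe_pow (fun g : Function.End G => g) rfl (fun _ _ => rfl) f p
  have hf : f ^ p ^ 1 = 1 := by
    rw [pow_one]
    exact h3.trans (funext hσ)
  have hmod := Equiv.Perm.card_fixedPoints_modEq (f := f) (p := p) (n := 1) hf
  have hdvd : p ∣ Fintype.card G := by
    obtain ⟨k, hk⟩ := IsPGroup.iff_card.1 hG
    rw [← Nat.card_eq_fintype_card, hk]
    have hk0 : k ≠ 0 := by
      rintro rfl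
      rw [pow_zero] at hk
      exact absurd hk (Finite.one_lt_card (α := G)).ne'
    exact dvd_pow_self p hk0
  have hdvd2 : p ∣ Fintype.card (Function.fixedPoints f) :=
    (Nat.modEq_zero_iff_dvd.1 ((hmod.symm).trans (Nat.modEq_zero_iff_dvd.2 hdvd)))
  have hone : (1 : G) ∈ Function.fixedPoints f := map_one σ
  have hlt : 1 < Fintype.card (Function.fixedPoints f) := by
    have hpos : 0 < Fintype.card (Function.fixedPoints f) := Fintype.card_pos_iff.2 ⟨⟨1, hone⟩⟩
    have h4 := Nat.le_of_dvd hpos hdvd2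
    have h5 := hp.out.two_le
    omega
  obtain ⟨⟨z, hz⟩, hne⟩ := Fintype.exists_ne_of_one_lt_card hlt ⟨1, hone⟩
  refine ⟨z, ?_, hz⟩
  intro h
  apply hne
  exact Subtype.ext h

end Norm

section Ring

variable {R : Type*} [Ring R]

theorem ring_key1 (ψ ζ : R) (p : ℕ) (hp : p.Prime) (hc : Commute ζ ψ) (hζ : ζ ^ p = 1)
    (hS : ∀ k < p, ∑ j ∈ Finset.range p, (ζ ^ k * ψ) ^ j = 0) : (ζ - 1) * (p : R) = 0 := by
  have h1 : ∑ j ∈ Finset.range p, ∑ k ∈ Finset.range p, (ζ ^ j) ^ k * ψ ^ j = 0 := by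
    rw [Finset.sum_comm]
    apply Finset.sum_eq_zero
    intro k hk
    rw [← hS k (Finset.mem_range.1 hk)]
    apply Finset.sum_congr rfl
    intro j _
    rw [(hc.pow_left k).mul_pow, ← pow_mul, ← pow_mul, mul_comm j k]
  have h2 : ∀ j ∈ Finset.range p, j ≠ 0 →
      (ζ - 1) * ∑ k ∈ Finset.range p, (ζ ^ j) ^ k = 0 := by
    intro j hj hj0
    have hjp : j < p := Finset.mem_range.1 hj
    have h3 : (ζ ^ j - 1) * ∑ k ∈ Finset.range p, (ζ ^ j) ^ k = 0 := by
      rw [mul_geom_sum, ← pow_mul, mul_comm j p, pow_mul, hζ, one_pow, sub_self]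
    have h4 : ζ ^ j * ∑ k ∈ Finset.range p, (ζ ^ j) ^ k = ∑ k ∈ Finset.range p, (ζ ^ j) ^ k := by
      have h := h3
      rw [sub_mul, one_mul] at h
      exact sub_eq_zero.1 h
    have h5 : ∀ m : ℕ, (ζ ^ j) ^ m * ∑ k ∈ Finset.range p, (ζ ^ j) ^ k
        = ∑ k ∈ Finset.range p, (ζ ^ j) ^ k := by
      intro m
      induction m with
      | zero => rw [pow_zero, one_mul]
      | succ m ih => rw [pow_succ, mul_assoc, h4, ih]
    have hcop : Nat.Coprime j p :=
      Nat.Coprime.symm ((Nat.Prime.coprime_iff_not_dvd hp).2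
        (Nat.not_dvd_of_pos_of_lt (Nat.pos_of_ne_zero hj0) hjp))
    obtain ⟨m, -, hm⟩ := Nat.exists_mul_mod_eq_one_of_coprime hcop hp.one_lt
    have h6 : (ζ ^ j) ^ m = ζ := by
      rw [← pow_mul, pow_eq_pow_mod (j * m) hζ, hm, pow_one]
    have h7 := h5 m
    rw [h6] at h7
    rw [sub_mul, one_mul, h7, sub_self]
  have h8 : (ζ - 1) * ∑ j ∈ Finset.range p, (∑ k ∈ Finset.range p, (ζ ^ j) ^ k) * ψ ^ j = 0 := by
    have h9 : ∑ j ∈ Finset.range p, (∑ k ∈ Finset.range p, (ζ ^ j) ^ k) * ψ ^ j = 0 := by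
      rw [← h1]
      apply Finset.sum_congr rfl
      intro j _
      rw [Finset.sum_mul]
    rw [h9, mul_zero]
  rw [Finset.mul_sum, Finset.sum_eq_single 0] at h8
  · simpa using h8
  · intro j hj hj0
    rw [← mul_assoc, h2 j hj hj0, zero_mul]
  · intro h0
    exact absurd (Finset.mem_range.2 hp.pos) h0

theorem ring_key2 {P : Type*} [Group P] [Fintype P] (a : P →* R) (Ψ : R) (σ : P ≃* P) (p : ℕ)
    (hp : 0 < p) (hrel : ∀ y : P, Ψ * a y = a (σ y) * Ψ)
    (hbij : ∀ i, 0 < i → i < p → Function.Bijective (nrm σ i))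
    (hS : ∀ y : P, ∑ i ∈ Finset.range p, (a y * Ψ) ^ i = 0) (u : P) :
    (a u - 1) * (Fintype.card P : R) = 0 := by
  have hrel' : ∀ (i : ℕ) (y : P), Ψ ^ i * a y = a ((⇑σ)^[i] y) * Ψ ^ i := by
    intro i
    induction i with
    | zero => intro y; simp
    | succ i ih =>
      intro y
      calc Ψ ^ (i + 1) * a y = Ψ ^ i * (Ψ * a y) := by rw [pow_succ, mul_assoc]
        _ = Ψ ^ i * a (σ y) * Ψ := by rw [hrel, mul_assoc]
        _ = a ((⇑σ)^[i] (σ y)) * Ψ ^ i * Ψ := by rw [ih]
        _ = a ((⇑σ)^[i + 1] y) * Ψ ^ (i + 1) := by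
            rw [Function.iterate_succ_apply, pow_succ, mul_assoc]
  have hpow : ∀ (y : P) (i : ℕ), (a y * Ψ) ^ i = a (nrm σ i y) * Ψ ^ i := by
    intro y i
    induction i with
    | zero => simp [nrm]
    | succ i ih =>
      calc (a y * Ψ) ^ (i + 1) = (a y * Ψ) ^ i * (a y * Ψ) := pow_succ _ _
        _ = a (nrm σ i y) * Ψ ^ i * (a y * Ψ) := by rw [ih]
        _ = a (nrm σ i y) * (Ψ ^ i * a y) * Ψ := by simp only [mul_assoc]
        _ = a (nrm σ i y) * (a ((⇑σ)^[i] y) * Ψ ^ i) * Ψ := by rw [hrel']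
        _ = a (nrm σ i y * (⇑σ)^[i] y) * (Ψ ^ i * Ψ) := by
            rw [map_mul]; simp only [mul_assoc]
        _ = a (nrm σ (i + 1) y) * Ψ ^ (i + 1) := by rw [pow_succ]; rfl
  have h1 : ∑ i ∈ Finset.range p, (∑ y : P, a (nrm σ i y)) * Ψ ^ i = 0 := by
    have h0 : ∑ y : P, ∑ i ∈ Finset.range p, (a y * Ψ) ^ i = 0 :=
      Finset.sum_eq_zero (fun y _ => hS y)
    rw [Finset.sum_comm] at h0
    rw [← h0]
    apply Finset.sum_congr rfl
    intro i _
    rw [Finset.sum_mul]
    apply Finset.sum_congr rfl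
    intro y _
    rw [hpow]
  have h2 : (a u - 1) * ∑ i ∈ Finset.range p, (∑ y : P, a (nrm σ i y)) * Ψ ^ i = 0 := by
    rw [h1, mul_zero]
  rw [Finset.mul_sum, Finset.sum_eq_single 0] at h2
  · simpa [nrm] using h2
  · intro i hi hi0
    have hb := hbij i (Nat.pos_of_ne_zero hi0) (Finset.mem_range.1 hi)
    have h3 : ∑ y : P, a (nrm σ i y) = ∑ w : P, a w := hb.sum_comp (fun w => a w)
    have h4 : a u * ∑ w : P, a w = ∑ w : P, a w := by
      rw [Finset.mul_sum]
      have h5 : ∑ w : P, a u * a w = ∑ w : P, a (u * w) := by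
        apply Finset.sum_congr rfl
        intro w _
        rw [map_mul]
      rw [h5]
      exact (Group.mulLeft_bijective u).sum_comp (fun w => a w)
    rw [← mul_assoc, h3, sub_mul, one_mul, h4, sub_self, zero_mul]
  · intro h0
    exact absurd (Finset.mem_range.2 hp) h0

end Ring

section EndLemmas

variable {A : Type*} [CommGroup A]

theorem end_add_apply {M : Type*} [AddCommGroup M] (f g : AddMonoid.End M) (w : M) :
    (f + g) w = f w + g w := rfl

/-- `endOfAut` as a monoid homomorphism -/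
def endOfAutHom : MulAut A →* AddMonoid.End (Additive A) where
  toFun := endOfAut
  map_one' := endOfAut_one
  map_mul' := endOfAut_mul

theorem endOfAutHom_apply (f : MulAut A) : endOfAutHom f = endOfAut f := rfl

theorem endOfAut_pow (f : MulAut A) (n : ℕ) : endOfAut (f ^ n) = endOfAut f ^ n := by
  rw [← endOfAutHom_apply, map_pow, endOfAutHom_apply]

theorem endOfAut_pow_apply (f : MulAut A) (n : ℕ) (w : Additive A) :
    (endOfAut f ^ n) w = Additive.ofMul ((⇑f)^[n] (Additive.toMul w)) := by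
  rw [← endOfAut_pow, endOfAut_apply, pow_apply_eq_iterate]

theorem sum_pow_endOfAut_apply (f : MulAut A) (n : ℕ) (w : Additive A) :
    (∑ j ∈ Finset.range n, endOfAut f ^ j) w
      = Additive.ofMul (nrm f n (Additive.toMul w)) := by
  induction n with
  | zero => rw [Finset.sum_range_zero, end_zero_apply, nrm_zero, ofMul_one]
  | succ n ih =>
    rw [Finset.sum_range_succ, end_add_apply, ih, endOfAut_pow_apply, nrm_succ, ofMul_mul]

theorem end_nat_mul_sub_one_apply (n : ℕ) (f : MulAut A) (x : A)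
    (h : (n : AddMonoid.End (Additive A)) * (endOfAut f - 1) = 0) : (f x * x⁻¹) ^ n = 1 := by
  have h1 := DFunLike.congr_fun h (Additive.ofMul x)
  rw [end_mul_apply, end_sub_apply, end_one_apply, end_zero_apply, AddMonoid.End.natCast_apply,
    endOfAut_apply, toMul_ofMul] at h1
  apply Additive.ofMul.injective
  rw [ofMul_pow, ofMul_mul, ofMul_inv, ofMul_one, ← sub_eq_add_neg]
  exact h1

end EndLemmas

section GroupLevel

variable {G : Type*} [Group G]

theorem nrm_conjNormal_res {p : ℕ} (ψ : G ≃* G) (hψ : Split p ψ) (V : Subgroup G) [V.Normal]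
    (hV : Inv ψ V) (g : G) (v : V) :
    nrm ((MulAut.conjNormal g : MulAut V) * Fpf.res ψ V hV : V ≃* V) p v = 1 := by
  have hfF : ∀ w : V, ((((MulAut.conjNormal g : MulAut V) * Fpf.res ψ V hV : V ≃* V) w : V) : G)
      = (MulAut.conj g * ψ : G ≃* G) w := by
    intro w
    rw [MulAut.mul_apply, MulAut.conjNormal_apply, Fpf.res_coe, MulAut.mul_apply,
      MulAut.conj_apply]
  apply Subtype.ext
  rw [nrm_coe_of_comm _ (MulAut.conj g * ψ : G ≃* G) hfF, hψ.conj g]
  rfl

theorem eq_one_of_pow_of_isPGroup {s m : ℕ} {V : Subgroup G} (hV : IsPGroup s V)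
    (hcop : Nat.Coprime s m) {x : G} (hx : x ∈ V) (hxm : x ^ m = 1) : x = 1 := by
  obtain ⟨k, hk⟩ := hV ⟨x, hx⟩
  have hk' : x ^ (s ^ k) = 1 := congrArg Subtype.val hk
  have h1 : orderOf x ∣ s ^ k := orderOf_dvd_of_pow_eq_one hk'
  have h2 : orderOf x ∣ m := orderOf_dvd_of_pow_eq_one hxm
  have h3 : Nat.Coprime (s ^ k) m := Nat.Coprime.pow_left k hcop
  have h4 : orderOf x = 1 := (Nat.Coprime.coprime_dvd_left h1 h3).eq_one_of_dvd h2
  exact orderOf_eq_one_iff.1 h4

/-- if `ψ` is splitting and fixes `z`, then the `p`-th power of every commutator of `z` with an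
element of the invariant abelian normal subgroup `V` is trivial -/
theorem comm_pow_eq_one_of_fixed {p : ℕ} (hp : p.Prime) (ψ : G ≃* G) (hψ : Split p ψ)
    (V : Subgroup G) [V.Normal] (hVc : ∀ u ∈ V, ∀ v ∈ V, u * v = v * u) (hV : Inv ψ V)
    (z : G) (hz : ψ z = z) (v : G) (hv : v ∈ V) : (z * v * z⁻¹ * v⁻¹) ^ p = 1 := by
  let _ : CommGroup V := { (inferInstance : Group V) with
    mul_comm := fun a b => Subtype.ext (hVc a a.2 b b.2) }
  set ζ : AddMonoid.End (Additive V) := endOfAut (MulAut.conjNormal z : MulAut V) with hζdef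
  set Ψ : AddMonoid.End (Additive V) := endOfAut (Fpf.res ψ V hV) with hΨdef
  have hzp : z ^ p = 1 := hψ.pow_eq_one hz
  have hcomm : Commute ζ Ψ := by
    show ζ * Ψ = Ψ * ζ
    rw [hζdef, hΨdef, ← endOfAut_mul, ← endOfAut_mul]
    congr 1
    apply MulEquiv.ext
    intro w
    apply Subtype.ext
    rw [MulAut.mul_apply, MulAut.mul_apply, MulAut.conjNormal_apply, Fpf.res_coe, Fpf.res_coe,
      MulAut.conjNormal_apply, map_mul, map_mul, map_inv, hz]
  have hζp : ζ ^ p = 1 := by
    rw [hζdef, ← endOfAut_pow, ← map_pow, hzp, map_one, endOfAut_one]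
  have hS : ∀ k < p, ∑ j ∈ Finset.range p, (ζ ^ k * Ψ) ^ j = 0 := by
    intro k _
    rw [hζdef, ← endOfAut_pow, ← map_pow, hΨdef, ← endOfAut_mul]
    apply AddMonoid.End.ext
    intro w
    have hn := nrm_conjNormal_res ψ hψ V hV (z ^ k) (Additive.toMul w)
    rw [sum_pow_endOfAut_apply]
    exact congrArg Additive.ofMul hn
  have key := ring_key1 Ψ ζ p hp hcomm hζp hS
  rw [← Nat.cast_comm] at key
  have h1 := end_nat_mul_sub_one_apply p (MulAut.conjNormal z : MulAut V) ⟨v, hv⟩ key
  exact congrArg Subtype.val h1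

/-- if `ψ` is splitting and fixed-point-free on the invariant subgroup `P`, then the
`|P|`-th power of every commutator of an element of `P` with an element of the invariant abelian
normal subgroup `V` is trivial -/
theorem comm_pow_card_eq_one [Finite G] {p : ℕ} (hp : p.Prime) (ψ : G ≃* G) (hψ : Split p ψ)
    (V : Subgroup G) [V.Normal] (hVc : ∀ u ∈ V, ∀ v ∈ V, u * v = v * u) (hV : Inv ψ V)
    (P : Subgroup G) (hP : Inv ψ P) (hfp : ∀ x ∈ P, ψ x = x → x = 1)
    (u : G) (hu : u ∈ P) (v : G) (hv : v ∈ V) : (u * v * u⁻¹ * v⁻¹) ^ Nat.card P = 1 := by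
  classical
  let _ : CommGroup V := { (inferInstance : Group V) with
    mul_comm := fun a b => Subtype.ext (hVc a a.2 b b.2) }
  let _ : Fintype P := Fintype.ofFinite P
  let a : P →* AddMonoid.End (Additive V) :=
    (endOfAutHom (A := V)).comp ((MulAut.conjNormal (H := V)).comp P.subtype)
  have ha : ∀ y : P, a y = endOfAut (MulAut.conjNormal (y : G) : MulAut V) := fun _ => rfl
  set Ψ : AddMonoid.End (Additive V) := endOfAut (Fpf.res ψ V hV) with hΨdef
  let σ : P ≃* P := Fpf.res ψ P hP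
  have hσp : ∀ x : P, (⇑σ)^[p] x = x := (hψ.res P hP).iterate
  have hσfp : ∀ x : P, σ x = x → x = 1 := by
    intro x hx
    apply Subtype.ext
    exact hfp x x.2 (congrArg Subtype.val hx)
  have hrel : ∀ y : P, Ψ * a y = a (σ y) * Ψ := by
    intro y
    rw [ha, ha, hΨdef, ← endOfAut_mul, ← endOfAut_mul]
    congr 1
    apply MulEquiv.ext
    intro w
    apply Subtype.ext
    rw [MulAut.mul_apply, MulAut.mul_apply, Fpf.res_coe, MulAut.conjNormal_apply,
      MulAut.conjNormal_apply, Fpf.res_coe, map_mul, map_mul, map_inv]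
    rfl
  have hS : ∀ y : P, ∑ i ∈ Finset.range p, (a y * Ψ) ^ i = 0 := by
    intro y
    rw [ha, hΨdef, ← endOfAut_mul]
    apply AddMonoid.End.ext
    intro w
    have hn := nrm_conjNormal_res ψ hψ V hV (y : G) (Additive.toMul w)
    rw [sum_pow_endOfAut_apply]
    exact congrArg Additive.ofMul hn
  have key := ring_key2 a Ψ σ p hp.pos hrel
    (fun i hi0 hip => nrm_bijective σ p hp hσp hσfp i hi0 hip) hS ⟨u, hu⟩
  rw [← Nat.cast_comm, ha] at key
  have h1 := end_nat_mul_sub_one_apply (Fintype.card P) (MulAut.conjNormal u : MulAut V)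
    ⟨v, hv⟩ key
  rw [← Nat.card_eq_fintype_card] at h1
  exact congrArg Subtype.val h1

open Pointwise in
/-- some conjugate-twist of `φ` leaves a given Sylow subgroup invariant -/
theorem exists_conj_inv [Finite G] (φ : G ≃* G) {r : ℕ} [Fact r.Prime] (P : Sylow r G) :
    ∃ g : G, Inv (MulAut.conj g * φ : G ≃* G) (P : Subgroup G) := by
  have hcard : Nat.card ((P : Subgroup G).map φ.toMonoidHom)
      = r ^ (Nat.card G).factorization r := by
    rw [Subgroup.card_map_of_injective φ.injective]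
    exact P.card_eq_multiplicity
  obtain ⟨g, hg⟩ := MulAction.exists_smul_eq G (Sylow.ofCard _ hcard) P
  refine ⟨g, ?_⟩
  have h3 : MulAut.conj g • ((Sylow.ofCard _ hcard : Sylow r G) : Subgroup G)
      = (P : Subgroup G) := congrArg (fun R : Sylow r G => (R : Subgroup G)) hg
  have hle : (P : Subgroup G).map (MulAut.conj g * φ : G ≃* G).toMonoidHom
      ≤ (P : Subgroup G) := by
    rintro _ ⟨x, hx, rfl⟩
    have h1 : φ x ∈ ((Sylow.ofCard _ hcard : Sylow r G) : Subgroup G) :=
      Subgroup.mem_map_of_mem _ hx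
    have h2 : MulAut.conj g • φ x
        ∈ MulAut.conj g • ((Sylow.ofCard _ hcard : Sylow r G) : Subgroup G) :=
      Subgroup.smul_mem_pointwise_smul _ _ _ h1
    rw [h3] at h2
    exact h2
  exact Subgroup.eq_of_le_of_card_ge hle
    (le_of_eq (Subgroup.card_map_of_injective (MulAut.conj g * φ : G ≃* G).injective).symm)

/-- a nontrivial nilpotent normal subgroup forces some `O_s(G) ≠ 1` -/
theorem exists_pCore_ne_bot [Finite G] (K : Subgroup G) [hKn : K.Normal]
    (hK : Group.IsNilpotent K) (hK1 : K ≠ ⊥) : ∃ s : ℕ, s.Prime ∧ Cfsg.pCore s G ≠ ⊥ := by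
  have hcard1 : Nat.card K ≠ 1 := by
    rw [Ne, Subgroup.card_eq_one]
    exact hK1
  obtain ⟨q, hq, hqdvd⟩ := Nat.exists_prime_and_dvd hcard1
  have hqf : Fact q.Prime := ⟨hq⟩
  have Q₀ : Sylow q K := default
  have hQ₀n : (Q₀ : Subgroup K).Normal := inferInstance
  have hQ₀c : (Q₀ : Subgroup K).Characteristic := Sylow.characteristic_of_normal Q₀ hQ₀n
  have hQmn : ((Q₀ : Subgroup K).map K.subtype).Normal :=
    ConjAct.normal_of_characteristic_of_normal
  have hQmq : IsPGroup q ((Q₀ : Subgroup K).map K.subtype) := Q₀.2.map _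
  have hQm1 : (Q₀ : Subgroup K).map K.subtype ≠ ⊥ := by
    intro hb
    apply Q₀.ne_bot_of_dvd_card hqdvd
    rw [eq_bot_iff]
    intro z hz
    have : (z : G) ∈ (Q₀ : Subgroup K).map K.subtype := Subgroup.mem_map_of_mem _ hz
    rw [hb, Subgroup.mem_bot] at this
    rw [Subgroup.mem_bot]
    exact Subtype.ext this
  refine ⟨q, hq, ?_⟩
  intro hb
  apply hQm1
  rw [eq_bot_iff, ← hb]
  exact Cfsg.H5.le_pCore hQmn hQmq

theorem card_of_sup_eq_top [Finite G] {r s : ℕ} [Fact r.Prime] [Fact s.Prime]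
    {V P : Subgroup G} [V.Normal] (h : V ⊔ P = ⊤) (hV : IsPGroup s V) (hP : IsPGroup r P) :
    ∃ a b : ℕ, Nat.card G = r ^ a * s ^ b := by
  obtain ⟨c, hc⟩ := IsPGroup.iff_card.1 hP
  obtain ⟨b, hb⟩ := IsPGroup.iff_card.1 hV
  have h1 : V.relIndex P ∣ r ^ c := by
    rw [← hc]
    exact Subgroup.relIndex_dvd_card V P
  have h2 : V.index = V.relIndex P := by
    rw [← Subgroup.relIndex_top_right, ← h, Subgroup.relIndex_sup_left]
  obtain ⟨a, _, ha⟩ := (Nat.dvd_prime_pow (Fact.out : r.Prime)).1 h1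
  refine ⟨a, b, ?_⟩
  rw [← Subgroup.index_mul_card V, h2, ha, hb]

end GroupLevel

section Main

/-- Kegel's theorem, by induction on the order, from the Glauberman–Thompson hypothesis. -/
theorem kegel_aux (hGT : GTHyp.{u}) (p : ℕ) (hp : p.Prime) :
    ∀ (n : ℕ) (G : Type u) [Group G] [Finite G], Nat.card G = n → ∀ φ : G ≃* G,
      Split p φ → Group.IsNilpotent G := by
  intro n
  induction n using Nat.strong_induction_on with
  | _ n ih =>
  intro G _ _ hcard φ hφ
  classical
  by_contra hnil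
  have hpf : Fact p.Prime := ⟨hp⟩
  have hsub : ∀ ψ : G ≃* G, Split p ψ → ∀ M : Subgroup G, Inv ψ M → M ≠ ⊤ →
      Group.IsNilpotent M := by
    intro ψ hψ M hM hMtop
    have hlt : Nat.card M < n := by
      rw [← hcard]
      refine lt_of_le_of_ne (Subgroup.card_le_card_group M) ?_
      intro heq
      exact hMtop (Subgroup.eq_top_of_card_eq M heq)
    exact ih _ hlt M rfl (Fpf.res ψ M hM) (hψ.res M hM)
  have hquo : ∀ ψ : G ≃* G, Split p ψ → ∀ (N : Subgroup G) [N.Normal], Inv ψ N → N ≠ ⊥ →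
      Group.IsNilpotent (G ⧸ N) := by
    intro ψ hψ N _ hN hN1
    have hlt : Nat.card (G ⧸ N) < n := by
      rw [← hcard, Subgroup.card_eq_card_quotient_mul_card_subgroup N]
      have h1 : 1 < Nat.card N := by
        have h2 : Nat.card N ≠ 1 := by
          rw [Ne, Subgroup.card_eq_one]
          exact hN1
        have h3 : 0 < Nat.card N := Nat.card_pos
        omega
      have h4 : 0 < Nat.card (G ⧸ N) := Nat.card_pos
      nlinarith
    exact ih _ hlt (G ⧸ N) rfl (Fpf.quo ψ N hN) (hψ.quo N hN)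
  -- Step A: some `O_s(G)` is nontrivial
  have hcore : ∃ s : ℕ, s.Prime ∧ Cfsg.pCore s G ≠ ⊥ := by
    by_cases hodd : ∃ q : ℕ, q.Prime ∧ q ≠ 2 ∧ q ∣ Nat.card G
    · obtain ⟨q, hq, hq2, hqdvd⟩ := hodd
      have hqf : Fact q.Prime := ⟨hq⟩
      have Q₀ : Sylow q G := default
      obtain ⟨ψ, hψ, hQ⟩ : ∃ ψ : G ≃* G, Split p ψ ∧ Inv ψ (Q₀ : Subgroup G) := by
        obtain ⟨g, hg⟩ := exists_conj_inv φ Q₀
        exact ⟨_, hφ.conj g, hg⟩
      have hQ1 : (Q₀ : Subgroup G) ≠ ⊥ := Q₀.ne_bot_of_dvd_card hqdvd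
      set W : Subgroup G := Z 0 (Q₀ : Subgroup G) with hW
      have hWinv : Inv ψ W := by
        unfold Fpf.Inv
        rw [hW, Z_map, hQ]
      have hW1 : W ≠ ⊥ := Z_ne_bot _ Q₀.2 hQ1
      have hWq : IsPGroup q W := Q₀.2.to_le Z_le
      by_cases hM : Subgroup.normalizer (W : Set G) = ⊤
      · have hWn : W.Normal := Subgroup.normalizer_eq_top_iff.1 hM
        refine ⟨q, hq, ?_⟩
        intro hb
        apply hW1
        rw [eq_bot_iff, ← hb]
        exact Cfsg.H5.le_pCore hWn hWq
      · have hMnil : Group.IsNilpotent (Subgroup.normalizer (W : Set G)) :=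
          hsub ψ hψ _ hWinv.normalizer hM
        have h1 : Cfsg.HasNormalPComplement q ↥(Subgroup.normalizer (W : Set G)) :=
          hasNormalPComplement_of_isNilpotent q
        have h2 : Cfsg.HasNormalPComplement q G := hGT G q hq2 Q₀ h1
        obtain ⟨K, hKn, hKcop, k, hKk⟩ :=
          Cfsg.Agent.Lib.Helper13.hasNormalPComplement_iff_exists.1 h2
        have hKinv : Inv ψ K := by
          have hle : K.map ψ.toMonoidHom ≤ K := by
            rintro _ ⟨x, hx, rfl⟩
            apply Cfsg.Agent.Lib.Helper13.mem_of_coprime_of_index_pow K hKk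
            have h3 : orderOf (ψ.toMonoidHom x) = orderOf x :=
              orderOf_injective ψ.toMonoidHom ψ.injective x
            rw [h3]
            have h4 : orderOf x ∣ Nat.card K := by
              have : orderOf (⟨x, hx⟩ : K) ∣ Nat.card K := orderOf_dvd_natCard _
              rwa [Subgroup.orderOf_mk] at this
            exact Nat.Coprime.coprime_dvd_left h4 hKcop
          exact Subgroup.eq_of_le_of_card_ge hle
            (le_of_eq (Subgroup.card_map_of_injective ψ.injective).symm)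
        have hKtop : K ≠ ⊤ := by
          intro ht
          have h3 : Nat.card K = Nat.card G := by
            rw [ht]
            exact Subgroup.card_top
          rw [h3] at hKcop
          exact (Nat.Prime.coprime_iff_not_dvd hq).1 hKcop.symm hqdvd
        have hKnil : Group.IsNilpotent K := hsub ψ hψ K hKinv hKtop
        by_cases hK1 : K = ⊥
        · exfalso
          apply hnil
          have hqG : IsPGroup q G := by
            apply IsPGroup.of_card (n := k)
            rw [← hKk, hK1, Subgroup.index_bot]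
          exact hqG.isNilpotent
        · exact exists_pCore_ne_bot K hKnil hK1
    · push Not at hodd
      exfalso
      apply hnil
      have h2 : Nat.card G = 2 ^ (Nat.card G).primeFactorsList.length := by
        apply Nat.eq_prime_pow_of_unique_prime_dvd Nat.card_pos.ne'
        intro d hd hdvd
        by_contra hne
        exact hodd d hd hne hdvd
      have h2g : IsPGroup 2 G := IsPGroup.of_card h2
      exact h2g.isNilpotent
  obtain ⟨s, hs, hQ1⟩ := hcore
  have hsf : Fact s.Prime := ⟨hs⟩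
  -- a non-normal Sylow subgroup, invariant under a twist of `φ`
  have h1 : ¬ ∀ (r : ℕ) (_hr : Fact r.Prime) (P : Sylow r G), (P : Subgroup G).Normal :=
    fun h => hnil ((Group.isNilpotent_of_finite_tfae (G := G)).out 0 3 |>.2 h)
  push Not at h1
  obtain ⟨r, hrf, P, hPn⟩ := h1
  obtain ⟨ψ, hψ, hP⟩ : ∃ ψ : G ≃* G, Split p ψ ∧ Inv ψ (P : Subgroup G) := by
    obtain ⟨g, hg⟩ := exists_conj_inv φ P
    exact ⟨_, hφ.conj g, hg⟩
  have hsubψ := hsub ψ hψ
  have hquoψ := hquo ψ hψ
  set Q : Subgroup G := Cfsg.pCore s G with hQdef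
  have hQn : Q.Normal := Cfsg.H5.pCore_normal s G
  have hQs : IsPGroup s Q := Cfsg.H5.pCore_isPGroup s G
  have hQchar : Q.Characteristic := Cfsg.H5.pCore_characteristic s G
  have hQinv : Inv ψ Q := inv_of_characteristic ψ Q
  have hQP : Q ⊔ (P : Subgroup G) = ⊤ := sup_sylow_eq_top ψ hsubψ hquoψ P hP hPn Q hQinv hQ1
  have hrs : r ≠ s := by
    intro hrs
    have hQr : IsPGroup r Q := by rw [hrs]; exact hQs
    have hQleP : Q ≤ (P : Subgroup G) := hQr.le_sylow_of_normal P
    rw [sup_of_le_right hQleP] at hQP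
    apply hPn
    rw [hQP]
    infer_instance
  -- `V = Z(Q)`
  set V : Subgroup G := Q ⊓ Subgroup.centralizer (Q : Set G) with hVdef
  have hVn : V.Normal := Subgroup.normal_inf_normal Q _
  have hVinv : Inv ψ V := hQinv.inf hQinv.centralizer
  have hVs : IsPGroup s V := hQs.to_le inf_le_left
  have hVc : ∀ u ∈ V, ∀ v ∈ V, u * v = v * u := by
    intro u hu v hv
    exact (Subgroup.mem_centralizer_iff.1 (Subgroup.mem_inf.1 hv).2 u (Subgroup.mem_inf.1 hu).1)
  have hV1 : V ≠ ⊥ := by
    have hQnt : Nontrivial Q := (Subgroup.nontrivial_iff_ne_bot Q).2 hQ1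
    have hcnt : Nontrivial (Subgroup.center Q) := hQs.center_nontrivial
    obtain ⟨z, hz⟩ := exists_ne (1 : Subgroup.center Q)
    intro hb
    apply hz
    have hzV : ((z : Q) : G) ∈ V := by
      refine Subgroup.mem_inf.2 ⟨(z : Q).2, ?_⟩
      rw [Subgroup.mem_centralizer_iff]
      intro x hx
      have := Subgroup.mem_center_iff.1 z.2 ⟨x, hx⟩
      exact congrArg Subtype.val this
    rw [hb, Subgroup.mem_bot] at hzV
    exact Subtype.ext (Subtype.ext hzV)
  have hVP : V ⊔ (P : Subgroup G) = ⊤ := sup_sylow_eq_top ψ hsubψ hquoψ P hP hPn V hVinv hV1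
  obtain ⟨a, b, hab⟩ := card_of_sup_eq_top hVP hVs P.2
  have hpdvd : p ∣ Nat.card G → p = r ∨ p = s := by
    intro h
    rw [hab] at h
    rcases (Nat.Prime.dvd_mul hp).1 h with h | h
    · left
      exact (Nat.prime_dvd_prime_iff_eq hp hrf.out).1 (hp.dvd_of_dvd_pow h)
    · right
      exact (Nat.prime_dvd_prime_iff_eq hp hs).1 (hp.dvd_of_dvd_pow h)
  have hcommfix : ∀ (z v : G), v ∈ V → z * v * z⁻¹ * v⁻¹ = 1 → v * z = z * v := by
    intro z v _ h
    calc v * z = (z * v * z⁻¹ * v⁻¹)⁻¹ * (z * v) := by group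
      _ = z * v := by rw [h, inv_one, one_mul]
  by_cases hpr : p = r
  · -- the non-normal Sylow subgroup is a `p`-group
    have hps : p ≠ s := fun h => hrs (hpr.symm.trans h)
    have hPp : IsPGroup p (P : Subgroup G) := by rw [hpr]; exact P.2
    have hP1 : (P : Subgroup G) ≠ ⊥ := by
      intro hb
      apply hPn
      rw [hb]
      infer_instance
    have hPnt : Nontrivial (P : Subgroup G) := (Subgroup.nontrivial_iff_ne_bot _).2 hP1
    obtain ⟨z, hz1, hzfix⟩ := exists_fixed_ne_one (Fpf.res ψ (P : Subgroup G) hP) p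
      (hψ.res _ hP).iterate hPp
    have hzG : ψ (z : G) = z := congrArg Subtype.val hzfix
    have hzcent : (z : G) ∈ Subgroup.centralizer (V : Set G) := by
      rw [Subgroup.mem_centralizer_iff]
      intro v hv
      have h1 := comm_pow_eq_one_of_fixed hp ψ hψ V hVc hVinv (z : G) hzG v hv
      have hxV : (z : G) * v * (z : G)⁻¹ * v⁻¹ ∈ V :=
        V.mul_mem (hVn.conj_mem v hv z) (V.inv_mem hv)
      have hx1 : (z : G) * v * (z : G)⁻¹ * v⁻¹ = 1 :=
        eq_one_of_pow_of_isPGroup hVs ((Nat.coprime_primes hs hp).2 (Ne.symm hps)) hxV h1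
      exact hcommfix _ _ hv hx1
    have hNn : ((P : Subgroup G) ⊓ Subgroup.centralizer (V : Set G)).Normal := by
      apply normal_of_sup_eq_top hVP
      · refine le_trans ?_ (Subgroup.centralizer_le_normalizer _)
        rw [Subgroup.le_centralizer_iff]
        exact inf_le_right
      · refine (le_inf Subgroup.le_normalizer ?_).trans (Cfsg.H5.ZJ.normalizer_inf_le _ _)
        rw [Subgroup.normalizer_eq_top_iff.2 inferInstance]
        exact le_top
    have hNbot := eq_bot_of_le_normalizer ψ hsubψ hquoψ P hP hPn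
      ((P : Subgroup G) ⊓ Subgroup.centralizer (V : Set G)) (hP.inf hVinv.centralizer)
      (inf_le_left.trans Subgroup.le_normalizer)
    have hzN : (z : G) ∈ (P : Subgroup G) ⊓ Subgroup.centralizer (V : Set G) :=
      Subgroup.mem_inf.2 ⟨z.2, hzcent⟩
    rw [hNbot, Subgroup.mem_bot] at hzN
    exact hz1 (Subtype.ext hzN)
  · by_cases hps : p = s
    · -- `V` is a `p`-group and `ψ` is fixed-point-free on `P`
      have hfpP : ∀ x ∈ (P : Subgroup G), ψ x = x → x = 1 := by
        intro x hx hfix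
        have hxp : x ^ p = 1 := hψ.pow_eq_one hfix
        exact eq_one_of_pow_of_isPGroup P.2
          ((Nat.coprime_primes hrf.out hp).2 (Ne.symm hpr)) hx hxp
      obtain ⟨c, hc⟩ := IsPGroup.iff_card.1 P.2
      have hPcent : (P : Subgroup G) ≤ Subgroup.centralizer (V : Set G) := by
        intro u hu
        rw [Subgroup.mem_centralizer_iff]
        intro v hv
        have h1 := comm_pow_card_eq_one hp ψ hψ V hVc hVinv (P : Subgroup G) hP hfpP u hu v hv
        rw [hc] at h1
        have hxV : u * v * u⁻¹ * v⁻¹ ∈ V :=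
          V.mul_mem (hVn.conj_mem v hv u) (V.inv_mem hv)
        have hx1 : u * v * u⁻¹ * v⁻¹ = 1 :=
          eq_one_of_pow_of_isPGroup hVs
            (Nat.Coprime.pow_right c ((Nat.coprime_primes hs hrf.out).2 (Ne.symm hrs))) hxV h1
        exact hcommfix _ _ hv hx1
      have hVcent : V ≤ Subgroup.centralizer ((P : Subgroup G) : Set G) :=
        Subgroup.le_centralizer_iff.1 hPcent
      have hVbot := eq_bot_of_le_normalizer ψ hsubψ hquoψ P hP hPn V hVinv
        (hVcent.trans (Subgroup.centralizer_le_normalizer _))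
      exact hV1 hVbot
    · -- `ψ` is fixed-point-free
      have hfpf : MonoidHom.FixedPointFree (ψ : G →* G) := by
        intro x hx
        have hfix : ψ x = x := hx
        have hxp : x ^ p = 1 := hψ.pow_eq_one hfix
        by_contra hx1
        have hord : orderOf x = p := orderOf_eq_prime hxp hx1
        have hdvd : p ∣ Nat.card G := by
          rw [← hord]
          exact orderOf_dvd_natCard x
        rcases hpdvd hdvd with h | h
        · exact hpr h
        · exact hps h
      exact hnil (thompson_aux hGT p hp _ G rfl ψ hfpf hψ.iterate)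

/-- Kegel's theorem from the Glauberman–Thompson hypothesis: a finite group with a splitting
automorphism of prime order is nilpotent. -/
theorem kegel_of_GT (hGT : GTHyp.{u}) {G : Type u} [Group G] [Finite G] (α : MulAut G)
    (hp : (orderOf α).Prime)
    (hsplit : ∀ x : G, (((List.range (orderOf α)).map (fun i : ℕ => (α ^ i) x)).prod = 1)) :
    Group.IsNilpotent G := by
  refine kegel_aux hGT (orderOf α) hp _ G rfl α ?_
  intro x
  rw [← list_prod_eq_nrm]
  exact hsplit x

end Main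

end Cfsg.Agent.Lib.Lead.Kegel
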