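import Mathlib
import Cfsg.Prelude.Def_Transfer
import Cfsg.Agent.S0721
import Cfsg.Agent.S4387
import Cfsg.Agent.Lib.Lead.PrimDerA

set_option autoImplicit false
set_option linter.style.haveILetI false

/-! Primitive groups with a nonabelian minimal normal subgroup which are not almost simple
have at least three classes of derangements, and derangements of non-`p`-power order. -/

namespace Cfsg.Agent.Lib.Lead.PrimDerB

open MulAction
open scoped Pointwise
open Cfsg.Agent.Lib.Lead.PrimDerA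

section basic
variable {G : Type*} [Group G] {Ω : Type*} [MulAction G Ω]

/-- The conclusion of the core theorem. -/
def Concl (G : Type*) [Group G] (Ω : Type*) [MulAction G Ω] : Prop :=
  (∃ g₁ g₂ g₃ : G, (∀ ω : Ω, g₁ • ω ≠ ω) ∧ (∀ ω : Ω, g₂ • ω ≠ ω) ∧ (∀ ω : Ω, g₃ • ω ≠ ω) ∧
    ¬ IsConj g₁ g₂ ∧ ¬ IsConj g₁ g₃ ∧ ¬ IsConj g₂ g₃) ∧
  ∀ p : ℕ, p.Prime → ∃ g : G, (∀ ω : Ω, g • ω ≠ ω) ∧ ¬ ∃ k : ℕ, orderOf g = p ^ k

theorem isConj_orderOf {g h : G} (hc : IsConj g h) : orderOf g = orderOf h := by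
  rw [isConj_iff] at hc
  obtain ⟨c, hc⟩ := hc
  have : SemiconjBy c g h := by
    rw [SemiconjBy, ← hc]; simp
  exact this.orderOf_eq

theorem prime_eq_of_eq_pow {p p₀ k : ℕ} (hp : p.Prime) (hp₀ : p₀.Prime) (h : p = p₀ ^ k) :
    p = p₀ := by
  have hk : k ≠ 0 := by
    rintro rfl
    rw [pow_zero] at h
    exact hp.one_lt.ne' h
  have : p₀ ∣ p := by rw [h]; exact dvd_pow_self p₀ hk
  exact ((Nat.prime_dvd_prime_iff_eq hp₀ hp).mp this).symm

theorem concl_of_orders {g₁ g₂ g₃ : G} {p q : ℕ} (hp : p.Prime) (hq : q.Prime) (hpq : p ≠ q)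
    (h₁ : orderOf g₁ = p) (h₂ : orderOf g₂ = q) (h₃ : orderOf g₃ = p * q)
    (d₁ : ∀ ω : Ω, g₁ • ω ≠ ω) (d₂ : ∀ ω : Ω, g₂ • ω ≠ ω) (d₃ : ∀ ω : Ω, g₃ • ω ≠ ω) :
    Concl G Ω := by
  refine ⟨⟨g₁, g₂, g₃, d₁, d₂, d₃, ?_, ?_, ?_⟩, ?_⟩
  · intro h
    have := isConj_orderOf h
    rw [h₁, h₂] at this
    exact hpq this
  · intro h
    have := isConj_orderOf h
    rw [h₁, h₃] at this
    have h1 : q = 1 := by
      have hp0 := hp.pos
      nlinarith [hq.two_le]
    exact hq.one_lt.ne' h1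
  · intro h
    have := isConj_orderOf h
    rw [h₂, h₃] at this
    have h1 : p = 1 := by
      have hq0 := hq.pos
      nlinarith [hp.two_le]
    exact hp.one_lt.ne' h1
  · intro p₀ hp₀
    by_cases hpp : p = p₀
    · refine ⟨g₂, d₂, ?_⟩
      rintro ⟨k, hk⟩
      rw [h₂] at hk
      have := prime_eq_of_eq_pow hq hp₀ hk
      exact hpq (hpp.trans this.symm)
    · refine ⟨g₁, d₁, ?_⟩
      rintro ⟨k, hk⟩
      rw [h₁] at hk
      exact hpp (prime_eq_of_eq_pow hp hp₀ hk)

theorem normal_pretransitive [FaithfulSMul G Ω] (hprim : IsPreprimitive G Ω) (N : Subgroup G)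
    [N.Normal] (hN : N ≠ ⊥) : IsPretransitive N Ω := by
  haveI := hprim
  apply IsQuasiPreprimitive.isPretransitive_of_normal (G := G)
  intro h
  apply hN
  rw [Subgroup.eq_bot_iff_forall]
  intro n hn
  apply FaithfulSMul.eq_of_smul_eq_smul (α := Ω)
  intro ω
  have hω : ω ∈ fixedPoints N Ω := by rw [h]; trivial
  have := hω ⟨n, hn⟩
  rw [one_smul]
  exact this

theorem exists_conj_mem_stabilizer (N : Subgroup G) (htr : IsPretransitive N Ω) (a : Ω) (g : G)
    (ω : Ω) (h : g • ω = ω) : ∃ x : N, (x : G)⁻¹ * g * x ∈ stabilizer G a := by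
  obtain ⟨x, hx⟩ := htr.exists_smul_eq a ω
  refine ⟨x, ?_⟩
  have hx' : (x : G) • a = ω := hx
  rw [mem_stabilizer_iff, mul_smul, mul_smul, hx', h, ← hx', inv_smul_smul]

theorem exists_mul_mem_stabilizer (N : Subgroup G) (htr : IsPretransitive N Ω) (a : Ω) (g : G) :
    ∃ x : N, g * x ∈ stabilizer G a := by
  obtain ⟨x, hx⟩ := htr.exists_smul_eq a (g⁻¹ • a)
  refine ⟨x, ?_⟩
  have hx' : (x : G) • a = g⁻¹ • a := hx
  rw [mem_stabilizer_iff, mul_smul, hx', smul_inv_smul]

/-- In a faithful primitive group on at least two points, no nontrivial element has all its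
conjugates in a point stabilizer. -/
theorem not_conj_le_stabilizer [FaithfulSMul G Ω] [Finite Ω] (hprim : IsPreprimitive G Ω)
    (hΩ : 2 ≤ Nat.card Ω) (a : Ω) (l : G) (hl : l ≠ 1)
    (h : ∀ g : G, g * l * g⁻¹ ∈ stabilizer G a) : False := by
  set K := Subgroup.normalClosure ({l} : Set G) with hK
  have hKle : K ≤ stabilizer G a := by
    rw [hK, Subgroup.normalClosure, Subgroup.closure_le]
    intro x hx
    rw [Group.mem_conjugatesOfSet_iff] at hx
    obtain ⟨y, hy, hyx⟩ := hx
    rw [Set.mem_singleton_iff] at hy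
    subst hy
    rw [isConj_iff] at hyx
    obtain ⟨c, rfl⟩ := hyx
    exact h c
  have hKne : K ≠ ⊥ := by
    intro hbot
    have : l ∈ K := Subgroup.subset_normalClosure (Set.mem_singleton l)
    rw [hbot, Subgroup.mem_bot] at this
    exact hl this
  have htr : IsPretransitive K Ω := normal_pretransitive hprim K hKne
  haveI : Nontrivial Ω := Finite.one_lt_card_iff_nontrivial.mp (by omega)
  obtain ⟨b, hb⟩ := exists_ne a
  obtain ⟨k, hk⟩ := htr.exists_smul_eq a b
  have hk' : (k : G) • a = b := hk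
  have : (k : G) • a = a := hKle k.2
  exact hb (hk'.symm.trans this)

/-- Two commuting nontrivial normal subgroups: both regular, and we get three derangements of
orders `p`, `q`, `pq`. -/
theorem two_normal [Finite G] [Finite Ω] [FaithfulSMul G Ω] (hprim : IsPreprimitive G Ω) (a : Ω)
    (N M : Subgroup G) [N.Normal] [M.Normal] (hN : N ≠ ⊥) (hM : M ≠ ⊥)
    (hcomm : ∀ n ∈ N, ∀ x ∈ M, n * x = x * n) (p q : ℕ) (hp : p.Prime) (hq : q.Prime)
    (hpq : p ≠ q) (t s : G) (ht : t ∈ N) (hs : s ∈ N) (hto : orderOf t = p)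
    (hso : orderOf s = q) : Concl G Ω := by
  have htrN : IsPretransitive N Ω := normal_pretransitive hprim N hN
  have htrM : IsPretransitive M Ω := normal_pretransitive hprim M hM
  -- semiregularity
  have hsrM : ∀ x ∈ M, ∀ ω : Ω, x • ω = ω → x = 1 := by
    intro x hx ω hω
    apply FaithfulSMul.eq_of_smul_eq_smul (α := Ω)
    intro ω'
    obtain ⟨n, hn⟩ := htrN.exists_smul_eq ω ω'
    have hn' : (n : G) • ω = ω' := hn
    rw [one_smul, ← hn', ← mul_smul, ← hcomm n n.2 x hx, mul_smul, hω]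
  have hsrN : ∀ n ∈ N, ∀ ω : Ω, n • ω = ω → n = 1 := by
    intro n hn ω hω
    apply FaithfulSMul.eq_of_smul_eq_smul (α := Ω)
    intro ω'
    obtain ⟨x, hx⟩ := htrM.exists_smul_eq ω ω'
    have hx' : (x : G) • ω = ω' := hx
    rw [one_smul, ← hx', ← mul_smul, hcomm n hn x x.2, mul_smul, hω]
  -- cardinalities
  have hcard : ∀ (L : Subgroup G), IsPretransitive L Ω → (∀ x ∈ L, ∀ ω : Ω, x • ω = ω → x = 1) →
      Nat.card L = Nat.card Ω := by
    intro L htr hsr
    apply Nat.card_eq_of_bijective (fun x : L => (x : G) • a)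
    constructor
    · intro x y hxy
      have hxy' : (x : G) • a = (y : G) • a := hxy
      have : ((y : G)⁻¹ * x) • a = a := by rw [mul_smul, hxy', inv_smul_smul]
      have h1 := hsr _ (L.mul_mem (L.inv_mem y.2) x.2) a this
      apply Subtype.ext
      have : (x : G) = y * ((y : G)⁻¹ * x) := by group
      rw [this, h1, mul_one]
    · intro ω
      obtain ⟨x, hx⟩ := htr.exists_smul_eq a ω
      exact ⟨x, hx⟩
  have hNM : Nat.card M = Nat.card N := (hcard M htrM hsrM).trans (hcard N htrN hsrN).symm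
  -- an element of order q in M
  have hqN : q ∣ Nat.card N := by
    have : orderOf (⟨s, hs⟩ : N) = q := by
      rw [← hso]; exact (Subgroup.orderOf_mk s hs)
    rw [← this]
    exact orderOf_dvd_natCard _
  haveI : Fact q.Prime := ⟨hq⟩
  obtain ⟨u', hu'⟩ := exists_prime_orderOf_dvd_card' (G := M) q (by rw [hNM]; exact hqN)
  set u : G := (u' : G) with hu
  have huM : u ∈ M := u'.2
  have huo : orderOf u = q := by rw [hu, Subgroup.orderOf_coe]; exact hu'
  have hc : Commute t u := hcomm t ht u huM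
  have htu : orderOf (t * u) = p * q := by
    rw [hc.orderOf_mul_eq_mul_orderOf_of_coprime, hto, huo]
    rw [hto, huo]
    exact (Nat.coprime_primes hp hq).mpr hpq
  have ht1 : t ≠ 1 := by
    rintro rfl
    rw [orderOf_one] at hto
    exact hp.one_lt.ne hto
  have hs1 : s ≠ 1 := by
    rintro rfl
    rw [orderOf_one] at hso
    exact hq.one_lt.ne hso
  have htq : t ^ q ≠ 1 := by
    intro h
    have := orderOf_dvd_of_pow_eq_one h
    rw [hto] at this
    exact hpq ((Nat.prime_dvd_prime_iff_eq hp hq).mp this)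
  refine concl_of_orders hp hq hpq hto hso htu ?_ ?_ ?_
  · intro ω hω
    exact ht1 (hsrN t ht ω hω)
  · intro ω hω
    exact hs1 (hsrN s hs ω hω)
  · intro ω hω
    have h1 : (t * u) ^ q ∈ stabilizer G ω := Subgroup.pow_mem _ hω q
    have h2 : (t * u) ^ q = t ^ q := by
      rw [hc.mul_pow, ← huo, pow_orderOf_eq_one, mul_one]
    rw [h2] at h1
    exact htq (hsrN _ (N.pow_mem ht q) ω h1)

end basic

section prod
variable {G : Type*} [Group G] [Finite G] {Ω : Type*} [Finite Ω] [MulAction G Ω]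
  [FaithfulSMul G Ω]

set_option maxHeartbeats 1600000 in
/-- The product case `N ≅ T^m`, `m ≥ 2`. -/
theorem prod_case (hprim : IsPreprimitive G Ω) (hΩ : 2 ≤ Nat.card Ω) (N : Subgroup G) [N.Normal]
    {T : Type*} [Group T] [IsSimpleGroup T] (hT : ¬ IsMulCommutative T) {m : ℕ} (hm : 2 ≤ m)
    (e : N ≃* (Fin m → T)) : Concl G Ω := by
  classical
  set i₀ : Fin m := ⟨0, by omega⟩ with hi₀
  set i₁ : Fin m := ⟨1, by omega⟩ with hi₁
  have h01 : i₁ ≠ i₀ := by
    intro h
    have := congrArg Fin.val h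
    simp [hi₀, hi₁] at this
  have h10 : i₀ ≠ i₁ := h01.symm
  let ms : Fin m → T →* N := fun i =>
    e.symm.toMonoidHom.comp (MonoidHom.mulSingle (fun _ : Fin m => T) i)
  have hms : ∀ i t, e (ms i t) = Pi.mulSingle i t := by
    intro i t
    simp [ms]
  have hms_inj : ∀ i, Function.Injective (ms i) := by
    intro i
    exact e.symm.injective.comp (mulSingle_inj i)
  haveI : Finite T := Finite.of_injective _ (hms_inj i₀)
  obtain ⟨t₁, ht₁⟩ := exists_ne (1 : T)
  have hN : N ≠ ⊥ := by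
    intro h
    have h1 : ms i₀ t₁ = 1 := by
      have h3 : ∀ g : G, g ∈ N → g = 1 := fun g hg => by
        rw [h] at hg
        exact Subgroup.mem_bot.mp hg
      exact Subtype.ext (h3 _ (ms i₀ t₁).2)
    rw [← map_one (ms i₀)] at h1
    exact ht₁ (hms_inj i₀ h1)
  have htr : IsPretransitive N Ω := normal_pretransitive hprim N hN
  haveI : Nontrivial Ω := Finite.one_lt_card_iff_nontrivial.mp (by omega)
  obtain ⟨a⟩ := (inferInstance : Nonempty Ω)
  have key : ∀ n : N, ∀ ω : Ω, (n : G) • ω = ω → ∃ x : N, x⁻¹ * n * x ∈ stabilizer N a := by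
    intro n ω h
    obtain ⟨x, hx⟩ := exists_conj_mem_stabilizer N htr a (n : G) ω h
    refine ⟨x, ?_⟩
    rw [mem_stabilizer_iff]
    show ((x⁻¹ * n * x : N) : G) • a = a
    have : ((x⁻¹ * n * x : N) : G) = (x : G)⁻¹ * n * x := by simp
    rw [this]
    exact hx
  -- order of ms
  have hms_ord : ∀ i t, orderOf ((ms i t : N) : G) = orderOf t := by
    intro i t
    rw [Subgroup.orderOf_coe]
    exact orderOf_injective (ms i) (hms_inj i) t
  -- two primes
  have hcardT : Nat.card T ≠ 1 := by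
    have := Finite.one_lt_card (α := T)
    omega
  obtain ⟨p, hp, hpdvd⟩ := Nat.exists_prime_and_dvd hcardT
  obtain ⟨q, hq, hqp, hqdvd⟩ := exists_prime_ne_dvd hT p hp
  have hpq : p ≠ q := hqp.symm
  haveI : Fact p.Prime := ⟨hp⟩
  haveI : Fact q.Prime := ⟨hq⟩
  obtain ⟨tp, htp⟩ := exists_prime_orderOf_dvd_card' (G := T) p hpdvd
  obtain ⟨tq, htq⟩ := exists_prime_orderOf_dvd_card' (G := T) q hqdvd
  -- the projection
  let π : N →* T := (Pi.evalMonoidHom (fun _ : Fin m => T) i₀).comp e.toMonoidHom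
  have hπ : ∀ n, π n = e n i₀ := fun n => rfl
  set R : Subgroup T := (stabilizer N a).map π with hRdef
  -- conjugacy transfer
  have pair_conj : ∀ (n₁ n₂ : N), IsConj (n₁ : G) (n₂ : G) → ∀ Q : ℕ → ℕ → Prop,
      Pair Q (e n₁) → Pair Q (e n₂) := by
    intro n₁ n₂ h Q hQ
    rw [isConj_iff] at h
    obtain ⟨c, hc⟩ := h
    let φ : (Fin m → T) ≃* (Fin m → T) := (e.symm.trans (MulAut.conjNormal c : N ≃* N)).trans e
    have hφ : φ (e n₁) = e n₂ := by
      simp only [φ, MulEquiv.trans_apply, MulEquiv.symm_apply_apply]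
      congr 1
      apply Subtype.ext
      rw [MulAut.conjNormal_apply]
      exact hc
    rw [← hφ]
    exact Pair.map hT φ hQ
  by_cases hR : R = ⊤
  · -- diagonal-like case
    have claim : ∀ t : T, t ≠ 1 → ∀ ω : Ω, ((ms i₀ t : N) : G) • ω ≠ ω := by
      intro t ht ω h
      obtain ⟨x, hx⟩ := key (ms i₀ t) ω h
      set t' := (e x i₀)⁻¹ * t * e x i₀ with ht'def
      have hx1 : x⁻¹ * ms i₀ t * x = ms i₀ t' := by
        apply e.injective
        rw [hms i₀ t']
        simp only [map_mul, map_inv, hms, conj_mulSingle']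
        rfl
      have ht' : t' ≠ 1 := by
        intro h1
        apply ht
        have : t = e x i₀ * t' * (e x i₀)⁻¹ := by simp [ht'def, mul_assoc]
        rw [this, h1]
        simp
      rw [hx1] at hx
      have hne : ((ms i₀ t' : N) : G) ≠ 1 := by
        intro h1
        apply ht'
        have h2 : ms i₀ t' = 1 := Subtype.ext h1
        rw [← map_one (ms i₀)] at h2
        exact hms_inj i₀ h2
      apply not_conj_le_stabilizer hprim hΩ a ((ms i₀ t' : N) : G) hne
      intro g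
      obtain ⟨x₁, hx₁⟩ := exists_mul_mem_stabilizer N htr a g
      have hxR : e x₁ i₀ ∈ R := by rw [hR]; trivial
      obtain ⟨n', hn', hn'x⟩ := hxR
      have hn'x' : e n' i₀ = e x₁ i₀ := hn'x
      have h1 : x₁⁻¹ * ms i₀ t' * x₁ = n'⁻¹ * ms i₀ t' * n' := by
        apply e.injective
        simp only [map_mul, map_inv, hms, conj_mulSingle']
        rw [hn'x']
      have h2 : n'⁻¹ * ms i₀ t' * n' ∈ stabilizer N a :=
        mul_mem (mul_mem (inv_mem hn') hx) hn'
      have h3 : ((x₁⁻¹ * ms i₀ t' * x₁ : N) : G) ∈ stabilizer G a := by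
        rw [h1]
        exact h2
      have h4 : g * ((ms i₀ t' : N) : G) * g⁻¹ =
          (g * x₁) * ((x₁⁻¹ * ms i₀ t' * x₁ : N) : G) * (g * x₁)⁻¹ := by
        push_cast
        group
      rw [h4]
      exact mul_mem (mul_mem hx₁ h3) (inv_mem hx₁)
    have hcomm : Commute (ms i₀ tp) (ms i₁ tq) := by
      have : ms i₀ tp * ms i₁ tq = ms i₁ tq * ms i₀ tp := by
        apply e.injective
        simp only [map_mul, hms]
        exact Pi.mulSingle_commute (f := fun _ : Fin m => T) h10 tp tq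
      exact this
    have htp1 : tp ≠ 1 := by
      rintro rfl
      rw [orderOf_one] at htp
      exact hp.one_lt.ne htp
    have htq1 : tq ≠ 1 := by
      rintro rfl
      rw [orderOf_one] at htq
      exact hq.one_lt.ne htq
    have htpq : tp ^ q ≠ 1 := by
      intro h
      have := orderOf_dvd_of_pow_eq_one h
      rw [htp] at this
      exact hpq ((Nat.prime_dvd_prime_iff_eq hp hq).mp this)
    have hpow : (ms i₀ tp * ms i₁ tq) ^ q = ms i₀ (tp ^ q) := by
      rw [hcomm.mul_pow, ← map_pow, ← map_pow]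
      have : tq ^ q = 1 := by rw [← htq]; exact pow_orderOf_eq_one tq
      rw [this, map_one, mul_one]
    have ho3 : orderOf (((ms i₀ tp * ms i₁ tq : N)) : G) = p * q := by
      rw [Subgroup.orderOf_coe, hcomm.orderOf_mul_eq_mul_orderOf_of_coprime]
      · rw [orderOf_injective (ms i₀) (hms_inj i₀) tp, orderOf_injective (ms i₁) (hms_inj i₁) tq,
          htp, htq]
      · rw [orderOf_injective (ms i₀) (hms_inj i₀) tp, orderOf_injective (ms i₁) (hms_inj i₁) tq,
          htp, htq]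
        exact (Nat.coprime_primes hp hq).mpr hpq
    refine concl_of_orders hp hq hpq ((hms_ord i₀ tp).trans htp) ((hms_ord i₀ tq).trans htq) ho3
      (claim tp htp1) (claim tq htq1) ?_
    intro ω hω
    have h1 : (((ms i₀ tp * ms i₁ tq : N)) : G) ^ q ∈ stabilizer G ω := Subgroup.pow_mem _ hω q
    have h2 : (((ms i₀ tp * ms i₁ tq : N)) : G) ^ q = ((ms i₀ (tp ^ q) : N) : G) := by
      rw [← hpow]
      simp
    rw [h2] at h1
    exact claim (tp ^ q) htpq ω h1
  · -- product-like case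
    obtain ⟨d, hd⟩ := Cfsg.Agent.S4387.exists_not_mem_conj R hR
    have hd' : ∀ r : T, r⁻¹ * d * r ∉ R := by
      intro r hr
      apply hd r
      rw [Subgroup.mem_pointwise_smul_iff_inv_smul_mem]
      simpa [MulAut.smul_def] using hr
    have hd1 : d ≠ 1 := by
      rintro rfl
      apply hd' 1
      simp
    let nn : T → N := fun y => ms i₀ d * ms i₁ y
    have hnn : ∀ y, e (nn y) = Pi.mulSingle i₀ d * Pi.mulSingle i₁ y := by
      intro y
      simp only [nn, map_mul, hms]
    have c0 : ∀ y, e (nn y) i₀ = d := by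
      intro y
      rw [hnn]
      simp [Pi.mulSingle_eq_of_ne h10]
    have c1 : ∀ y, e (nn y) i₁ = y := by
      intro y
      rw [hnn]
      simp [Pi.mulSingle_eq_of_ne h01]
    have ck : ∀ y k, k ≠ i₀ → k ≠ i₁ → e (nn y) k = 1 := by
      intro y k h0 h1
      rw [hnn]
      simp [Pi.mulSingle_eq_of_ne h0, Pi.mulSingle_eq_of_ne h1]
    have hder : ∀ (y : T) (ω : Ω), ((nn y : N) : G) • ω ≠ ω := by
      intro y ω h
      obtain ⟨x, hx⟩ := key (nn y) ω h
      have h1 : π (x⁻¹ * nn y * x) ∈ R := ⟨_, hx, rfl⟩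
      apply hd' (e x i₀)
      have h2 : π (x⁻¹ * nn y * x) = (e x i₀)⁻¹ * d * e x i₀ := by
        rw [hπ]
        simp only [map_mul, map_inv, Pi.mul_apply, Pi.inv_apply, c0]
      rw [← h2]
      exact h1
    -- an element of order different from that of d
    obtain ⟨y₀, hy₀1, hy₀d⟩ : ∃ y₀ : T, y₀ ≠ 1 ∧ orderOf y₀ ≠ orderOf d := by
      by_cases hdp : orderOf d = p
      · refine ⟨tq, ?_, ?_⟩
        · rintro rfl
          rw [orderOf_one] at htq
          exact hq.one_lt.ne htq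
        · rw [htq, hdp]
          exact hqp
      · refine ⟨tp, ?_, ?_⟩
        · rintro rfl
          rw [orderOf_one] at htp
          exact hp.one_lt.ne htp
        · rw [htp]
          exact fun h => hdp h.symm
    have hod1 : orderOf d ≠ 1 := fun h => hd1 (orderOf_eq_one_iff.mp h)
    have hoy1 : orderOf y₀ ≠ 1 := fun h => hy₀1 (orderOf_eq_one_iff.mp h)
    let Q₁ : ℕ → ℕ → Prop := fun a b => a ≠ 1 ∧ b ≠ 1
    let Q₂ : ℕ → ℕ → Prop := fun a b => a = orderOf d ∧ b = orderOf d
    have hA1 : ¬ Pair Q₁ (e (nn 1)) := by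
      rintro ⟨i, j, hij, hi, hj⟩
      have hk1 : ∀ k, k ≠ i₀ → e (nn 1) k = 1 := by
        intro k hk
        by_cases h : k = i₁
        · rw [h]; exact c1 1
        · exact ck 1 k hk h
      by_cases hi0 : i = i₀
      · by_cases hj0 : j = i₀
        · exact hij (hi0.trans hj0.symm)
        · apply hj
          rw [hk1 j hj0, orderOf_one]
      · apply hi
        rw [hk1 i hi0, orderOf_one]
    have hA2 : Pair Q₁ (e (nn d)) := by
      refine ⟨i₀, i₁, h10, ?_, ?_⟩
      · rw [c0]; exact hod1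
      · rw [c1]; exact hod1
    have hA3 : Pair Q₁ (e (nn y₀)) := by
      refine ⟨i₀, i₁, h10, ?_, ?_⟩
      · rw [c0]; exact hod1
      · rw [c1]; exact hoy1
    have hB2 : Pair Q₂ (e (nn d)) := by
      refine ⟨i₀, i₁, h10, ?_, ?_⟩
      · rw [c0]
      · rw [c1]
    have hB3 : ¬ Pair Q₂ (e (nn y₀)) := by
      rintro ⟨i, j, hij, hi, hj⟩
      have hk3 : ∀ k, k ≠ i₀ → orderOf (e (nn y₀) k) ≠ orderOf d := by
        intro k hk
        by_cases h : k = i₁
        · rw [h, c1]; exact hy₀d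
        · rw [ck y₀ k hk h, orderOf_one]
          exact fun h' => hod1 h'.symm
      by_cases hi0 : i = i₀
      · by_cases hj0 : j = i₀
        · exact hij (hi0.trans hj0.symm)
        · exact hk3 j hj0 hj
      · exact hk3 i hi0 hi
    refine ⟨⟨((nn 1 : N) : G), ((nn d : N) : G), ((nn y₀ : N) : G), hder 1, hder d, hder y₀,
      ?_, ?_, ?_⟩, ?_⟩
    · intro h
      exact hA1 (pair_conj (nn d) (nn 1) h.symm Q₁ hA2)
    · intro h
      exact hA1 (pair_conj (nn y₀) (nn 1) h.symm Q₁ hA3)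
    · intro h
      exact hB3 (pair_conj (nn d) (nn y₀) h Q₂ hB2)
    · intro p₀ hp₀
      obtain ⟨q₀, hq₀, hne, hdvd⟩ := exists_prime_ne_dvd hT p₀ hp₀
      haveI : Fact q₀.Prime := ⟨hq₀⟩
      obtain ⟨y, hy⟩ := exists_prime_orderOf_dvd_card' (G := T) q₀ hdvd
      refine ⟨((nn y : N) : G), hder y, ?_⟩
      rintro ⟨k, hk⟩
      have h1 : ((nn y : N) : G) ^ (p₀ ^ k) = 1 := by
        rw [← hk]
        exact pow_orderOf_eq_one _
      have h2 : (nn y) ^ (p₀ ^ k) = 1 := by
        apply Subtype.ext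
        simpa using h1
      have h3 : y ^ (p₀ ^ k) = 1 := by
        have := congrArg (fun z => e z i₁) h2
        simpa [map_pow, c1] using this
      have h4 : orderOf y ∣ p₀ ^ k := orderOf_dvd_of_pow_eq_one h3
      rw [hy] at h4
      have h5 := hq₀.dvd_of_dvd_pow h4
      exact hne ((Nat.prime_dvd_prime_iff_eq hq₀ hp₀).mp h5)

end prod

end Cfsg.Agent.Lib.Lead.PrimDerB
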