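import Mathlib
import Cfsg.Prelude.Def_Transfer
import Cfsg.Agent.S0721
import Cfsg.Agent.Lib.Lead.PrimDerB

set_option autoImplicit false
set_option linter.style.haveILetI false
set_option linter.unusedSectionVars false

/-! Core theorem on derangements in primitive groups with nonabelian socle, and the abelian
minimal normal subgroup facts. -/

namespace Cfsg.Agent.Lib.Lead.PrimDerC

open MulAction
open Cfsg.Agent.Lib.Lead.PrimDerA Cfsg.Agent.Lib.Lead.PrimDerB

section
variable {G : Type*} [Group G] [Finite G] {Ω : Type*} [Finite Ω] [MulAction G Ω]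
  [FaithfulSMul G Ω]

theorem nontrivial_group (hprim : IsPreprimitive G Ω) (hΩ : 2 ≤ Nat.card Ω) : Nontrivial G := by
  haveI : Nontrivial Ω := Finite.one_lt_card_iff_nontrivial.mp (by omega)
  obtain ⟨a, b, hab⟩ := exists_pair_ne Ω
  haveI := hprim.toIsPretransitive
  obtain ⟨g, hg⟩ := exists_smul_eq G a b
  refine ⟨⟨g, 1, ?_⟩⟩
  rintro rfl
  rw [one_smul] at hg
  exact hab hg

/-- **Core theorem.** -/
theorem core (hprim : IsPreprimitive G Ω) (hΩ : 2 ≤ Nat.card Ω) (N : Subgroup G) [N.Normal]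
    (hN : N ≠ ⊥) (hmin : ∀ M : Subgroup G, M.Normal → M ≤ N → M = ⊥ ∨ M = N)
    (hnab : ¬ IsMulCommutative N)
    (hnas : ¬ ∃ T : Subgroup G, T.Normal ∧ IsSimpleGroup T ∧ ¬ IsMulCommutative T ∧
      Subgroup.centralizer (T : Set G) = ⊥) : Concl G Ω := by
  obtain ⟨T, _, m, hTs, hm, ⟨e⟩⟩ := Cfsg.Agent.S0721.result N hN hmin
  haveI := hTs
  have hT : ¬ IsMulCommutative T := by
    intro hc
    apply hnab
    refine ⟨⟨fun x y => ?_⟩⟩
    apply e.injective
    rw [map_mul, map_mul]
    ext i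
    exact hc.is_comm.comm _ _
  by_cases hm2 : 2 ≤ m
  · exact prod_case hprim hΩ N hT hm2 e
  · obtain rfl : m = 1 := by omega
    let e' : N ≃* T := e.trans (MulEquiv.funUnique (Fin 1) T)
    haveI : Nontrivial N := (Subgroup.nontrivial_iff_ne_bot N).mpr hN
    have hsimple : IsSimpleGroup N :=
      IsSimpleGroup.isSimpleGroup_of_surjective e'.symm.toMonoidHom e'.symm.surjective
    by_cases hC : Subgroup.centralizer (N : Set G) = ⊥
    · exact absurd ⟨N, inferInstance, hsimple, hnab, hC⟩ hnas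
    · haveI : Finite T := Finite.of_equiv N e'.toEquiv
      haveI : Nontrivial Ω := Finite.one_lt_card_iff_nontrivial.mp (by omega)
      obtain ⟨a⟩ := (inferInstance : Nonempty Ω)
      have hcardT : Nat.card T ≠ 1 := by
        have := Finite.one_lt_card (α := T)
        omega
      obtain ⟨p, hp, hpdvd⟩ := Nat.exists_prime_and_dvd hcardT
      obtain ⟨q, hq, hqp, hqdvd⟩ := exists_prime_ne_dvd hT p hp
      haveI : Fact p.Prime := ⟨hp⟩
      haveI : Fact q.Prime := ⟨hq⟩
      obtain ⟨tp, htp⟩ := exists_prime_orderOf_dvd_card' (G := T) p hpdvd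
      obtain ⟨tq, htq⟩ := exists_prime_orderOf_dvd_card' (G := T) q hqdvd
      refine two_normal hprim a N (Subgroup.centralizer (N : Set G)) hN hC ?_ p q hp hq hqp.symm
        ((e'.symm tp : N) : G) ((e'.symm tq : N) : G) (e'.symm tp).2 (e'.symm tq).2 ?_ ?_
      · intro n hn x hx
        exact Subgroup.mem_centralizer_iff.mp hx n hn
      · rw [Subgroup.orderOf_coe, MulEquiv.orderOf_eq]
        exact htp
      · rw [Subgroup.orderOf_coe, MulEquiv.orderOf_eq]
        exact htq

/-- An abelian minimal normal subgroup of a faithful primitive group is elementary abelian and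
regular. -/
theorem abelian_minimal_normal (hprim : IsPreprimitive G Ω) (N : Subgroup G) [hNn : N.Normal]
    (hN : N ≠ ⊥) (hmin : ∀ M : Subgroup G, M.Normal → M ≤ N → M = ⊥ ∨ M = N)
    (hab : IsMulCommutative N) :
    (∃ r : ℕ, r.Prime ∧ Cfsg.IsElementaryAbelian r N) ∧ IsPretransitive N Ω ∧
      ∀ a : Ω, stabilizer N a = ⊥ := by
  have htr : IsPretransitive N Ω := normal_pretransitive hprim N hN
  have hcomm : ∀ g ∈ N, ∀ h ∈ N, g * h = h * g := by
    intro g hg h hh
    have := hab.is_comm.comm (⟨g, hg⟩ : N) ⟨h, hh⟩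
    exact congrArg Subtype.val this
  refine ⟨?_, htr, ?_⟩
  · haveI : Nontrivial N := (Subgroup.nontrivial_iff_ne_bot N).mpr hN
    have hcard : Nat.card N ≠ 1 := by
      have := Finite.one_lt_card (α := N)
      omega
    obtain ⟨r, hr, hrdvd⟩ := Nat.exists_prime_and_dvd hcard
    refine ⟨r, hr, hab, ?_⟩
    let K : Subgroup G :=
      { carrier := {g | g ∈ N ∧ g ^ r = 1}
        mul_mem' := by
          rintro g h ⟨hg, hg1⟩ ⟨hh, hh1⟩
          refine ⟨N.mul_mem hg hh, ?_⟩
          have hc : Commute g h := hcomm g hg h hh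
          rw [hc.mul_pow, hg1, hh1, one_mul]
        one_mem' := ⟨N.one_mem, one_pow r⟩
        inv_mem' := by
          rintro g ⟨hg, hg1⟩
          exact ⟨N.inv_mem hg, by rw [inv_pow, hg1, inv_one]⟩ }
    have hKn : K.Normal := by
      constructor
      rintro g ⟨hg, hg1⟩ c
      refine ⟨hNn.conj_mem g hg c, ?_⟩
      rw [conj_pow, hg1]
      simp
    have hKle : K ≤ N := fun g hg => hg.1
    haveI : Fact r.Prime := ⟨hr⟩
    obtain ⟨x, hx⟩ := exists_prime_orderOf_dvd_card' (G := N) r hrdvd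
    have hxK : (x : G) ∈ K := by
      refine ⟨x.2, ?_⟩
      have : x ^ r = 1 := by rw [← hx]; exact pow_orderOf_eq_one x
      have := congrArg Subtype.val this
      simpa using this
    rcases hmin K hKn hKle with h | h
    · exfalso
      rw [h, Subgroup.mem_bot] at hxK
      have hx1 : x = 1 := Subtype.ext hxK
      rw [hx1, orderOf_one] at hx
      exact hr.one_lt.ne hx
    · intro g hg
      have : g ∈ K := by rw [h]; exact hg
      exact this.2
  · intro a
    rw [Subgroup.eq_bot_iff_forall]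
    intro n hn
    apply Subtype.ext
    apply FaithfulSMul.eq_of_smul_eq_smul (α := Ω)
    intro ω
    obtain ⟨x, hx⟩ := htr.exists_smul_eq a ω
    have hx' : (x : G) • a = ω := hx
    have hn' : (n : G) • a = a := hn
    show (n : G) • ω = (1 : G) • ω
    rw [one_smul, ← hx', ← mul_smul, hcomm n n.2 x x.2, mul_smul, hn']

end

section count
variable {G : Type*} [Group G] [Finite G]

theorem three_le_card (P : G → Prop) (g₁ g₂ g₃ : G) (h₁ : P g₁) (h₂ : P g₂) (h₃ : P g₃)
    (h12 : ¬ IsConj g₁ g₂) (h13 : ¬ IsConj g₁ g₃) (h23 : ¬ IsConj g₂ g₃) :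
    3 ≤ Nat.card {c : ConjClasses G // ∃ g : G, ConjClasses.mk g = c ∧ P g} := by
  classical
  haveI : Fintype {c : ConjClasses G // ∃ g : G, ConjClasses.mk g = c ∧ P g} := Fintype.ofFinite _
  rw [Nat.card_eq_fintype_card]
  apply Nat.succ_le_of_lt
  rw [Fintype.two_lt_card_iff]
  refine ⟨⟨ConjClasses.mk g₁, g₁, rfl, h₁⟩, ⟨ConjClasses.mk g₂, g₂, rfl, h₂⟩,
    ⟨ConjClasses.mk g₃, g₃, rfl, h₃⟩, ?_, ?_, ?_⟩
  · intro h
    rw [Subtype.mk.injEq, ConjClasses.mk_eq_mk_iff_isConj] at h
    exact h12 h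
  · intro h
    rw [Subtype.mk.injEq, ConjClasses.mk_eq_mk_iff_isConj] at h
    exact h13 h
  · intro h
    rw [Subtype.mk.injEq, ConjClasses.mk_eq_mk_iff_isConj] at h
    exact h23 h

end count

end Cfsg.Agent.Lib.Lead.PrimDerC
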