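import Mathlib
import Cfsg.Prelude.Def_TwoFusion
import Cfsg.Agent.Lib.Helper10.Basic

/-!
# Sylow 2-subgroups with a generalized quaternion direct factor

If a Sylow 2-subgroup `S` of `G` is `Q × R` with `Q` generalized quaternion and all involutions of
`R` central in `R`, then `G` is not simple (given Glauberman's Z*-theorem as a hypothesis).

Idea: all involutions of `S` are central in `S`, so `N_G(S)` controls their fusion (Burnside).
Call `u` a *quaternion-factor involution* if `S = Q' × R'` with `Q'` "quaternion-like" and `u ∈ Q'`.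
A Krull–Schmidt type argument (`key`) shows that two different such involutions `u, u'` satisfy
`u' ∈ R'` for every decomposition `Q' × R'` of `u`.  Hence the product of all of them is `≠ 1`,
it is invariant under all automorphisms of `S`, so it is an isolated involution.
-/

set_option autoImplicit false

namespace Cfsg.Agent.Lib.Lead.QuatFactor

open Cfsg

universe u
variable {G : Type u} [Group G]

/-! ### internal direct products -/

theorem idp_symm {A B S : Subgroup G} (h : IsInternalDirectProduct A B S) :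
    IsInternalDirectProduct B A S := by
  obtain ⟨hA, hB, hc, hd, hs⟩ := h
  exact ⟨hB, hA, fun b hb a ha => (hc a ha b hb).symm, by rw [inf_comm]; exact hd,
    by rw [sup_comm]; exact hs⟩

theorem idp_decomp {A B S : Subgroup G} (h : IsInternalDirectProduct A B S) {x : G}
    (hx : x ∈ S) : ∃ a ∈ A, ∃ b ∈ B, x = a * b := by
  obtain ⟨hA, hB, hc, hd, hs⟩ := h
  rw [← hs] at hx
  exact (Cfsg.Agent.Lib.Helper10.mem_sup_of_commute A B hc).mp hx

theorem idp_unique {A B S : Subgroup G} (h : IsInternalDirectProduct A B S) {a a' b b' : G}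
    (ha : a ∈ A) (ha' : a' ∈ A) (hb : b ∈ B) (hb' : b' ∈ B) (he : a * b = a' * b') :
    a = a' ∧ b = b' := by
  obtain ⟨hA, hB, hc, hd, hs⟩ := h
  have h1 : a'⁻¹ * a = b' * b⁻¹ := by
    rw [eq_mul_inv_iff_mul_eq, mul_assoc, he, inv_mul_cancel_left]
  have h2 : a'⁻¹ * a ∈ A ⊓ B := by
    refine Subgroup.mem_inf.mpr ⟨A.mul_mem (A.inv_mem ha') ha, ?_⟩
    rw [h1]
    exact B.mul_mem hb' (B.inv_mem hb)
  rw [hd, Subgroup.mem_bot] at h2
  have h3 : a' = a := inv_mul_eq_one.mp h2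
  subst h3
  exact ⟨rfl, mul_left_cancel he⟩

theorem idp_conj_mem_left {A B S : Subgroup G} (h : IsInternalDirectProduct A B S) {s a : G}
    (hs : s ∈ S) (ha : a ∈ A) : s * a * s⁻¹ ∈ A := by
  obtain ⟨a', ha', b', hb', rfl⟩ := idp_decomp h hs
  obtain ⟨hA, hB, hc, hd, hsup⟩ := h
  have h2 : b' * a = a * b' := (hc a ha b' hb').symm
  have h1 : a' * b' * a * (a' * b')⁻¹ = a' * a * a'⁻¹ := by
    calc a' * b' * a * (a' * b')⁻¹ = a' * (b' * a) * b'⁻¹ * a'⁻¹ := by group
      _ = a' * (a * b') * b'⁻¹ * a'⁻¹ := by rw [h2]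
      _ = a' * a * a'⁻¹ := by group
  rw [h1]
  exact A.mul_mem (A.mul_mem ha' ha) (A.inv_mem ha')

/-! ### quaternion-like direct factors -/

/-- `S = Q × R` where `z` is the unique involution of `Q` and `z` is "a commutator" in `Q`. -/
def QF (Q R S : Subgroup G) (z : G) : Prop :=
  IsInternalDirectProduct Q R S ∧ z ∈ Q ∧ orderOf z = 2 ∧ (∀ x ∈ Q, orderOf x = 2 → x = z) ∧
    ∃ x ∈ Q, ∃ y ∈ Q, x * y = z * (y * x)

theorem QF.z_central {Q R S : Subgroup G} {z : G} (h : QF Q R S z) :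
    ∀ x ∈ Q, x * z = z * x := by
  obtain ⟨i, zQ, hz, u, -⟩ := h
  intro x hx
  have h1 : orderOf (x * z * x⁻¹) = 2 := by
    have := MulEquiv.orderOf_eq (MulAut.conj x) z
    rw [MulAut.conj_apply] at this
    rw [this]
    exact hz
  have h2 : x * z * x⁻¹ = z :=
    u _ (Q.mul_mem (Q.mul_mem hx zQ) (Q.inv_mem hx)) h1
  exact mul_inv_eq_iff_eq_mul.mp h2

/-- All involutions of `S` are central in `S`. -/
theorem inv_central {Q R S : Subgroup G} {z : G} (h : QF Q R S z)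
    (hR : ∀ r ∈ R, orderOf r = 2 → ∀ s ∈ R, r * s = s * r) :
    ∀ s ∈ S, s ^ 2 = 1 → ∀ t ∈ S, s * t = t * s := by
  intro s hs hs2 t ht
  have hzc := h.z_central
  obtain ⟨i, zQ, hz, u, -⟩ := h
  have hc := i.2.2.1
  obtain ⟨q, hq, r, hr, rfl⟩ := idp_decomp i hs
  obtain ⟨q', hq', r', hr', rfl⟩ := idp_decomp i ht
  have h1 : (q * q) * (r * r) = 1 * 1 := by
    have h2 : r * q = q * r := (hc q hq r hr).symm
    have h3 : (q * r) ^ 2 = (q * q) * (r * r) := by
      rw [sq]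
      calc q * r * (q * r) = q * (r * q) * r := by group
        _ = q * (q * r) * r := by rw [h2]
        _ = q * q * (r * r) := by group
    rw [← h3, hs2, one_mul]
  obtain ⟨hqq, hrr⟩ := idp_unique i (Q.mul_mem hq hq) Q.one_mem (R.mul_mem hr hr) R.one_mem h1
  have hqc : ∀ a ∈ Q, q * a = a * q := by
    intro a ha
    by_cases hq1 : q = 1
    · rw [hq1, one_mul, mul_one]
    · have h4 : orderOf q = 2 := orderOf_eq_prime (by rw [sq]; exact hqq) hq1
      rw [u q hq h4]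
      exact (hzc a ha).symm
  have hrc : ∀ b ∈ R, r * b = b * r := by
    intro b hb
    by_cases hr1 : r = 1
    · rw [hr1, one_mul, mul_one]
    · exact hR r hr (orderOf_eq_prime (by rw [sq]; exact hrr) hr1) b hb
  have e1 : r * q' = q' * r := (hc q' hq' r hr).symm
  have e2 : r' * q = q * r' := (hc q hq r' hr').symm
  calc q * r * (q' * r') = q * (r * q') * r' := by group
    _ = q * (q' * r) * r' := by rw [e1]
    _ = (q * q') * (r * r') := by group
    _ = (q' * q) * (r' * r) := by rw [hqc q' hq', hrc r' hr']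
    _ = q' * (q * r') * r := by group
    _ = q' * (r' * q) * r := by rw [e2]
    _ = q' * r' * (q * r) := by group

/-- Krull–Schmidt type key lemma. -/
theorem key [Finite G] {S Q₁ R₁ Q₂ R₂ : Subgroup G} {z₁ z₂ : G} (hS : IsPGroup 2 S)
    (h₁ : QF Q₁ R₁ S z₁) (h₂ : QF Q₂ R₂ S z₂) : z₂ = z₁ ∨ z₂ ∈ R₁ := by
  obtain ⟨i₁, z₁Q, hz₁, u₁, -⟩ := h₁
  obtain ⟨i₂, z₂Q, hz₂, u₂, ⟨x, hx, y, hy, hxy⟩⟩ := h₂
  have hQ₂S : Q₂ ≤ S := i₂.1
  have hR₁S : R₁ ≤ S := i₁.2.1
  by_cases hzR : z₂ ∈ R₁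
  · exact Or.inr hzR
  left
  have hK : Q₂ ⊓ R₁ = ⊥ := by
    by_contra hne
    have hKp : IsPGroup 2 ↥(Q₂ ⊓ R₁) := hS.to_le (inf_le_left.trans hQ₂S)
    have hcard : Nat.card ↥(Q₂ ⊓ R₁) ≠ 1 := fun h1 => hne (Subgroup.card_eq_one.mp h1)
    have hdvd : 2 ∣ Nat.card ↥(Q₂ ⊓ R₁) := hKp.card_eq_or_dvd.resolve_left hcard
    obtain ⟨t, ht⟩ := exists_prime_orderOf_dvd_card' 2 hdvd
    have ht' : orderOf (t : G) = 2 := by rw [Subgroup.orderOf_coe]; exact ht
    have htQ : (t : G) ∈ Q₂ := (Subgroup.mem_inf.mp t.2).1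
    have htR : (t : G) ∈ R₁ := (Subgroup.mem_inf.mp t.2).2
    have h3 : (t : G) = z₂ := u₂ _ htQ ht'
    rw [h3] at htR
    exact hzR htR
  have hcent : ∀ a ∈ Q₂, ∀ r ∈ R₁, a * r = r * a := by
    intro a ha r hr
    have h1 : r * a * r⁻¹ * a⁻¹ ∈ Q₂ ⊓ R₁ := by
      refine Subgroup.mem_inf.mpr ⟨?_, ?_⟩
      · exact Q₂.mul_mem (idp_conj_mem_left i₂ (hR₁S hr) ha) (Q₂.inv_mem ha)
      · have h2 : a * r⁻¹ * a⁻¹ ∈ R₁ :=
          idp_conj_mem_left (idp_symm i₁) (hQ₂S ha) (R₁.inv_mem hr)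
        have h3 : r * a * r⁻¹ * a⁻¹ = r * (a * r⁻¹ * a⁻¹) := by group
        rw [h3]
        exact R₁.mul_mem hr h2
    rw [hK, Subgroup.mem_bot] at h1
    have h4 : r * a = a * r := mul_inv_eq_iff_eq_mul.mp (mul_inv_eq_one.mp h1)
    exact h4.symm
  obtain ⟨qx, hqx, rx, hrx, ex⟩ := idp_decomp i₁ (hQ₂S hx)
  obtain ⟨qy, hqy, ry, hry, ey⟩ := idp_decomp i₁ (hQ₂S hy)
  obtain ⟨q0, hq0, r0, hr0, e0⟩ := idp_decomp i₁ (hQ₂S z₂Q)
  have hc₁ := i₁.2.2.1
  have hrxy : rx * ry = ry * rx := by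
    have h1 : rx = qx⁻¹ * x := by rw [ex, inv_mul_cancel_left]
    have h2 : x * ry = ry * x := hcent x hx ry hry
    have h3 : qx⁻¹ * ry = ry * qx⁻¹ := hc₁ _ (Q₁.inv_mem hqx) ry hry
    calc rx * ry = qx⁻¹ * x * ry := by rw [← h1]
      _ = qx⁻¹ * (x * ry) := by rw [mul_assoc]
      _ = qx⁻¹ * (ry * x) := by rw [h2]
      _ = (qx⁻¹ * ry) * x := by rw [mul_assoc]
      _ = ry * qx⁻¹ * x := by rw [h3]
      _ = ry * (qx⁻¹ * x) := by rw [mul_assoc]
      _ = ry * rx := by rw [← h1]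
  have hL : x * y = (qx * qy) * (rx * ry) := by
    have h1 : rx * qy = qy * rx := (hc₁ qy hqy rx hrx).symm
    calc x * y = qx * (rx * qy) * ry := by rw [ex, ey]; group
      _ = qx * (qy * rx) * ry := by rw [h1]
      _ = (qx * qy) * (rx * ry) := by group
  have hRt : z₂ * (y * x) = (q0 * qy * qx) * (r0 * ry * rx) := by
    have h1 : ry * qx = qx * ry := (hc₁ qx hqx ry hry).symm
    have h2 : r0 * qy = qy * r0 := (hc₁ qy hqy r0 hr0).symm
    have h3 : r0 * qx = qx * r0 := (hc₁ qx hqx r0 hr0).symm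
    calc z₂ * (y * x) = q0 * (r0 * qy) * (ry * qx) * rx := by rw [e0, ey, ex]; group
      _ = q0 * (qy * r0) * (qx * ry) * rx := by rw [h1, h2]
      _ = q0 * qy * (r0 * qx) * ry * rx := by group
      _ = q0 * qy * (qx * r0) * ry * rx := by rw [h3]
      _ = (q0 * qy * qx) * (r0 * ry * rx) := by group
  have hEq : (qx * qy) * (rx * ry) = (q0 * qy * qx) * (r0 * ry * rx) := by
    rw [← hL, ← hRt]
    exact hxy
  obtain ⟨-, hr⟩ := idp_unique i₁ (Q₁.mul_mem hqx hqy) (Q₁.mul_mem (Q₁.mul_mem hq0 hqy) hqx)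
    (R₁.mul_mem hrx hry) (R₁.mul_mem (R₁.mul_mem hr0 hry) hrx) hEq
  have hr0' : r0 = 1 := by
    rw [hrxy, mul_assoc] at hr
    have h5 : r0 * (ry * rx) = 1 * (ry * rx) := by rw [one_mul]; exact hr.symm
    exact mul_right_cancel h5
  have hz₂Q₁ : z₂ ∈ Q₁ := by
    rw [e0, hr0', mul_one]
    exact hq0
  exact u₁ z₂ hz₂Q₁ hz₂

/-- Transport of a quaternion-like decomposition by an element normalizing `S`. -/
theorem QF.conj {Q R S : Subgroup G} {z : G} (h : QF Q R S z) (g : G)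
    (hg : g ∈ Subgroup.normalizer (S : Set G)) :
    QF (Q.map (MulAut.conj g).toMonoidHom) (R.map (MulAut.conj g).toMonoidHom) S
      (g * z * g⁻¹) := by
  obtain ⟨i, zQ, hz, u, ⟨x, hx, y, hy, e⟩⟩ := h
  obtain ⟨hQS, hRS, hc, hd, hsup⟩ := i
  have hcx : ∀ t : G, (MulAut.conj g).toMonoidHom t = g * t * g⁻¹ := fun t => rfl
  have hinj : Function.Injective (MulAut.conj g).toMonoidHom := (MulAut.conj g).injective
  have hSmap : S.map (MulAut.conj g).toMonoidHom = S := by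
    ext t
    constructor
    · rintro ⟨s, hs, rfl⟩
      rw [hcx]
      exact (Subgroup.mem_normalizer_iff.mp hg s).mp hs
    · intro ht
      refine ⟨g⁻¹ * t * g, (Subgroup.mem_normalizer_iff''.mp hg t).mp ht, ?_⟩
      rw [hcx]
      group
  refine ⟨⟨(Subgroup.map_mono hQS).trans hSmap.le, (Subgroup.map_mono hRS).trans hSmap.le,
    ?_, ?_, ?_⟩, ?_, ?_, ?_, ?_⟩
  · rintro _ ⟨a, ha, rfl⟩ _ ⟨b, hb, rfl⟩
    rw [← map_mul, ← map_mul, hc a ha b hb]
  · rw [eq_bot_iff]
    intro t ht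
    obtain ⟨h1, h2⟩ := Subgroup.mem_inf.mp ht
    obtain ⟨a, ha, rfl⟩ := h1
    obtain ⟨b, hb, hab⟩ := h2
    have hba : b = a := hinj hab
    subst hba
    have h3 : b ∈ Q ⊓ R := Subgroup.mem_inf.mpr ⟨ha, hb⟩
    rw [hd, Subgroup.mem_bot] at h3
    rw [Subgroup.mem_bot, h3, map_one]
  · rw [← Subgroup.map_sup, hsup, hSmap]
  · exact ⟨z, zQ, rfl⟩
  · have := MulEquiv.orderOf_eq (MulAut.conj g) z
    rw [MulAut.conj_apply] at this
    rw [this]
    exact hz
  · rintro _ ⟨a, ha, rfl⟩ ho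
    have h1 : orderOf a = 2 := by
      have := MulEquiv.orderOf_eq (MulAut.conj g) a
      rw [MulAut.conj_apply] at this
      rw [← this]
      rw [hcx] at ho
      exact ho
    rw [u a ha h1]
    rfl
  · refine ⟨_, ⟨x, hx, rfl⟩, _, ⟨y, hy, rfl⟩, ?_⟩
    have h1 : g * z * g⁻¹ = (MulAut.conj g).toMonoidHom z := rfl
    rw [h1, ← map_mul, ← map_mul, ← map_mul, e]

/-! ### the invariant involution -/

theorem exists_invariant_involution [Finite G] (S : Sylow 2 G) {Q R : Subgroup G} {z : G}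
    (h : QF Q R (S : Subgroup G) z)
    (hR : ∀ r ∈ R, orderOf r = 2 → ∀ s ∈ R, r * s = s * r) :
    ∃ w : G, orderOf w = 2 ∧ w ∈ (S : Subgroup G) ∧
      (∀ t ∈ (S : Subgroup G), w * t = t * w) ∧
      ∀ n ∈ Subgroup.normalizer ((S : Subgroup G) : Set G), n * w * n⁻¹ = w := by
  classical
  haveI := Fintype.ofFinite G
  have hS2 : IsPGroup 2 (S : Subgroup G) := S.isPGroup'
  have hcen := inv_central h hR
  let K : Subgroup G :=
    { carrier := {s | s ∈ (S : Subgroup G) ∧ (∀ t ∈ (S : Subgroup G), s * t = t * s) ∧ s ^ 2 = 1}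
      mul_mem' := by
        rintro a b ⟨ha, hac, ha2⟩ ⟨hb, hbc, hb2⟩
        refine ⟨(S : Subgroup G).mul_mem ha hb, ?_, ?_⟩
        · intro t ht
          rw [mul_assoc, hbc t ht, ← mul_assoc, hac t ht, mul_assoc]
        · have hab : Commute a b := hac b hb
          rw [hab.mul_pow, ha2, hb2, one_mul]
      one_mem' := ⟨(S : Subgroup G).one_mem, fun t _ => by rw [one_mul, mul_one], one_pow 2⟩
      inv_mem' := by
        rintro a ⟨ha, hac, ha2⟩
        refine ⟨(S : Subgroup G).inv_mem ha, ?_, ?_⟩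
        · intro t ht
          exact ((show Commute a t from hac t ht).inv_left).eq
        · rw [inv_pow, ha2, inv_one] }
  have hKmem : ∀ s : G, s ∈ K ↔
      s ∈ (S : Subgroup G) ∧ (∀ t ∈ (S : Subgroup G), s * t = t * s) ∧ s ^ 2 = 1 :=
    fun s => Iff.rfl
  let P : G → Prop := fun v => ∃ Q' R' : Subgroup G, QF Q' R' (S : Subgroup G) v
  have hPK : ∀ v, P v → v ∈ K := by
    rintro v ⟨Q', R', h'⟩
    have hvS : v ∈ (S : Subgroup G) := h'.1.1 h'.2.1
    have hv2 : v ^ 2 = 1 := by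
      have := pow_orderOf_eq_one v
      rw [h'.2.2.1] at this
      exact this
    exact (hKmem v).mpr ⟨hvS, hcen v hvS hv2, hv2⟩
  let l : List G := (Finset.univ.filter P).toList
  have hl : ∀ v, v ∈ l ↔ P v := by
    intro v
    simp only [l, Finset.mem_toList, Finset.mem_filter, Finset.mem_univ, true_and]
  have hlnd : l.Nodup := Finset.nodup_toList _
  have hlK : ∀ v ∈ l, v ∈ K := fun v hv => hPK v ((hl v).mp hv)
  have hKcomm : ∀ a ∈ K, ∀ b ∈ K, Commute a b := by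
    intro a ha b hb
    exact ((hKmem a).mp ha).2.1 b ((hKmem b).mp hb).1
  have hwK : l.prod ∈ K := Subgroup.list_prod_mem K hlK
  have hzl : z ∈ l := (hl z).mpr ⟨Q, R, h⟩
  -- the product is nontrivial
  have hw1 : l.prod ≠ 1 := by
    intro hw
    have hperm : l.Perm (z :: l.erase z) := List.perm_cons_erase hzl
    have hpc : l.Pairwise Commute :=
      List.pairwise_of_forall_mem_list (fun a ha b hb => hKcomm a (hlK a ha) b (hlK b hb))
    have h1 : l.prod = z * (l.erase z).prod := by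
      rw [hperm.prod_eq' hpc, List.prod_cons]
    have h2 : (l.erase z).prod ∈ R := by
      apply Subgroup.list_prod_mem
      intro v hv
      obtain ⟨hvz, hvl⟩ := (hlnd.mem_erase_iff).mp hv
      obtain ⟨Q', R', h'⟩ := (hl v).mp hvl
      rcases key hS2 h h' with h3 | h3
      · exact absurd h3 hvz
      · exact h3
    have h3 : z = ((l.erase z).prod)⁻¹ := by
      rw [h1] at hw
      exact eq_inv_of_mul_eq_one_left hw
    have h4 : z ∈ Q ⊓ R := Subgroup.mem_inf.mpr ⟨h.2.1, by rw [h3]; exact R.inv_mem h2⟩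
    rw [h.1.2.2.2.1, Subgroup.mem_bot] at h4
    have h5 := h.2.2.1
    rw [h4, orderOf_one] at h5
    omega
  obtain ⟨hwS, hwc, hw2⟩ := (hKmem _).mp hwK
  refine ⟨l.prod, orderOf_eq_prime hw2 hw1, hwS, hwc, ?_⟩
  intro n hn
  have hn' : n⁻¹ ∈ Subgroup.normalizer ((S : Subgroup G) : Set G) := Subgroup.inv_mem _ hn
  have h1 : n * l.prod * n⁻¹ = (l.map (MulAut.conj n).toMonoidHom).prod := by
    have := map_list_prod (MulAut.conj n).toMonoidHom l
    rw [← this]
    rfl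
  have hperm : (l.map (MulAut.conj n).toMonoidHom).Perm l := by
    refine (List.perm_ext_iff_of_nodup (hlnd.map (MulAut.conj n).injective) hlnd).mpr ?_
    intro v
    constructor
    · intro hv
      obtain ⟨b, hb, rfl⟩ := List.mem_map.mp hv
      obtain ⟨Q', R', h'⟩ := (hl b).mp hb
      exact (hl _).mpr ⟨_, _, h'.conj n hn⟩
    · intro hv
      obtain ⟨Q', R', h'⟩ := (hl v).mp hv
      refine List.mem_map.mpr ⟨n⁻¹ * v * n⁻¹⁻¹, (hl _).mpr ⟨_, _, h'.conj n⁻¹ hn'⟩, ?_⟩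
      show n * (n⁻¹ * v * n⁻¹⁻¹) * n⁻¹ = v
      group
  have hpc : (l.map (MulAut.conj n).toMonoidHom).Pairwise Commute := by
    apply List.pairwise_of_forall_mem_list
    intro a ha b hb
    exact hKcomm a (hlK a (hperm.mem_iff.mp ha)) b (hlK b (hperm.mem_iff.mp hb))
  rw [h1, hperm.prod_eq' hpc]

/-! ### quaternion groups -/

section Quat

open QuaternionGroup

theorem quat_a_ne_one (m : ℕ) (hm : 0 < m) :
    (a (m : ZMod (2 * m)) : QuaternionGroup m) ≠ 1 := by
  intro h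
  rw [one_def] at h
  have h1 : (m : ZMod (2 * m)) = 0 := a.inj h
  have h2 : 2 * m ∣ m := (ZMod.natCast_eq_zero_iff m (2 * m)).mp h1
  have h3 := Nat.le_of_dvd hm h2
  omega

theorem quat_z_order (m : ℕ) (hm : 0 < m) :
    orderOf (a (m : ZMod (2 * m)) : QuaternionGroup m) = 2 := by
  apply orderOf_eq_prime
  · rw [sq, a_mul_a]
    have h1 : ((m : ZMod (2 * m)) + m) = 0 := by
      rw [← Nat.cast_add, ← two_mul]
      exact ZMod.natCast_self (2 * m)
    rw [h1, a_zero]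
  · exact quat_a_ne_one m hm

theorem quat_inv_unique (m : ℕ) (hm : 0 < m) (x : QuaternionGroup m) (hx : orderOf x = 2) :
    x = a (m : ZMod (2 * m)) := by
  haveI : NeZero m := ⟨hm.ne'⟩
  have hx2 : x ^ 2 = 1 := by
    rw [← hx]
    exact pow_orderOf_eq_one x
  cases x with
  | a i =>
    rw [sq, a_mul_a, one_def] at hx2
    have h0 : i + i = 0 := a.inj hx2
    have hi : (i.val + i.val) % (2 * m) = 0 := by
      have := congrArg ZMod.val h0
      rw [ZMod.val_add, ZMod.val_zero] at this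
      exact this
    have hlt : i.val < 2 * m := ZMod.val_lt i
    have hcases : i.val = 0 ∨ i.val = m := by
      obtain ⟨k, hk⟩ := Nat.dvd_of_mod_eq_zero hi
      rcases k with _ | _ | k
      · left
        omega
      · right
        omega
      · exfalso
        have h5 : 2 * m * 2 ≤ 2 * m * (k + 1 + 1) := Nat.mul_le_mul_left _ (by omega)
        omega
    rcases hcases with h | h
    · exfalso
      have h6 : i = 0 := (ZMod.val_eq_zero i).mp h
      rw [h6, a_zero, orderOf_one] at hx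
      omega
    · congr 1
      rw [← ZMod.natCast_zmod_val i, h]
  | xa i =>
    exfalso
    rw [xa_sq] at hx2
    exact quat_a_ne_one m hm hx2

theorem quat_comm (m k : ℕ) (hmk : m = k + k) :
    ∃ x y : QuaternionGroup m, x * y = a (m : ZMod (2 * m)) * (y * x) := by
  subst hmk
  refine ⟨a ((k : ℕ) : ZMod (2 * (k + k))), xa 0, ?_⟩
  rw [a_mul_xa, xa_mul_a, a_mul_xa]
  congr 1
  push_cast
  ring

end Quat

/-- The quaternion factor gives a quaternion-like decomposition. -/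
theorem qf_of_quaternion {S Q R : Subgroup G} (hQR : IsInternalDirectProduct Q R S) (n : ℕ)
    (hn : 1 ≤ n) (eQ : ↥Q ≃* QuaternionGroup (2 ^ n)) :
    ∃ z : G, QF Q R S z := by
  have hm : 0 < 2 ^ n := by positivity
  set z₀ : QuaternionGroup (2 ^ n) := QuaternionGroup.a ((2 ^ n : ℕ) : ZMod (2 * 2 ^ n)) with hz₀
  have ho : orderOf z₀ = 2 := quat_z_order (2 ^ n) hm
  refine ⟨((eQ.symm z₀ : ↥Q) : G), hQR, (eQ.symm z₀).2, ?_, ?_, ?_⟩
  · rw [Subgroup.orderOf_coe, MulEquiv.orderOf_eq]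
    exact ho
  · intro x hx hox
    have h1 : orderOf (eQ ⟨x, hx⟩) = 2 := by
      rw [MulEquiv.orderOf_eq, ← Subgroup.orderOf_coe]
      exact hox
    have h2 : eQ ⟨x, hx⟩ = z₀ := quat_inv_unique (2 ^ n) hm _ h1
    have h3 : (⟨x, hx⟩ : ↥Q) = eQ.symm z₀ := by
      rw [← h2, MulEquiv.symm_apply_apply]
    exact congrArg Subtype.val h3
  · have h2n : 2 ^ n = 2 ^ (n - 1) + 2 ^ (n - 1) := by
      rw [← two_mul, ← pow_succ', Nat.sub_add_cancel hn]
    obtain ⟨x₀, y₀, hxy⟩ := quat_comm (2 ^ n) (2 ^ (n - 1)) h2n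
    refine ⟨_, (eQ.symm x₀).2, _, (eQ.symm y₀).2, ?_⟩
    rw [← Subgroup.coe_mul, ← Subgroup.coe_mul, ← Subgroup.coe_mul, ← map_mul, ← map_mul,
      ← map_mul, hxy]

/-- Main theorem, with Glauberman's Z*-theorem as a hypothesis. -/
theorem not_simple [Finite G] (S : Sylow 2 G) (Q R : Subgroup G)
    (hQR : IsInternalDirectProduct Q R (S : Subgroup G)) (n : ℕ) (hn : 1 ≤ n)
    (eQ : ↥Q ≃* QuaternionGroup (2 ^ n))
    (hR : ∀ r ∈ R, orderOf r = 2 → ∀ s ∈ R, r * s = s * r)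
    (zstar : ∀ (P : Sylow 2 G) (v : G), orderOf v = 2 → v ∈ P →
      (∀ g : G, g * v * g⁻¹ ∈ P → g * v * g⁻¹ = v) →
      ∃ N : Subgroup G, N.Normal ∧ Odd (Nat.card N) ∧ ∀ g : G, v * g * v⁻¹ * g⁻¹ ∈ N) :
    ¬ IsSimpleGroup G := by
  intro hsimple
  obtain ⟨z, hQF⟩ := qf_of_quaternion hQR n hn eQ
  have hcen := inv_central hQF hR
  obtain ⟨w, hw, hwS, hwc, hwN⟩ := exists_invariant_involution S hQF hR
  have hw2 : w ^ 2 = 1 := by
    have := pow_orderOf_eq_one w
    rw [hw] at this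
    exact this
  have hwcent : w ∈ Subgroup.centralizer ((S : Subgroup G) : Set G) :=
    Subgroup.mem_centralizer_iff.mpr (fun t ht => (hwc t ht).symm)
  have hiso : ∀ g : G, g * w * g⁻¹ ∈ S → g * w * g⁻¹ = w := by
    intro g hg
    have h1 : (g * w * g⁻¹) ^ 2 = 1 := by
      rw [conj_pow, hw2, mul_one, mul_inv_cancel]
    have h2 : g * w * g⁻¹ ∈ Subgroup.centralizer ((S : Subgroup G) : Set G) :=
      Subgroup.mem_centralizer_iff.mpr (fun t ht => (hcen _ hg h1 t ht).symm)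
    have h3 : g⁻¹⁻¹ * w * g⁻¹ ∈ Subgroup.centralizer ((S : Subgroup G) : Set G) := by
      rw [inv_inv]
      exact h2
    obtain ⟨m, hm, hmw⟩ := Sylow.conj_eq_normalizer_conj_of_mem_centralizer S w g⁻¹ hwcent h3
    rw [inv_inv] at hmw
    rw [hmw]
    have h4 := hwN m⁻¹ (Subgroup.inv_mem _ hm)
    rw [inv_inv] at h4
    exact h4
  obtain ⟨N, hNn, hNodd, hNc⟩ := zstar S w hw hwS hiso
  rcases hNn.eq_bot_or_eq_top with hN | hN
  · -- w is central
    have hcentral : ∀ g : G, g * w = w * g := by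
      intro g
      have h1 := hNc g
      rw [hN, Subgroup.mem_bot] at h1
      have h2 : w * g * w⁻¹ = g := mul_inv_eq_one.mp h1
      have h3 : w * g = g * w := mul_inv_eq_iff_eq_mul.mp h2
      exact h3.symm
    have hZn : (Subgroup.zpowers w).Normal := by
      refine ⟨fun x hx g => ?_⟩
      obtain ⟨k, rfl⟩ := Subgroup.mem_zpowers_iff.mp hx
      have h1 : g * w ^ k * g⁻¹ = w ^ k := by
        rw [← conj_zpow]
        have h2 : g * w * g⁻¹ = w := by rw [hcentral g, mul_inv_cancel_right]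
        rw [h2]
      rw [h1]
      exact Subgroup.zpow_mem_zpowers w k
    rcases hZn.eq_bot_or_eq_top with hZ | hZ
    · have h1 : w ∈ Subgroup.zpowers w := Subgroup.mem_zpowers w
      rw [hZ, Subgroup.mem_bot] at h1
      rw [h1, orderOf_one] at hw
      omega
    · have h1 : Nat.card (Subgroup.zpowers w) = 2 := by rw [Nat.card_zpowers, hw]
      have h2 : Nat.card G = 2 := by
        rw [← h1, hZ, Subgroup.card_top]
      have h3 : Nat.card ↥Q = 4 * 2 ^ n := by
        rw [Nat.card_congr eQ.toEquiv, Nat.card_eq_fintype_card]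
        haveI : NeZero (2 ^ n) := ⟨by positivity⟩
        exact QuaternionGroup.card
      have h4 : Nat.card ↥Q ∣ Nat.card G := Subgroup.card_subgroup_dvd_card Q
      rw [h2, h3] at h4
      have h5 := Nat.le_of_dvd (by norm_num) h4
      have h6 : 1 ≤ 2 ^ n := Nat.one_le_two_pow
      omega
  · -- N = ⊤ has odd order but contains an involution
    have h1 : orderOf w ∣ Nat.card G := orderOf_dvd_natCard w
    rw [hN, Subgroup.card_top] at hNodd
    rw [hw] at h1
    rw [Nat.odd_iff] at hNodd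
    omega

end Cfsg.Agent.Lib.Lead.QuatFactor
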