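import Mathlib
import Cfsg.Agent.S0144
import Cfsg.Agent.S0536

set_option autoImplicit false

/-!
Groups all of whose Sylow subgroups are self-normalizing (Glauberman): reduction to the
statement "p ≥ 5, N(S)/C(S) a p-group ⇒ a normal subgroup of index p" (passed as a hypothesis),
Burnside's two-prime theorem and the Frattini argument.
-/

namespace Cfsg.Agent.Lib.Lead.SelfNormSylow

universe u

variable {G : Type u} [Group G] [Finite G]

/-- Frattini step: if all Sylow subgroups are self-normalizing and `M` is normal of prime index `p`,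
then `G` is a `p`-group. -/
theorem isPGroup_of_normal_index_prime
    (h : ∀ q : ℕ, q.Prime → q ∣ Nat.card G → ∀ Q : Sylow q G,
      Subgroup.normalizer ((Q : Subgroup G) : Set G) = Q)
    (M : Subgroup G) [M.Normal] {p : ℕ} (hp : p.Prime) (hM : M.index = p) : IsPGroup p G := by
  have : Fact p.Prime := ⟨hp⟩
  by_contra hnot
  have hex : ∃ q : ℕ, q.Prime ∧ q ∣ Nat.card G ∧ q ≠ p := by
    by_contra hne
    push Not at hne
    apply hnot
    rw [IsPGroup.iff_card]
    exact ⟨_, Nat.eq_prime_pow_of_unique_prime_dvd Nat.card_pos.ne'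
      (fun {d} hd hdvd => hne d hd hdvd)⟩
  obtain ⟨q, hq, hqd, hqp⟩ := hex
  have : Fact q.Prime := ⟨hq⟩
  let Q : Sylow q G := default
  have hQM : (Q : Subgroup G) ≤ M := by
    intro x hx
    obtain ⟨k, hk⟩ := Q.isPGroup' ⟨x, hx⟩
    have hk' : x ^ q ^ k = 1 := by
      have := congrArg Subtype.val hk
      simpa using this
    have hcop : Nat.Coprime p (q ^ k) :=
      Nat.Coprime.pow_right k ((Nat.coprime_primes hp hq).mpr (Ne.symm hqp))
    have hx1 : orderOf ((QuotientGroup.mk' M) x) ∣ p := by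
      have h1 := orderOf_dvd_natCard ((QuotientGroup.mk' M) x)
      rwa [← Subgroup.index_eq_card, hM] at h1
    have hx2 : orderOf ((QuotientGroup.mk' M) x) ∣ q ^ k :=
      orderOf_dvd_of_pow_eq_one (by rw [← map_pow, hk', map_one])
    have h1 : orderOf ((QuotientGroup.mk' M) x) = 1 :=
      (Nat.Coprime.coprime_dvd_left hx1 hcop).eq_one_of_dvd hx2
    have h2 : (QuotientGroup.mk' M) x = 1 := orderOf_eq_one_iff.mp h1
    exact (QuotientGroup.eq_one_iff x).mp h2
  have hfr : Subgroup.normalizer ((Q : Subgroup G) : Set G) ⊔ M = ⊤ :=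
    Sylow.normalizer_sup_eq_top' Q hQM
  rw [h q hq hqd Q, sup_eq_right.mpr hQM] at hfr
  rw [hfr, Subgroup.index_top] at hM
  exact hp.one_lt.ne hM

/-- A natural number all of whose prime factors are `< 5` is of the form `2 ^ a * 3 ^ b`. -/
theorem eq_two_pow_mul_three_pow {n : ℕ} (hn : n ≠ 0)
    (hsmall : ∀ p : ℕ, p.Prime → p ∣ n → p < 5) : ∃ a b : ℕ, n = 2 ^ a * 3 ^ b := by
  refine ⟨n.factorization 2, n.factorization 3, ?_⟩
  have h2 : 2 ^ n.factorization 2 * (n / 2 ^ n.factorization 2) = n :=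
    Nat.ordProj_mul_ordCompl_eq_self n 2
  set m := n / 2 ^ n.factorization 2 with hm
  have hm0 : m ≠ 0 := by
    intro h0; rw [h0, mul_zero] at h2; exact hn h2.symm
  have hm2 : ¬ 2 ∣ m := Nat.not_dvd_ordCompl Nat.prime_two hn
  have hmn : m ∣ n := Nat.ordCompl_dvd n 2
  have h3 : 3 ^ m.factorization 3 * (m / 3 ^ m.factorization 3) = m :=
    Nat.ordProj_mul_ordCompl_eq_self m 3
  set m' := m / 3 ^ m.factorization 3 with hm'
  have hm'3 : ¬ 3 ∣ m' := Nat.not_dvd_ordCompl Nat.prime_three hm0
  have hm'm : m' ∣ m := Nat.ordCompl_dvd m 3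
  have hm'1 : m' = 1 := by
    by_contra hne
    obtain ⟨r, hr, hrd⟩ := Nat.exists_prime_and_dvd hne
    have hrn : r ∣ n := hrd.trans (hm'm.trans hmn)
    have hr5 := hsmall r hr hrn
    have hr2 := hr.two_le
    interval_cases r
    · exact hm2 (hrd.trans hm'm)
    · exact hm'3 hrd
    · exact absurd hr (by decide)
  have hfac3 : m.factorization 3 = n.factorization 3 := by
    have : n.factorization 3 = (2 ^ n.factorization 2 * m).factorization 3 := by rw [h2]
    rw [this, Nat.factorization_mul (pow_ne_zero _ (by norm_num)) hm0]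
    simp [Nat.Prime.factorization_pow Nat.prime_two]
  rw [hm'1, mul_one] at h3
  rw [← hfac3, h3, h2]

/-- **Glauberman.** If every Sylow subgroup of `G` (for the primes dividing the order) is
self-normalizing, then `G` has prime power order.  The input `H` is the statement
"`p ≥ 5`, `S ≠ 1` Sylow with every `p'`-element of `N(S)` centralizing `S` ⇒ a normal subgroup of
index `p`". -/
theorem exists_isPGroup
    (H : ∀ (p : ℕ) [Fact p.Prime], 5 ≤ p → ∀ S : Sylow p G, (S : Subgroup G) ≠ ⊥ →
      (∀ g ∈ Subgroup.normalizer (((S : Subgroup G) : Subgroup G) : Set G),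
        (orderOf g).Coprime p →
          g ∈ Subgroup.centralizer (((S : Subgroup G) : Subgroup G) : Set G)) →
      ∃ N : Subgroup G, N.Normal ∧ N.index = p)
    (h : ∀ q : ℕ, q.Prime → q ∣ Nat.card G → ∀ Q : Sylow q G,
      Subgroup.normalizer ((Q : Subgroup G) : Set G) = Q) :
    ∃ q : ℕ, q.Prime ∧ IsPGroup q G := by
  by_cases hbig : ∃ p : ℕ, p.Prime ∧ 5 ≤ p ∧ p ∣ Nat.card G
  · obtain ⟨p, hp, hp5, hpd⟩ := hbig
    have : Fact p.Prime := ⟨hp⟩
    let S : Sylow p G := default
    have hS : (S : Subgroup G) ≠ ⊥ := Sylow.ne_bot_of_dvd_card S hpd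
    have hN : ∀ g ∈ Subgroup.normalizer (((S : Subgroup G) : Subgroup G) : Set G),
        (orderOf g).Coprime p →
          g ∈ Subgroup.centralizer (((S : Subgroup G) : Subgroup G) : Set G) := by
      intro g hg hcop
      rw [h p hp hpd S] at hg
      obtain ⟨k, hk⟩ := S.isPGroup' ⟨g, hg⟩
      have hk' : g ^ p ^ k = 1 := by
        have := congrArg Subtype.val hk
        simpa using this
      have hd : orderOf g ∣ p ^ k := orderOf_dvd_of_pow_eq_one hk'
      have h1 : orderOf g = 1 := (Nat.Coprime.pow_right k hcop).eq_one_of_dvd hd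
      rw [orderOf_eq_one_iff.mp h1]
      exact Subgroup.one_mem _
    obtain ⟨N, hNn, hNi⟩ := H p hp5 S hS hN
    have := hNn
    exact ⟨p, hp, isPGroup_of_normal_index_prime h N hp hNi⟩
  · push Not at hbig
    have hsmall : ∀ p : ℕ, p.Prime → p ∣ Nat.card G → p < 5 := by
      intro p hp hpd
      by_contra hlt
      exact hbig p hp (not_lt.mp hlt) hpd
    obtain ⟨a, b, hab⟩ := eq_two_pow_mul_three_pow (Nat.card_pos (α := G)).ne' hsmall
    have : Group.IsSolvable G :=
      Cfsg.Agent.S0144.result 2 3 a b Nat.prime_two Nat.prime_three hab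
    rcases subsingleton_or_nontrivial G with hsub | hnt
    · refine ⟨2, Nat.prime_two, ?_⟩
      intro g
      exact ⟨0, Subsingleton.elim _ _⟩
    · obtain ⟨M, hMn, hMp⟩ := Cfsg.Agent.S0536.exists_normal_index_prime (G := G)
      have := hMn
      exact ⟨M.index, hMp, isPGroup_of_normal_index_prime h M hMp rfl⟩

/-- Consequence: such a group is not non-abelian simple. -/
theorem not_simple_nonabelian
    (H : ∀ (p : ℕ) [Fact p.Prime], 5 ≤ p → ∀ S : Sylow p G, (S : Subgroup G) ≠ ⊥ →
      (∀ g ∈ Subgroup.normalizer (((S : Subgroup G) : Subgroup G) : Set G),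
        (orderOf g).Coprime p →
          g ∈ Subgroup.centralizer (((S : Subgroup G) : Subgroup G) : Set G)) →
      ∃ N : Subgroup G, N.Normal ∧ N.index = p)
    (h : ∀ q : ℕ, q.Prime → q ∣ Nat.card G → ∀ Q : Sylow q G,
      Subgroup.normalizer ((Q : Subgroup G) : Set G) = Q) :
    ¬ (IsSimpleGroup G ∧ ¬ IsMulCommutative G) := by
  rintro ⟨hs, hna⟩
  obtain ⟨q, hq, hG⟩ := exists_isPGroup H h
  have : Fact q.Prime := ⟨hq⟩
  have := hs
  have hc : Nontrivial (Subgroup.center G) := hG.center_nontrivial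
  have hne : Subgroup.center G ≠ ⊥ := by
    intro hbot
    obtain ⟨x, y, hxy⟩ := hc
    apply hxy
    have hx : (x : G) ∈ (⊥ : Subgroup G) := hbot ▸ x.2
    have hy : (y : G) ∈ (⊥ : Subgroup G) := hbot ▸ y.2
    rw [Subgroup.mem_bot] at hx hy
    exact Subtype.ext (hx.trans hy.symm)
  have htop : Subgroup.center G = ⊤ :=
    ((inferInstance : (Subgroup.center G).Normal).eq_bot_or_eq_top).resolve_left hne
  apply hna
  refine ⟨⟨fun a b => ?_⟩⟩
  have ha : a ∈ Subgroup.center G := htop ▸ Subgroup.mem_top a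
  exact (Subgroup.mem_center_iff.mp ha b).symm

end Cfsg.Agent.Lib.Lead.SelfNormSylow
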