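import Mathlib
import Cfsg.Prelude.Def_Transfer
import Cfsg.Agent.Lib.Lead.Tate
import Cfsg.Agent.Lib.Helper13.Frobenius

/-!
Two-generated Sylow subgroups, part A.

* `exists_zpowers_sup_eq_top`: if the Frattini quotient of `Q` has order `p²` and the normal subgroup
  `K` is not contained in `Φ(Q)`, then `Q = ⟨x⟩ K` for some `x`.
* `comm_mem_of_zpowers_sup`: then all commutators of `Q` lie in `K`.
* `tate_normalized`: Tate's theorem for a subgroup normalized by the Sylow subgroup.
-/

set_option autoImplicit false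

namespace Cfsg.Agent.Lib.Lead.TwoGen

open Subgroup Cfsg Cfsg.Agent.Lib.Lead Cfsg.Agent.Lib.Helper17
open scoped commutatorElement

section PGroup

variable {Q : Type*} [Group Q] [Finite Q]

theorem exists_zpowers_sup_eq_top {p : ℕ} [hp : Fact p.Prime]
    (hidx : (frattini Q).index = p ^ 2) (K : Subgroup Q) [K.Normal] (hK : ¬ K ≤ frattini Q) :
    ∃ x : Q, zpowers x ⊔ K = ⊤ := by
  set W : Subgroup Q := K ⊔ frattini Q with hW
  haveI hWn : W.Normal := inferInstance
  have hΦW : frattini Q ≤ W := le_sup_right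
  have hdvd : W.index ∣ p ^ 2 := hidx ▸ index_dvd_of_le hΦW
  have hne : W.index ≠ p ^ 2 := by
    intro h
    have h1 := relIndex_mul_index hΦW
    rw [h, hidx] at h1
    have hpos : 0 < p ^ 2 := pow_pos hp.out.pos 2
    have h2 : (frattini Q).relIndex W = 1 := by
      have : (frattini Q).relIndex W * p ^ 2 = 1 * p ^ 2 := by rw [h1, one_mul]
      exact Nat.eq_of_mul_eq_mul_right hpos this
    have h3 : W ≤ frattini Q := relIndex_eq_one.1 h2
    exact hK (le_sup_left.trans h3)
  obtain ⟨j, hj, hj'⟩ := (Nat.dvd_prime_pow hp.out).1 hdvd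
  have hcyc : IsCyclic (Q ⧸ W) := by
    have hcard : Nat.card (Q ⧸ W) = p ^ j := by rw [← index_eq_card]; exact hj'
    have hj2 : j ≠ 2 := fun h => hne (by rw [hj', h])
    have hj01 : j = 0 ∨ j = 1 := by omega
    rcases hj01 with h | h
    · rw [h, pow_zero] at hcard
      haveI : Subsingleton (Q ⧸ W) := (Nat.card_eq_one_iff_unique.1 hcard).1
      infer_instance
    · rw [h, pow_one] at hcard
      exact isCyclic_of_prime_card hcard
  obtain ⟨g, hg⟩ := hcyc.exists_generator
  obtain ⟨x, rfl⟩ := QuotientGroup.mk_surjective g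
  refine ⟨x, ?_⟩
  apply frattini_nongenerating
  rw [sup_assoc, eq_top_iff]
  intro q _
  obtain ⟨n, hn⟩ := mem_zpowers_iff.1 (hg (q : Q ⧸ W))
  have h1 : ((x ^ n : Q) : Q ⧸ W) = (q : Q ⧸ W) := by
    rw [QuotientGroup.mk_zpow]; exact hn
  have h2 : (x ^ n)⁻¹ * q ∈ W := QuotientGroup.eq.1 h1
  have h3 : q = x ^ n * ((x ^ n)⁻¹ * q) := by group
  rw [h3]
  exact mul_mem (mem_sup_left (zpow_mem (mem_zpowers x) n)) (mem_sup_right h2)

omit [Finite Q] in
theorem exists_eq_zpow_mul {x : Q} {K : Subgroup Q} [K.Normal] (h : zpowers x ⊔ K = ⊤) (y : Q) :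
    ∃ n : ℤ, ∃ k ∈ K, y = x ^ n * k := by
  have hy : y ∈ zpowers x ⊔ K := h ▸ mem_top y
  rw [mem_sup_of_normal_right] at hy
  obtain ⟨a, ha, k, hk, rfl⟩ := hy
  obtain ⟨n, rfl⟩ := mem_zpowers_iff.1 ha
  exact ⟨n, k, hk, rfl⟩

omit [Finite Q] in
theorem comm_mem_of_zpowers_sup {x : Q} {K : Subgroup Q} [K.Normal] (h : zpowers x ⊔ K = ⊤)
    (a b : Q) : ⁅a, b⁆ ∈ K := by
  obtain ⟨m, k, hk, rfl⟩ := exists_eq_zpow_mul h a
  obtain ⟨n, k', hk', rfl⟩ := exists_eq_zpow_mul h b
  have h1 : (QuotientGroup.mk' K) (x ^ m * k) = (QuotientGroup.mk' K x) ^ m := by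
    rw [map_mul, map_zpow]
    have : (QuotientGroup.mk' K) k = 1 := (QuotientGroup.eq_one_iff k).2 hk
    rw [this, mul_one]
  have h2 : (QuotientGroup.mk' K) (x ^ n * k') = (QuotientGroup.mk' K x) ^ n := by
    rw [map_mul, map_zpow]
    have : (QuotientGroup.mk' K) k' = 1 := (QuotientGroup.eq_one_iff k').2 hk'
    rw [this, mul_one]
  have hf : (QuotientGroup.mk' K) ⁅x ^ m * k, x ^ n * k'⁆ = 1 := by
    rw [map_commutatorElement, commutatorElement_eq_one_iff_commute, h1, h2]
    exact (Commute.refl _).zpow_zpow m n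
  exact (QuotientGroup.eq_one_iff _).1 hf

end PGroup

section Tate

variable {G : Type*} [Group G] [Finite G] {p : ℕ} [Fact p.Prime]

/-- **Tate's theorem** for a subgroup `N` normalized by the Sylow `p`-subgroup `P`: if
`N ∩ P ≤ Φ(P)` then `N` has a normal subgroup of order prime to `p` and `p`-power index. -/
theorem tate_normalized (P : Sylow p G) (N : Subgroup G)
    (hPN : (P : Subgroup G) ≤ normalizer (N : Set G))
    (h : N ⊓ (P : Subgroup G) ≤ (frattini P).map (P : Subgroup G).subtype) :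
    ∃ M : Subgroup N, M.Normal ∧ (Nat.card M).Coprime p ∧ ∃ j : ℕ, M.index = p ^ j := by
  have hp : p.Prime := Fact.out
  set H : Subgroup G := N ⊔ (P : Subgroup G) with hH
  have hPH : (P : Subgroup G) ≤ H := le_sup_right
  have hNH : N ≤ H := le_sup_left
  let PH : Sylow p H := P.subtype hPH
  have hPHcoe : (PH : Subgroup H) = (P : Subgroup G).subgroupOf H := Sylow.coe_subtype P hPH
  let NH : Subgroup H := N.subgroupOf H
  haveI hNHn : NH.Normal :=
    (normal_subgroupOf_iff_le_normalizer hNH).2 (sup_le le_normalizer hPN)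
  have hsup : NH ⊔ (PH : Subgroup H) = ⊤ := by
    rw [hPHcoe, ← subgroupOf_sup hNH hPH, subgroupOf_self]
  -- transport of the Frattini hypothesis
  let e : (P : Subgroup G) ≃* ((P : Subgroup G).subgroupOf H) := (subgroupOfEquivOfLe hPH).symm
  have hfr : NH ⊓ (PH : Subgroup H) ≤
      (frattiniP p (PH : Subgroup H)).map (PH : Subgroup H).subtype := by
    intro x hx
    obtain ⟨hxN, hxP⟩ := hx
    have hxN' : (x : G) ∈ N := mem_subgroupOf.1 hxN
    have hxP' : (x : G) ∈ (P : Subgroup G) := by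
      rw [hPHcoe] at hxP
      exact mem_subgroupOf.1 hxP
    obtain ⟨f, hf, hfx⟩ := h ⟨hxN', hxP'⟩
    have hf' : f ∈ frattiniP p (P : Subgroup G) := frattini_le_frattiniP hf
    have h1 : e f ∈ (frattiniP p (P : Subgroup G)).map e.toMonoidHom := mem_map_of_mem _ hf'
    have h2 := map_frattiniP_le (p := p) e.toMonoidHom h1
    have hex : ((e f : (P : Subgroup G).subgroupOf H) : H) = x := by
      apply Subtype.ext
      have : (((e f : (P : Subgroup G).subgroupOf H) : H) : G) = (f : G) := by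
        have h3 : ((subgroupOfEquivOfLe hPH (e f) : (P : Subgroup G)) : G) = (f : G) := by
          rw [(subgroupOfEquivOfLe hPH).apply_symm_apply f]
        exact h3
      rw [this]; exact hfx
    refine ⟨⟨x, hxP⟩, ?_, rfl⟩
    have : (⟨x, hxP⟩ : (PH : Subgroup H)) = e f := Subtype.ext hex.symm
    rw [this]
    exact h2
  obtain ⟨hKN, hKcop⟩ := tate_sup_eq_top PH NH hsup hfr
  -- the normal `p`-complement
  set KH : Subgroup H := pResidual p H with hKH
  obtain ⟨k, hk⟩ : ∃ k, KH.index = p ^ k := by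
    obtain ⟨k, hk⟩ := (quotient_pResidual_isPGroup (G := H) (p := p)).exists_card_eq
    exact ⟨k, by rw [index_eq_card]; exact hk⟩
  let KG : Subgroup G := KH.map H.subtype
  have hKGN : KG ≤ N := by
    rintro _ ⟨x, hx, rfl⟩
    exact mem_subgroupOf.1 (hKN hx)
  have hKGH : KG ≤ H := map_subtype_le KH
  let M : Subgroup N := KG.subgroupOf N
  have hMn : M.Normal := by
    constructor
    intro m hm n
    rw [mem_subgroupOf] at hm ⊢
    obtain ⟨x, hx, hxm⟩ := hm
    have hnH : (n : G) ∈ H := hNH n.2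
    refine ⟨⟨n, hnH⟩ * x * ⟨n, hnH⟩⁻¹, (inferInstance : KH.Normal).conj_mem x hx _, ?_⟩
    simp only [coe_mul, coe_inv, subtype_apply, map_mul, map_inv] at hxm ⊢
    rw [hxm]
  have hMcard : Nat.card M = Nat.card KH := by
    rw [Nat.card_congr (subgroupOfEquivOfLe hKGN).toEquiv]
    exact (Nat.card_congr (KH.equivMapOfInjective _ H.subtype_injective).toEquiv).symm
  have hMidx : ∃ j, M.index = p ^ j := by
    have h1 : M.index = KG.relIndex N := rfl
    have h2 : KG.relIndex N * N.relIndex H = KG.relIndex H := relIndex_mul_relIndex KG N H hKGN hNH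
    have h3 : KG.relIndex H = KH.index := by
      unfold relIndex subgroupOf
      rw [comap_map_eq_self_of_injective H.subtype_injective]
    have h4 : M.index ∣ p ^ k := by
      rw [h1, ← hk, ← h3, ← h2]; exact dvd_mul_right _ _
    obtain ⟨j, -, hj⟩ := (Nat.dvd_prime_pow hp).1 h4
    exact ⟨j, hj⟩
  obtain ⟨j, hj⟩ := hMidx
  exact ⟨M, hMn, by rw [hMcard]; exact hKcop, j, hj⟩

end Tate

end Cfsg.Agent.Lib.Lead.TwoGen
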