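import Mathlib
import Cfsg.Prelude.Def_Local
import Cfsg.Agent.Lib.Lead.TwoGenA
import Cfsg.Agent.Lib.Helper1.Cores
import Cfsg.Agent.Lib.Helper1.Frattini
import Cfsg.Agent.Lib.Helper1.Gaschutz
import Cfsg.Agent.Lib.Helper9.Layer3
import Cfsg.Agent.Lib.Helper10.PComponent2
import Cfsg.Agent.Lib.Helper10.NarrowFit
import Cfsg.Agent.Lib.Helper16.SylowInf
import Cfsg.Agent.Lib.Helper18.TransferBasic

/-!
Two-generated Sylow subgroups, part B: groups `G` with `O_{p'}(G) = 1` whose Sylow `p`-subgroup `P`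
is nonabelian with `|P : Φ(P)| = p²` and such that `Φ(P)` contains no nontrivial normal subgroup of `G`.
-/

set_option autoImplicit false

namespace Cfsg.Agent.Lib.Lead.TwoGen

open Subgroup Cfsg Cfsg.Agent.Lib.Lead
open scoped commutatorElement

variable {G : Type*} [Group G]

theorem le_normalizer_of_conj_mem {S X : Subgroup G}
    (h : ∀ g ∈ S, ∀ z ∈ X, g * z * g⁻¹ ∈ X) : S ≤ normalizer (X : Set G) := by
  intro g hg
  rw [mem_normalizer_iff]
  intro z
  constructor
  · exact h g hg z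
  · intro hz
    have := h g⁻¹ (inv_mem hg) _ hz
    have e : g⁻¹ * (g * z * g⁻¹) * g⁻¹⁻¹ = z := by group
    rwa [e] at this

variable [Finite G] {p : ℕ} [Fact p.Prime] (P : Sylow p G)

theorem exists_gen (hgen : (frattini ↥(P : Subgroup G)).index = p ^ 2) (X : Subgroup G)
    (hPX : (P : Subgroup G) ≤ normalizer (X : Set G))
    (hX : ¬ X ⊓ (P : Subgroup G) ≤ (frattini ↥(P : Subgroup G)).map (P : Subgroup G).subtype) :
    ∃ x ∈ (P : Subgroup G), (∀ y ∈ (P : Subgroup G), ∃ n : ℤ, ∃ k ∈ X, y = x ^ n * k) ∧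
      ∀ a ∈ (P : Subgroup G), ∀ b ∈ (P : Subgroup G), ⁅a, b⁆ ∈ X := by
  have hKn : (X.subgroupOf (P : Subgroup G)).Normal := normal_subgroupOf_of_le_normalizer hPX
  have hK : ¬ X.subgroupOf (P : Subgroup G) ≤ frattini ↥(P : Subgroup G) := by
    intro hle
    apply hX
    rintro z ⟨hzX, hzP⟩
    exact ⟨⟨z, hzP⟩, hle (mem_subgroupOf.2 hzX), rfl⟩
  obtain ⟨x, hx⟩ := exists_zpowers_sup_eq_top hgen (X.subgroupOf (P : Subgroup G)) hK
  refine ⟨x, x.2, ?_, ?_⟩
  · intro y hy
    obtain ⟨n, k, hk, hyk⟩ := exists_eq_zpow_mul hx ⟨y, hy⟩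
    refine ⟨n, k, mem_subgroupOf.1 hk, ?_⟩
    have := congrArg Subtype.val hyk
    simpa using this
  · intro a ha b hb
    have h0 := comm_mem_of_zpowers_sup hx ⟨a, ha⟩ ⟨b, hb⟩
    rw [mem_subgroupOf] at h0
    have h1 : ((⁅(⟨a, ha⟩ : ↥(P : Subgroup G)), ⟨b, hb⟩⁆ : ↥(P : Subgroup G)) : G) = ⁅a, b⁆ := by
      simp [commutatorElement_def]
    rw [← h1]; exact h0

theorem meets_of_normal (hcore : pPrimeCore p G = ⊥)
    (hfrat : ((frattini ↥(P : Subgroup G)).map (P : Subgroup G).subtype).normalCore = ⊥)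
    (K : Subgroup G) [hKn : K.Normal] (hK : K ≠ ⊥) :
    ¬ K ⊓ (P : Subgroup G) ≤ (frattini ↥(P : Subgroup G)).map (P : Subgroup G).subtype := by
  intro hle
  have hPK : (P : Subgroup G) ≤ normalizer (K : Set G) := by
    rw [normalizer_eq_top_iff.mpr hKn]; exact le_top
  obtain ⟨M, hMn, hMc, j, hj⟩ := tate_normalized P K hPK hle
  have hMsub : (M.map K.subtype).IsSubnormal := hMn.isSubnormal.trans' hKn.isSubnormal
  have hMcard : (Nat.card (M.map K.subtype)).Coprime p := by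
    rw [card_map_of_injective K.subtype_injective]
    exact hMc
  have hMbot : M.map K.subtype ≤ pPrimeCore p G :=
    Cfsg.Agent.Lib.Helper10.subnormal_coprime_le_pPrimeCore p hMsub hMcard
  rw [hcore, le_bot_iff, map_eq_bot_iff_of_injective _ K.subtype_injective] at hMbot
  have hKp : IsPGroup p K := by
    apply IsPGroup.of_card (n := j)
    rw [← hj, hMbot, index_bot]
  have hKP : K ≤ (P : Subgroup G) :=
    (Cfsg.Agent.Lib.Helper1.le_pCore hKn hKp).trans (Cfsg.Agent.Lib.Helper1.pCore_le_sylow P)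
  have hKΦ : K ≤ (frattini ↥(P : Subgroup G)).map (P : Subgroup G).subtype :=
    fun z hz => hle ⟨hz, hKP hz⟩
  have h1 : K ≤ ((frattini ↥(P : Subgroup G)).map (P : Subgroup G).subtype).normalCore :=
    normal_le_normalCore.2 hKΦ
  rw [hfrat, le_bot_iff] at h1
  exact hK h1

theorem meets_of_component (hcore : pPrimeCore p G = ⊥) (X : Subgroup G)
    (hPX : (P : Subgroup G) ≤ normalizer (X : Set G)) {L : Subgroup G} (hL : IsComponent L)
    (hLX : L ≤ X) :
    ¬ X ⊓ (P : Subgroup G) ≤ (frattini ↥(P : Subgroup G)).map (P : Subgroup G).subtype := by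
  intro hle
  obtain ⟨M, hMn, hMc, j, hj⟩ := tate_normalized P X hPX hle
  let φ : ↥L →* ↥X ⧸ M := (QuotientGroup.mk' M).comp (Subgroup.inclusion hLX)
  haveI : Group.IsPerfect ↥L := hL.2.1
  have hQp : IsPGroup p (↥X ⧸ M) :=
    IsPGroup.of_card (n := j) (by rw [← index_eq_card]; exact hj)
  haveI : Group.IsNilpotent (↥X ⧸ M) := hQp.isNilpotent
  haveI : Group.IsPerfect φ.range := Group.IsPerfect.range φ
  have hss : Subsingleton φ.range := by
    by_contra h
    rw [not_subsingleton_iff_nontrivial] at h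
    exact Group.IsPerfect.not_isSolvable φ.range inferInstance
  have hLM : ∀ l : ↥L, Subgroup.inclusion hLX l ∈ M := by
    intro l
    have h1 : (⟨φ l, ⟨l, rfl⟩⟩ : φ.range) = 1 := Subsingleton.elim _ _
    have h2 : φ l = 1 := congrArg Subtype.val h1
    exact (QuotientGroup.eq_one_iff _).1 h2
  have hle' : L.subgroupOf X ≤ M := by
    intro z hz
    exact hLM ⟨z.1, mem_subgroupOf.1 hz⟩
  have hd : Nat.card (L.subgroupOf X) ∣ Nat.card M := card_dvd_of_le hle'
  rw [Nat.card_congr (subgroupOfEquivOfLe hLX).toEquiv] at hd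
  have hcardL : (Nat.card L).Coprime p := Nat.Coprime.coprime_dvd_left hd hMc
  have h3 : L ≤ pPrimeCore p G :=
    Cfsg.Agent.Lib.Helper10.subnormal_coprime_le_pPrimeCore p hL.1 hcardL
  rw [hcore, le_bot_iff] at h3
  exact Cfsg.Agent.Lib.Helper9.comp_ne_bot hL h3

end Cfsg.Agent.Lib.Lead.TwoGen
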