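import Mathlib
import Cfsg.Prelude.Def_Local
import Cfsg.Agent.Lib.Lead.TwoGenB

/-!
Two-generated Sylow subgroups, part C: the main structure theorem.
-/

set_option autoImplicit false

namespace Cfsg.Agent.Lib.Lead.TwoGen

open Subgroup Cfsg Cfsg.Agent.Lib.Lead
open scoped commutatorElement

variable {G : Type*} [Group G] [Finite G] {p : ℕ} [Fact p.Prime]

set_option maxHeartbeats 1600000 in
theorem main (P : Sylow p G) (hna : ¬ IsMulCommutative (P : Subgroup G))
    (hgen : (frattini ↥(P : Subgroup G)).index = p ^ 2) (hcore : pPrimeCore p G = ⊥)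
    (hfrat : ((frattini ↥(P : Subgroup G)).map (P : Subgroup G).subtype).normalCore = ⊥) :
    (generalizedFittingSubgroup G ≠ ⊥ ∧
        ∀ K : Subgroup G, K.Normal → K ≠ ⊥ → generalizedFittingSubgroup G ≤ K) ∧
      (∃ x ∈ (P : Subgroup G), ∀ y ∈ (P : Subgroup G),
        ∃ n : ℤ, ∃ k ∈ generalizedFittingSubgroup G, y = x ^ n * k) ∧
      (¬ IsMulCommutative (generalizedFittingSubgroup G) →
        ∀ K L : Subgroup G, IsComponent K → IsComponent L →
          ∃ x ∈ (P : Subgroup G), L = K.map (MulAut.conj x).toMonoidHom) := by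
  classical
  have hp : p.Prime := Fact.out
  have hPp : IsPGroup p ↥(P : Subgroup G) := P.2
  -- commutators of `P` lie in `Φ(P)`
  have hcommΦ : ∀ a ∈ (P : Subgroup G), ∀ b ∈ (P : Subgroup G),
      ⁅a, b⁆ ∈ (frattini ↥(P : Subgroup G)).map (P : Subgroup G).subtype := by
    intro a ha b hb
    refine ⟨⁅(⟨a, ha⟩ : ↥(P : Subgroup G)), ⟨b, hb⟩⁆, ?_, by simp [commutatorElement_def]⟩
    apply Cfsg.Agent.Lib.Helper1.IsPGroup.commutator_le_frattini hPp
    rw [_root_.commutator_def]
    exact commutator_mem_commutator (mem_top _) (mem_top _)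
  have hnc : ∃ a ∈ (P : Subgroup G), ∃ b ∈ (P : Subgroup G), ⁅a, b⁆ ≠ 1 := by
    by_contra hcon
    push Not at hcon
    apply hna
    refine ⟨⟨fun a b => ?_⟩⟩
    apply Subtype.ext
    have := hcon a a.2 b b.2
    rw [commutatorElement_eq_one_iff_mul_comm] at this
    simpa using this
  -- the unique minimal normal subgroup
  set N : Subgroup G := ⨅ K : {K : Subgroup G // K.Normal ∧ K ≠ ⊥}, K.1 with hNdef
  have hNn : N.Normal := normal_iInf_normal (fun K => K.2.1)
  have hNle : ∀ K : Subgroup G, K.Normal → K ≠ ⊥ → N ≤ K := fun K h1 h2 =>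
    iInf_le (fun K : {K : Subgroup G // K.Normal ∧ K ≠ ⊥} => K.1) ⟨K, h1, h2⟩
  have hnormP : ∀ K : Subgroup G, K.Normal → (P : Subgroup G) ≤ normalizer (K : Set G) := by
    intro K hK
    rw [normalizer_eq_top_iff.mpr hK]; exact le_top
  have hcommN : ∀ a ∈ (P : Subgroup G), ∀ b ∈ (P : Subgroup G), ⁅a, b⁆ ∈ N := by
    intro a ha b hb
    rw [hNdef, mem_iInf]
    rintro ⟨K, hKn, hKne⟩
    haveI := hKn
    obtain ⟨-, -, -, h⟩ :=
      exists_gen P hgen K (hnormP K hKn) (meets_of_normal P hcore hfrat K hKne)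
    exact h a ha b hb
  have hNne : N ≠ ⊥ := by
    obtain ⟨a, ha, b, hb, hab⟩ := hnc
    intro h
    have := hcommN a ha b hb
    rw [h, mem_bot] at this
    exact hab this
  have hNmeets := meets_of_normal P hcore hfrat N hNne
  obtain ⟨x, hxP, hxgen, -⟩ := exists_gen P hgen N (hnormP N hNn) hNmeets
  -- the Fitting subgroup
  set Q : Subgroup G := fittingSubgroup G with hQdef
  have hQn : Q.Normal := Cfsg.Agent.Lib.Helper1.fittingSubgroup_normal
  have hQle : Q ≤ pCore p G := by
    have := Cfsg.Agent.Lib.Helper10.fittingSubgroup_le_pPrimeCore_sup_pCore (G := G) p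
    rwa [hcore, bot_sup_eq] at this
  have hQP : Q ≤ (P : Subgroup G) := hQle.trans (Cfsg.Agent.Lib.Helper1.pCore_le_sylow P)
  have hQp : IsPGroup p ↥Q := (Cfsg.Agent.Lib.Helper1.pCore_isPGroup p).to_le hQle
  have habn : ∀ A : Subgroup G, A.Normal → (∀ a ∈ A, ∀ b ∈ A, a * b = b * a) → A ≤ Q := by
    intro A hA hc
    haveI : IsMulCommutative ↥A := ⟨⟨fun a b => Subtype.ext (hc a a.2 b b.2)⟩⟩
    exact Cfsg.Agent.Lib.Helper1.le_fittingSubgroup hA
      Cfsg.Agent.Lib.Helper9.isNilpotent_of_isMulCommutative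
  set E : Subgroup G := layer G with hEdef
  have hEn : E.Normal := by
    haveI := Cfsg.Agent.Lib.Helper9.layer_characteristic (G := G)
    infer_instance
  have hF : generalizedFittingSubgroup G = E ⊔ Q := rfl
  by_cases hQ : Q = ⊥
  · ---------------- Case B: `F(G) = 1`
    have hFE : generalizedFittingSubgroup G = E := by rw [hF, hQ, sup_bot_eq]
    have hEne : E ≠ ⊥ := by
      intro hE
      have h1 := Cfsg.Agent.Lib.Helper9.centralizer_gfs_le (G := G)
      rw [hFE, hE] at h1
      apply hNne
      rw [eq_bot_iff]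
      intro z _
      apply h1
      rw [mem_centralizer_iff]
      intro h hh
      rw [SetLike.mem_coe, mem_bot] at hh
      subst hh
      simp
    have hNE : N ≤ E := hNle E hEn hEne
    have hNnab : ¬ (∀ a ∈ N, ∀ b ∈ N, a * b = b * a) := by
      intro hc
      have := habn N hNn hc
      rw [hQ, le_bot_iff] at this
      exact hNne this
    have hEN : E ≤ N := by
      apply sSup_le
      intro L hL
      rcases Cfsg.Agent.Lib.Helper9.comp_le_or_commutator_eq_bot hL hNn.isSubnormal with h | h
      · exact h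
      · exfalso
        rw [commutator_eq_bot_iff_le_centralizer] at h
        haveI := hNn
        have hCn : (centralizer (N : Set G)).Normal := inferInstance
        have hCne : centralizer (N : Set G) ≠ ⊥ := by
          intro h0
          rw [h0, le_bot_iff] at h
          exact Cfsg.Agent.Lib.Helper9.comp_ne_bot hL h
        have hNC := hNle _ hCn hCne
        apply hNnab
        intro a ha b hb
        exact (mem_centralizer_iff.1 (hNC hb)) a ha
    refine ⟨⟨?_, ?_⟩, ?_, ?_⟩
    · rw [hFE]; exact hEne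
    · intro K hK hKne
      rw [hFE]; exact hEN.trans (hNle K hK hKne)
    · refine ⟨x, hxP, ?_⟩
      intro y hy
      obtain ⟨n, k, hk, rfl⟩ := hxgen y hy
      exact ⟨n, k, hFE ▸ hNE hk, rfl⟩
    · intro _ K L hK hL
      by_contra hcon
      push Not at hcon
      set N₁ : Subgroup G :=
        ⨆ y : ↥(P : Subgroup G), K.map (MulAut.conj (y : G)).toMonoidHom with hN₁
      have hKy : ∀ y : ↥(P : Subgroup G),
          IsComponent (K.map (MulAut.conj (y : G)).toMonoidHom) :=
        fun y => Cfsg.Agent.Lib.Helper9.isComponent_conj hK y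
      have hstab : ∀ g ∈ (P : Subgroup G), N₁.map (MulAut.conj g).toMonoidHom ≤ N₁ := by
        intro g hg
        rw [hN₁, Subgroup.map_iSup]
        apply iSup_le
        intro y
        rw [map_map]
        have e : (MulAut.conj g).toMonoidHom.comp (MulAut.conj (y : G)).toMonoidHom =
            (MulAut.conj (g * y)).toMonoidHom := by
          ext z; simp [MulAut.conj_apply, mul_assoc]
        rw [e]
        exact le_iSup (fun y : ↥(P : Subgroup G) => K.map (MulAut.conj (y : G)).toMonoidHom)
          ⟨g * y, mul_mem hg y.2⟩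
      have hconj : ∀ g ∈ (P : Subgroup G), ∀ h ∈ N₁, g * h * g⁻¹ ∈ N₁ := fun g hg h hh =>
        hstab g hg ⟨h, hh, by simp [MulAut.conj_apply]⟩
      have hPN₁ : (P : Subgroup G) ≤ normalizer (N₁ : Set G) := le_normalizer_of_conj_mem hconj
      have hPN₂ : (P : Subgroup G) ≤ normalizer ((centralizer (N₁ : Set G) : Subgroup G) : Set G) := by
        apply le_normalizer_of_conj_mem
        intro g hg c hc
        rw [mem_centralizer_iff]
        intro h hh
        have h1 : g⁻¹ * h * g ∈ N₁ := by simpa using hconj g⁻¹ (inv_mem hg) h hh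
        have h2 := mem_centralizer_iff.1 hc _ h1
        calc h * (g * c * g⁻¹) = g * (g⁻¹ * h * g * c) * g⁻¹ := by group
          _ = g * (c * (g⁻¹ * h * g)) * g⁻¹ := by rw [h2]
          _ = g * c * g⁻¹ * h := by group
      have hKN₁ : K ≤ N₁ := by
        intro k hk
        exact mem_iSup_of_mem (1 : ↥(P : Subgroup G)) ⟨k, hk, by simp⟩
      have hLN₂ : L ≤ centralizer (N₁ : Set G) := by
        rw [le_centralizer_iff]
        apply iSup_le
        intro y
        rw [← commutator_eq_bot_iff_le_centralizer]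
        exact Cfsg.Agent.Lib.Helper9.comp_commutator_eq_bot_of_ne (hKy y) hL
          (Ne.symm (hcon y y.2))
      have hm₁ := meets_of_component P hcore N₁ hPN₁ hK hKN₁
      have hm₂ := meets_of_component P hcore (centralizer (N₁ : Set G)) hPN₂ hL hLN₂
      obtain ⟨-, -, -, h₁⟩ := exists_gen P hgen N₁ hPN₁ hm₁
      obtain ⟨-, -, -, h₂⟩ := exists_gen P hgen (centralizer (N₁ : Set G)) hPN₂ hm₂
      have hinf : ∀ z ∈ N₁, z ∈ centralizer (N₁ : Set G) → z = 1 := by
        intro z hz1 hz2
        have hEz : E ≤ centralizer ({z} : Set G) := by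
          apply sSup_le
          intro L' hL'
          by_cases hex : ∃ y : ↥(P : Subgroup G), L' = K.map (MulAut.conj (y : G)).toMonoidHom
          · obtain ⟨y, rfl⟩ := hex
            intro l hl
            rw [mem_centralizer_iff]
            intro h hh
            rw [Set.mem_singleton_iff] at hh
            subst hh
            have hlN₁ : l ∈ N₁ := mem_iSup_of_mem y hl
            exact ((mem_centralizer_iff.1 hz2) l hlN₁).symm
          · push Not at hex
            have hL'c : L' ≤ centralizer (N₁ : Set G) := by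
              rw [le_centralizer_iff]
              apply iSup_le
              intro y
              rw [← commutator_eq_bot_iff_le_centralizer]
              exact Cfsg.Agent.Lib.Helper9.comp_commutator_eq_bot_of_ne (hKy y) hL'
                (Ne.symm (hex y))
            intro l hl
            rw [mem_centralizer_iff]
            intro h hh
            rw [Set.mem_singleton_iff] at hh
            subst hh
            exact (mem_centralizer_iff.1 (hL'c hl)) h hz1
        have hzE : z ∈ centralizer (E : Set G) := by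
          rw [mem_centralizer_iff]
          intro e he
          exact ((mem_centralizer_iff.1 (hEz he)) z rfl).symm
        have hzE' : z ∈ E := by
          have h1 := Cfsg.Agent.Lib.Helper9.centralizer_gfs_le (G := G)
          rw [hFE] at h1
          exact h1 hzE
        have hZ : E ⊓ centralizer (E : Set G) ≤ Q := by
          haveI := hEn
          apply habn _ inferInstance
          intro a ha b hb
          exact (mem_centralizer_iff.1 hb.2) a ha.1
        have := hZ ⟨hzE', hzE⟩
        rw [hQ, mem_bot] at this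
        exact this
      obtain ⟨a, ha, b, hb, hab⟩ := hnc
      exact hab (hinf _ (h₁ a ha b hb) (h₂ a ha b hb))
  · ---------------- Case A: `F(G) ≠ 1`
    have hNQ : N ≤ Q := hNle Q hQn hQ
    have hNP : N ≤ (P : Subgroup G) := hNQ.trans hQP
    -- (A1) no components
    have hE : E = ⊥ := by
      by_contra hE
      have hNE : N ≤ E := hNle E hEn hE
      apply hNmeets
      rintro z ⟨hzN, hzP⟩
      have h1 : z ∈ ⁅(P : Subgroup G) ⊓ E, (P : Subgroup G) ⊓ E⁆ := by
        haveI := hEn
        apply Cfsg.Agent.Lib.Helper18.Transfer.transfer_central (p := p) E ((P : Subgroup G) ⊓ E)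
          inf_le_right
        · rw [inf_relIndex_right]
          have := (Cfsg.Agent.Lib.Helper16.sylowInf P E).not_dvd_index
          rw [Cfsg.Agent.Lib.Helper16.coe_sylowInf] at this
          exact this
        · rw [hEdef, Cfsg.Agent.Lib.Helper9.layer_perfect]; exact hNE hzN
        · intro c hc
          have hcomm := Cfsg.Agent.Lib.Helper9.commutator_layer_fitting (G := G)
          rw [commutator_eq_bot_iff_le_centralizer] at hcomm
          exact ((mem_centralizer_iff.1 (hcomm hc)) z (hNQ hzN)).symm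
        · obtain ⟨k, hk⟩ := hQp ⟨z, hNQ hzN⟩
          exact ⟨k, by simpa using congrArg Subtype.val hk⟩
      have h2 : ⁅(P : Subgroup G) ⊓ E, (P : Subgroup G) ⊓ E⁆ ≤
          (frattini ↥(P : Subgroup G)).map (P : Subgroup G).subtype := by
        rw [commutator_le]
        intro a ha b hb
        exact hcommΦ a ha.1 b hb.1
      exact h2 h1
    have hFQ : generalizedFittingSubgroup G = Q := by rw [hF, hE, bot_sup_eq]
    -- (A2) `Q` is elementary abelian
    have hΦQ : frattini ↥Q = ⊥ := by
      by_contra hne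
      haveI := hQn
      have hΦn : ((frattini ↥Q).map Q.subtype).Normal := inferInstance
      have hne' : (frattini ↥Q).map Q.subtype ≠ ⊥ := by
        rwa [Ne, map_eq_bot_iff_of_injective _ Q.subtype_injective]
      have hNΦ : N ≤ (frattini ↥Q).map Q.subtype := hNle _ hΦn hne'
      apply hNmeets
      rintro z ⟨hzN, -⟩
      obtain ⟨f, hf, rfl⟩ := hNΦ hzN
      have hf' : f ∈ frattiniP p ↥Q := frattini_le_frattiniP hf
      have h1 : (Subgroup.inclusion hQP) f ∈ (frattiniP p ↥Q).map (Subgroup.inclusion hQP) :=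
        mem_map_of_mem _ hf'
      have h2 := map_frattiniP_le_frattini hPp (Subgroup.inclusion hQP) h1
      exact ⟨Subgroup.inclusion hQP f, h2, rfl⟩
    have hQcomm : ∀ a ∈ Q, ∀ b ∈ Q, a * b = b * a := by
      intro a ha b hb
      have h1 : ⁅(⟨a, ha⟩ : ↥Q), ⟨b, hb⟩⁆ ∈ frattini ↥Q := by
        apply Cfsg.Agent.Lib.Helper1.IsPGroup.commutator_le_frattini hQp
        rw [_root_.commutator_def]
        exact commutator_mem_commutator (mem_top _) (mem_top _)
      rw [hΦQ, mem_bot, commutatorElement_eq_one_iff_mul_comm] at h1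
      exact congrArg Subtype.val h1
    have hQexp : ∀ a ∈ Q, a ^ p = 1 := by
      intro a ha
      have h1 := Cfsg.Agent.Lib.Helper1.IsPGroup.pow_mem_frattini hQp (⟨a, ha⟩ : ↥Q)
      rw [hΦQ, mem_bot] at h1
      simpa using congrArg Subtype.val h1
    -- (A3) `Q = N`
    have hQN : Q ≤ N := by
      by_contra hcon
      obtain ⟨q₀, hq₀Q, hq₀N⟩ := SetLike.not_le_iff_exists.1 hcon
      obtain ⟨n, k, hk, hq₀⟩ := hxgen q₀ (hQP hq₀Q)
      have hyQ : x ^ n ∈ Q := by
        have e : x ^ n = q₀ * k⁻¹ := by rw [hq₀]; group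
        rw [e]; exact mul_mem hq₀Q (inv_mem (hNQ hk))
      have hyN : x ^ n ∉ N := by
        intro h; apply hq₀N; rw [hq₀]; exact mul_mem h hk
      have hyp : (x ^ n) ^ p = 1 := hQexp _ hyQ
      -- orders of `x` and of its image modulo `N`
      haveI := hNn
      set xb : G ⧸ N := (x : G ⧸ N) with hxb
      have hmemN : ∀ m : ℤ, x ^ m ∈ N ↔ ((orderOf xb : ℕ) : ℤ) ∣ m := by
        intro m
        rw [orderOf_dvd_iff_zpow_eq_one, hxb, ← QuotientGroup.mk_zpow, QuotientGroup.eq_one_iff]
      obtain ⟨k₀, hk₀⟩ := hPp ⟨x, hxP⟩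
      have hk₀' : x ^ p ^ k₀ = 1 := by simpa using congrArg Subtype.val hk₀
      obtain ⟨a, -, ha⟩ := (Nat.dvd_prime_pow hp).1 (orderOf_dvd_of_pow_eq_one hk₀')
      have hdvd : orderOf xb ∣ orderOf x := orderOf_map_dvd (QuotientGroup.mk' N) x
      obtain ⟨b, hb, hb'⟩ := (Nat.dvd_prime_pow hp).1 (ha ▸ hdvd)
      have hord : orderOf xb = orderOf x := by
        by_contra hne
        have hba : b ≠ a := fun h => hne (by rw [hb', ha, h])
        have hlt : b + 1 ≤ a := by omega
        have h1 : orderOf xb * p ∣ orderOf x := by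
          rw [hb', ha, ← pow_succ]; exact pow_dvd_pow p hlt
        have h2 : ((orderOf x : ℕ) : ℤ) ∣ n * p := by
          rw [orderOf_dvd_iff_zpow_eq_one, zpow_mul]
          exact_mod_cast hyp
        have h3 : ((orderOf xb * p : ℕ) : ℤ) ∣ n * p := (Int.natCast_dvd_natCast.2 h1).trans h2
        have h4 : ((orderOf xb : ℕ) : ℤ) ∣ n := by
          rw [Nat.cast_mul] at h3
          exact (mul_dvd_mul_iff_right (by exact_mod_cast hp.ne_zero)).1 h3
        exact hyN ((hmemN n).2 h4)
      -- `⟨x⟩` is a complement of `N` in `P`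
      have hAN : zpowers x ⊓ N = ⊥ := by
        rw [eq_bot_iff]
        rintro w ⟨hwA, hwN⟩
        obtain ⟨m, rfl⟩ := mem_zpowers_iff.1 hwA
        have h1 := (hmemN m).1 hwN
        rw [hord, orderOf_dvd_iff_zpow_eq_one] at h1
        rw [mem_bot]; exact h1
      have hNA : N ⊔ zpowers x = (P : Subgroup G) := by
        apply le_antisymm (sup_le hNP ((zpowers_le).2 hxP))
        intro y hy
        obtain ⟨n', k', hk', rfl⟩ := hxgen y hy
        exact mul_mem (mem_sup_right (zpow_mem (mem_zpowers x) n')) (mem_sup_left hk')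
      haveI : IsMulCommutative ↥N :=
        ⟨⟨fun a b => Subtype.ext (hQcomm a (hNQ a.2) b (hNQ b.2))⟩⟩
      have hcop : (Nat.card N).Coprime (P : Subgroup G).index := by
        obtain ⟨m, hm⟩ := (hQp.to_le hNQ).exists_card_eq
        rw [hm]
        exact Nat.Coprime.pow_left m ((Nat.Prime.coprime_iff_not_dvd hp).2 P.not_dvd_index)
      obtain ⟨H, hH⟩ := Cfsg.Agent.Lib.Helper1.Gaschutz.exists_isComplement' N (P : Subgroup G)
        hNP hcop (zpowers x) hAN hNA
      have hQHn : (Q ⊓ H).Normal := by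
        constructor
        intro z hz g
        have hg : g ∈ N ⊔ H := hH.sup_eq_top ▸ mem_top g
        rw [mem_sup_of_normal_left] at hg
        obtain ⟨n₀, hn₀, h₀, hh₀, rfl⟩ := hg
        have hz'Q : h₀ * z * h₀⁻¹ ∈ Q := hQn.conj_mem z hz.1 h₀
        have hz'H : h₀ * z * h₀⁻¹ ∈ H := mul_mem (mul_mem hh₀ hz.2) (inv_mem hh₀)
        have hc := hQcomm n₀ (hNQ hn₀) _ hz'Q
        have e : n₀ * h₀ * z * (n₀ * h₀)⁻¹ = h₀ * z * h₀⁻¹ := by
          have e' : n₀ * h₀ * z * (n₀ * h₀)⁻¹ = n₀ * (h₀ * z * h₀⁻¹) * n₀⁻¹ := by group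
          rw [e', hc, mul_inv_cancel_right]
        rw [e]
        exact ⟨hz'Q, hz'H⟩
      have hQHne : Q ⊓ H ≠ ⊥ := by
        intro h0
        apply hq₀N
        have hg : q₀ ∈ N ⊔ H := hH.sup_eq_top ▸ mem_top q₀
        rw [mem_sup_of_normal_left] at hg
        obtain ⟨n₀, hn₀, h₀, hh₀, e⟩ := hg
        have hh₀Q : h₀ ∈ Q := by
          have e' : h₀ = n₀⁻¹ * q₀ := by rw [← e]; group
          rw [e']; exact mul_mem (inv_mem (hNQ hn₀)) hq₀Q
        have : h₀ ∈ Q ⊓ H := ⟨hh₀Q, hh₀⟩
        rw [h0, mem_bot] at this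
        rw [← e, this, mul_one]; exact hn₀
      have h5 : N ≤ Q ⊓ H := hNle _ hQHn hQHne
      have h6 : N ≤ N ⊓ H := le_inf le_rfl (h5.trans inf_le_right)
      rw [hH.disjoint.eq_bot, le_bot_iff] at h6
      exact hNne h6
    have hFN : generalizedFittingSubgroup G = N := by
      rw [hFQ]; exact le_antisymm hQN hNQ
    refine ⟨⟨?_, ?_⟩, ?_, ?_⟩
    · rw [hFN]; exact hNne
    · intro K hK hKne
      rw [hFN]; exact hNle K hK hKne
    · refine ⟨x, hxP, ?_⟩
      intro y hy
      obtain ⟨n, k, hk, rfl⟩ := hxgen y hy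
      exact ⟨n, k, hFN ▸ hk, rfl⟩
    · intro hnc'
      exfalso
      apply hnc'
      have hQc : IsMulCommutative ↥Q := ⟨⟨fun a b => Subtype.ext (hQcomm a a.2 b b.2)⟩⟩
      rw [hFQ]
      exact hQc

end Cfsg.Agent.Lib.Lead.TwoGen
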