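import Mathlib
import Cfsg.Agent.Lib.Lead.PrimDerB

set_option autoImplicit false
set_option linter.style.haveILetI false
set_option linter.unusedSectionVars false

/-! Sylow helper lemmas (ambient subgroup versions) and a lemma on normal subgroups of order
`2 * odd` in 2-transitive groups. -/

namespace Cfsg.Agent.Lib.Lead.TwoTransA

open MulAction
open scoped Pointwise
open Cfsg.Agent.Lib.Lead.PrimDerB

section sylow
variable {G : Type*} [Group G] [Finite G] (p : ℕ) [Fact p.Prime]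

theorem exists_sylow_card (L : Subgroup G) : ∃ P : Subgroup G, P ≤ L ∧ IsPGroup p P ∧
    Nat.card P = p ^ (Nat.card L).factorization p := by
  obtain ⟨Q⟩ := (inferInstance : Nonempty (Sylow p L))
  have hc : Nat.card ((Q : Subgroup L).map L.subtype) = p ^ (Nat.card L).factorization p := by
    rw [Subgroup.card_map_of_injective L.subtype_injective]
    exact Q.card_eq_multiplicity
  exact ⟨(Q : Subgroup L).map L.subtype, Subgroup.map_subtype_le _, IsPGroup.of_card hc, hc⟩

theorem exists_sylow_ge (L P : Subgroup G) (hPL : P ≤ L) (hP : IsPGroup p P) :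
    ∃ S : Subgroup G, P ≤ S ∧ S ≤ L ∧ IsPGroup p S ∧
      Nat.card S = p ^ (Nat.card L).factorization p := by
  have hP' : IsPGroup p (P.subgroupOf L) := hP.comap_subtype
  obtain ⟨Q, hQ⟩ := hP'.exists_le_sylow
  have hc : Nat.card ((Q : Subgroup L).map L.subtype) = p ^ (Nat.card L).factorization p := by
    rw [Subgroup.card_map_of_injective L.subtype_injective]
    exact Q.card_eq_multiplicity
  refine ⟨(Q : Subgroup L).map L.subtype, ?_, Subgroup.map_subtype_le _, IsPGroup.of_card hc, hc⟩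
  intro x hx
  exact ⟨⟨x, hPL hx⟩, hQ (by rw [Subgroup.mem_subgroupOf]; exact hx), rfl⟩

theorem card_le_of_pgroup (L Q : Subgroup G) (hQL : Q ≤ L) (hQ : IsPGroup p Q) :
    Nat.card Q ≤ p ^ (Nat.card L).factorization p := by
  obtain ⟨k, hk⟩ := IsPGroup.iff_card.mp hQ
  have hdvd : p ^ k ∣ Nat.card L := hk ▸ Subgroup.card_dvd_of_le hQL
  have hpos : Nat.card L ≠ 0 := Nat.card_pos.ne'
  have hle : k ≤ (Nat.card L).factorization p :=
    (Nat.Prime.pow_dvd_iff_le_factorization (Fact.out : p.Prime) hpos).mp hdvd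
  rw [hk]
  exact Nat.pow_le_pow_right (Fact.out : p.Prime).pos hle

theorem sylow_conj_in (D Q₁ Q₂ : Subgroup G) (h1 : Q₁ ≤ D) (h2 : Q₂ ≤ D)
    (hc1 : Nat.card Q₁ = p ^ (Nat.card D).factorization p)
    (hc2 : Nat.card Q₂ = p ^ (Nat.card D).factorization p) :
    ∃ d ∈ D, ∀ x ∈ Q₁, d * x * d⁻¹ ∈ Q₂ := by
  have hcs1 : Nat.card (Q₁.subgroupOf D) = p ^ (Nat.card D).factorization p := by
    rw [← hc1]
    exact Nat.card_congr (Subgroup.subgroupOfEquivOfLe h1).toEquiv
  have hcs2 : Nat.card (Q₂.subgroupOf D) = p ^ (Nat.card D).factorization p := by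
    rw [← hc2]
    exact Nat.card_congr (Subgroup.subgroupOfEquivOfLe h2).toEquiv
  let S₁ : Sylow p D := Sylow.ofCard (Q₁.subgroupOf D) hcs1
  let S₂ : Sylow p D := Sylow.ofCard (Q₂.subgroupOf D) hcs2
  obtain ⟨c, hc⟩ := MulAction.exists_smul_eq D S₁ S₂
  refine ⟨(c : G), c.2, ?_⟩
  intro x hx
  have hx1 : (⟨x, h1 hx⟩ : D) ∈ (S₁ : Subgroup D) := by
    change (⟨x, h1 hx⟩ : D) ∈ Q₁.subgroupOf D
    rw [Subgroup.mem_subgroupOf]
    exact hx
  have hx2 : c * ⟨x, h1 hx⟩ * c⁻¹ ∈ ((c • S₁ : Sylow p D) : Subgroup D) := by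
    have h3 : ((c • S₁ : Sylow p D) : Subgroup D) = MulAut.conj c • (S₁ : Subgroup D) :=
      Sylow.coe_subgroup_smul
    rw [h3, Subgroup.mem_pointwise_smul_iff_inv_smul_mem]
    simpa [MulAut.smul_def, mul_assoc] using hx1
  rw [hc] at hx2
  have hx3 : c * ⟨x, h1 hx⟩ * c⁻¹ ∈ Q₂.subgroupOf D := hx2
  rw [Subgroup.mem_subgroupOf] at hx3
  simpa using hx3

end sylow

section lemmaX

/-- A normal subgroup of order not divisible by `4` in a faithful 2-transitive group on a set of
even size forces the set to have size `2`. -/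
theorem lemmaX {Γ : Type*} [Group Γ] [Finite Γ] {F : Type*} [Finite F] [MulAction Γ F]
    [FaithfulSMul Γ F] (h2 : IsMultiplyPretransitive Γ F 2) (hF : Even (Nat.card F))
    (Λ : Subgroup Γ) [hΛn : Λ.Normal] (hΛ : Λ ≠ ⊥) (h4 : ¬ 4 ∣ Nat.card Λ) :
    Nat.card F = 2 := by
  have hprim : IsPreprimitive Γ F := isPreprimitive_of_is_two_pretransitive h2
  have htrΛ : IsPretransitive Λ F := normal_pretransitive hprim Λ hΛ
  obtain ⟨x, hx, hx1⟩ : ∃ x ∈ Λ, x ≠ 1 := by
    by_contra hcon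
    push Not at hcon
    exact hΛ ((Subgroup.eq_bot_iff_forall _).mpr hcon)
  have hne : Nonempty F := by
    by_contra hemp
    rw [not_nonempty_iff] at hemp
    apply hx1
    apply FaithfulSMul.eq_of_smul_eq_smul (α := F)
    intro f
    exact (hemp.false f).elim
  obtain ⟨f₀⟩ := hne
  have hdvd : ∀ L : Subgroup Γ, IsPretransitive L F → Nat.card F ∣ Nat.card L := by
    intro L hL
    rw [← MulAction.index_stabilizer_of_transitive L f₀]
    exact Subgroup.index_dvd_card _
  have h2dvd : 2 ∣ Nat.card Λ := (even_iff_two_dvd.mp hF).trans (hdvd Λ htrΛ)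
  haveI : Fact (Nat.Prime 2) := ⟨Nat.prime_two⟩
  obtain ⟨Q⟩ := (inferInstance : Nonempty (Sylow 2 Λ))
  have hpos : Nat.card Λ ≠ 0 := Nat.card_pos.ne'
  have hv : (Nat.card Λ).factorization 2 = 1 := by
    have h1 : 1 ≤ (Nat.card Λ).factorization 2 :=
      (Nat.Prime.dvd_iff_one_le_factorization Nat.prime_two hpos).mp h2dvd
    have h2' : ¬ 2 ≤ (Nat.card Λ).factorization 2 := by
      intro h
      apply h4
      have := (Nat.Prime.pow_dvd_iff_le_factorization Nat.prime_two hpos).mpr h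
      simpa using this
    omega
  have hQcard : Nat.card Q = 2 := by
    rw [Q.card_eq_multiplicity, hv, pow_one]
  have hQc : IsCyclic Q := by
    haveI : Fact (Nat.card Q).Prime := ⟨by rw [hQcard]; exact Nat.prime_two⟩
    exact isCyclic_of_prime_card (p := Nat.card Q) rfl
  have hmin : (Nat.card Λ).minFac = 2 := (Nat.minFac_eq_two_iff _).mpr h2dvd
  obtain ⟨K, hKn, hKc⟩ : ∃ K : Subgroup Λ, K.Normal ∧ K.IsComplement' Q :=
    ⟨_, inferInstance, IsCyclic.isComplement' hmin hQc⟩
  have hKcard : Nat.card K * 2 = Nat.card Λ := by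
    rw [← hQcard]
    exact hKc.card_mul_card
  have hKidx : K.index = 2 := by
    rw [hKc.symm.index_eq_card, hQcard]
  have hKodd : ¬ 2 ∣ Nat.card K := by
    intro h
    apply h4
    obtain ⟨k, hk⟩ := h
    rw [← hKcard, hk]
    exact ⟨k, by ring⟩
  -- characterization of K
  have hchar : ∀ y : Λ, y ∈ K ↔ Odd (orderOf y) := by
    intro y
    constructor
    · intro hy
      have h1 : orderOf (⟨y, hy⟩ : K) ∣ Nat.card K := orderOf_dvd_natCard _
      have h2 : orderOf (⟨y, hy⟩ : K) = orderOf y := Subgroup.orderOf_mk y hy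
      rw [h2] at h1
      rw [← Nat.not_even_iff_odd, even_iff_two_dvd]
      intro h
      exact hKodd (h.trans h1)
    · intro hy
      obtain ⟨k, hk⟩ := hy
      have h1 : y * y ∈ K := Subgroup.mul_self_mem_of_index_two hKidx y
      have h2 : y = (y * y) ^ (k + 1) := by
        rw [← pow_two, ← pow_mul]
        have : 2 * (k + 1) = orderOf y + 1 := by rw [hk]; ring
        rw [this, pow_succ, pow_orderOf_eq_one, one_mul]
      rw [h2]
      exact K.pow_mem h1 _
  -- K is normal in Γ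
  let K' : Subgroup Γ := K.map Λ.subtype
  have hK'n : K'.Normal := by
    constructor
    rintro _ ⟨k, hk, rfl⟩ γ
    have hmem : γ * (k : Γ) * γ⁻¹ ∈ Λ := hΛn.conj_mem _ k.2 γ
    refine ⟨⟨γ * (k : Γ) * γ⁻¹, hmem⟩, ?_, rfl⟩
    rw [SetLike.mem_coe, hchar]
    have h1 : Odd (orderOf k) := (hchar k).mp hk
    have h2 : orderOf (⟨γ * (k : Γ) * γ⁻¹, hmem⟩ : Λ) = orderOf k := by
      rw [← Subgroup.orderOf_coe, ← Subgroup.orderOf_coe k]
      have hs : SemiconjBy γ (k : Γ) (γ * (k : Γ) * γ⁻¹) := by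
        rw [SemiconjBy]; simp
      exact hs.orderOf_eq.symm
    rw [h2]
    exact h1
  have hK'card : Nat.card K' = Nat.card K :=
    Subgroup.card_map_of_injective Λ.subtype_injective
  have hK'bot : K' = ⊥ := by
    by_contra hne
    have htr : IsPretransitive K' F := normal_pretransitive hprim K' hne
    have h1 := hdvd K' htr
    rw [hK'card] at h1
    exact hKodd ((even_iff_two_dvd.mp hF).trans h1)
  have hK1 : Nat.card K = 1 := by
    rw [← hK'card, hK'bot]
    exact Subgroup.card_bot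
  have hΛ2 : Nat.card Λ = 2 := by rw [← hKcard, hK1]
  have h3 := hdvd Λ htrΛ
  rw [hΛ2] at h3
  have h5 : Nat.card F ≤ 2 := Nat.le_of_dvd (by norm_num) h3
  haveI : Nonempty F := ⟨f₀⟩
  have h6 : Nat.card F ≠ 0 := Nat.card_pos.ne'
  obtain ⟨k, hk⟩ := hF
  omega

end lemmaX

end Cfsg.Agent.Lib.Lead.TwoTransA
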