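import Mathlib
import Cfsg.Agent.Lib.Lead.TwoTransA

set_option autoImplicit false
set_option linter.style.haveILetI false
set_option linter.unusedSectionVars false

/-! In a 2-transitive group of degree `≡ 2 mod 4`, every transitive normal subgroup is
2-transitive. -/

namespace Cfsg.Agent.Lib.Lead.TwoTransB

open MulAction
open Cfsg.Agent.Lib.Lead.TwoTransA

section
variable {G : Type*} [Group G] [Finite G] {Ω : Type*} [Fintype Ω] [MulAction G Ω]

theorem stabilizer_subgroup_eq (M : Subgroup G) (c : Ω) :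
    stabilizer M c = (stabilizer G c).subgroupOf M := by
  ext x
  rw [mem_stabilizer_iff, Subgroup.mem_subgroupOf, mem_stabilizer_iff]
  exact Iff.rfl

theorem card_eq_mul (M : Subgroup G) (htrM : IsPretransitive M Ω) (c : Ω) :
    Nat.card M = Fintype.card Ω * Nat.card (M ⊓ stabilizer G c : Subgroup G) := by
  have h1 := Subgroup.card_mul_index (stabilizer M c)
  rw [MulAction.index_stabilizer_of_transitive M c, Nat.card_eq_fintype_card (α := Ω)] at h1
  have h2 : Nat.card (stabilizer M c) = Nat.card (M ⊓ stabilizer G c : Subgroup G) := by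
    rw [stabilizer_subgroup_eq, ← Subgroup.card_map_of_injective M.subtype_injective,
      Subgroup.subgroupOf_map_subtype, inf_comm]
  rw [← h2, ← h1, mul_comm]

set_option maxHeartbeats 1600000 in
theorem normal_two_trans (h2 : IsMultiplyPretransitive G Ω 2) (hn : Fintype.card Ω % 4 = 2)
    (M : Subgroup G) [hMn : M.Normal] (htrM : IsPretransitive M Ω) :
    IsMultiplyPretransitive M Ω 2 := by
  classical
  haveI : Fact (Nat.Prime 2) := ⟨Nat.prime_two⟩
  have h2' : ∀ {a b c d : Ω}, a ≠ b → c ≠ d → ∃ g : G, g • a = c ∧ g • b = d :=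
    is_two_pretransitive_iff.mp h2
  suffices key : ∀ a b c : Ω, b ≠ a → c ≠ a → ∃ m ∈ M, m • a = a ∧ m • b = c by
    rw [is_two_pretransitive_iff]
    intro a b c d hab hcd
    obtain ⟨m₁, hm₁⟩ := htrM.exists_smul_eq a c
    have hm₁' : (m₁ : G) • a = c := hm₁
    have hmb : (m₁ : G) • b ≠ c := by
      intro h
      rw [← hm₁'] at h
      exact hab (MulAction.injective _ h).symm
    obtain ⟨m₂, hm₂M, hm₂c, hm₂⟩ := key c ((m₁ : G) • b) d hmb (Ne.symm hcd)
    refine ⟨⟨m₂, hm₂M⟩ * m₁, ?_, ?_⟩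
    · show (m₂ * (m₁ : G)) • a = c
      rw [mul_smul, hm₁', hm₂c]
    · show (m₂ * (m₁ : G)) • b = d
      rw [mul_smul, hm₂]
  intro a
  set n := Fintype.card Ω with hndef
  have hnpos : 0 < n := by omega
  set Ma : Subgroup G := M ⊓ stabilizer G a with hMa
  have hcardM : ∀ c : Ω, Nat.card M = n * Nat.card (M ⊓ stabilizer G c : Subgroup G) :=
    fun c => card_eq_mul M htrM c
  have hcardc : ∀ c : Ω, Nat.card (M ⊓ stabilizer G c : Subgroup G) = Nat.card Ma := by
    intro c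
    have h1 := hcardM c
    have h3 := hcardM a
    rw [h1] at h3
    exact Nat.eq_of_mul_eq_mul_left hnpos h3
  set v := (Nat.card Ma).factorization 2 with hv
  have hMapos : Nat.card Ma ≠ 0 := Nat.card_pos.ne'
  have hMpos : Nat.card M ≠ 0 := Nat.card_pos.ne'
  have hv2 : (Nat.card M).factorization 2 = v + 1 := by
    have hn1 : n.factorization 2 = 1 := by
      obtain ⟨u, hu⟩ : ∃ u, n = 2 * u := ⟨n / 2, by omega⟩
      have hu_odd : ¬ 2 ∣ u := by omega
      have hu0 : u ≠ 0 := by omega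
      rw [hu, Nat.factorization_mul (by norm_num) hu0, Finsupp.add_apply,
        Nat.Prime.factorization_self Nat.prime_two,
        Nat.factorization_eq_zero_of_not_dvd hu_odd]
    rw [hcardM a, Nat.factorization_mul hnpos.ne' hMapos, Finsupp.add_apply, hn1]
    omega
  obtain ⟨P, hPle, hPp, hPcard⟩ := exists_sylow_card 2 Ma
  have hPM : P ≤ M := hPle.trans inf_le_left
  obtain ⟨S, hPS, hSM, hSp, hScard⟩ := exists_sylow_ge 2 M P hPM hPp
  rw [hv2] at hScard
  have F1 : ∀ (c : Ω) (Q : Subgroup G), IsPGroup 2 Q → Q ≤ M ⊓ stabilizer G c →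
      Nat.card Q ≤ 2 ^ v := by
    intro c Q hQ hQle
    have := card_le_of_pgroup 2 _ Q hQle hQ
    rwa [hcardc c] at this
  let F : Set Ω := {ω | ∀ x ∈ P, x • ω = ω}
  have haF : a ∈ F := fun x hx => (hPle hx).2
  obtain ⟨s, hsS, hsP⟩ : ∃ s ∈ S, s ∉ P := by
    by_contra hcon
    push Not at hcon
    have hle : S ≤ P := hcon
    have h1 := Subgroup.card_le_of_le hle
    rw [hScard, hPcard] at h1
    have h3 : 2 ^ v < 2 ^ (v + 1) := Nat.pow_lt_pow_right (by norm_num) (by omega)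
    exact absurd h1 (not_le.mpr h3)
  have F5 : ∀ ω ∈ F, s • ω ≠ ω := by
    intro ω hω hsω
    let Q : Subgroup G := S ⊓ stabilizer G ω
    have hQp : IsPGroup 2 Q := hSp.to_le inf_le_left
    have hQle : Q ≤ M ⊓ stabilizer G ω := inf_le_inf_right _ hSM
    have hPQ : P ≤ Q := le_inf hPS (fun x hx => hω x hx)
    have hcard := F1 ω Q hQp hQle
    have hQP : P = Q := Subgroup.eq_of_le_of_card_ge hPQ (by rw [hPcard]; exact hcard)
    apply hsP
    rw [hQP]
    exact ⟨hsS, hsω⟩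
  have hidx : (P.subgroupOf S).index = 2 := by
    have h1 := Subgroup.card_mul_index (P.subgroupOf S)
    have h3 : Nat.card (P.subgroupOf S) = Nat.card P :=
      Nat.card_congr (Subgroup.subgroupOfEquivOfLe hPS).toEquiv
    rw [h3, hPcard, hScard, pow_succ] at h1
    exact Nat.eq_of_mul_eq_mul_left (by positivity) h1
  have hSN : S ≤ Subgroup.normalizer (P : Set G) :=
    (Subgroup.normal_subgroupOf_iff_le_normalizer hPS).mp (Subgroup.normal_of_index_eq_two hidx)
  have hss : s * s ∈ P := by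
    have := Subgroup.mul_self_mem_of_index_two hidx (⟨s, hsS⟩ : S)
    simpa [Subgroup.mem_subgroupOf] using this
  set Ĝ : Subgroup G := Subgroup.normalizer (P : Set G) with hĜ
  have hĜF : ∀ g ∈ Ĝ, ∀ ω ∈ F, g • ω ∈ F := by
    intro g hg ω hω x hx
    have h1 : g⁻¹ * x * g ∈ P := (Subgroup.mem_normalizer_iff''.mp hg x).mp hx
    have h3 := hω _ h1
    calc x • g • ω = g • (g⁻¹ * x * g) • ω := by
          simp only [← mul_smul]
          congr 1
          group
      _ = g • ω := by rw [h3]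
  have F7 : ∀ c ∈ F, ∀ c' ∈ F, c ≠ a → c' ≠ a → ∃ g ∈ Ĝ, g • a = a ∧ g • c = c' := by
    intro c hc c' hc' hca hc'a
    obtain ⟨h, hha, hhc⟩ := h2' (Ne.symm hca) (Ne.symm hc'a)
    have hha' : h⁻¹ • a = a := by rw [inv_smul_eq_iff, hha]
    have hhc' : h⁻¹ • c' = c := by rw [inv_smul_eq_iff, hhc]
    let P' : Subgroup G := P.map (MulAut.conj h).toMonoidHom
    let L : Subgroup G := M ⊓ stabilizer G a ⊓ stabilizer G c'
    have hPL : P ≤ L := fun x hx => ⟨hPle hx, hc' x hx⟩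
    have hP'L : P' ≤ L := by
      rintro _ ⟨x, hx, rfl⟩
      refine ⟨⟨hMn.conj_mem x (hPM hx) h, ?_⟩, ?_⟩
      · show (h * x * h⁻¹) • a = a
        rw [mul_smul, mul_smul, hha', (hPle hx).2, hha]
      · show (h * x * h⁻¹) • c' = c'
        rw [mul_smul, mul_smul, hhc', hc x hx, hhc]
    have hP'card : Nat.card P' = 2 ^ v := by
      rw [Subgroup.card_map_of_injective (MulAut.conj h).injective, hPcard]
    have hLpos : Nat.card L ≠ 0 := Nat.card_pos.ne'
    have hvL : (Nat.card L).factorization 2 = v := by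
      apply le_antisymm
      · have hLMa : L ≤ Ma := inf_le_left
        have hdvd := Subgroup.card_dvd_of_le hLMa
        exact (Nat.factorization_le_iff_dvd hLpos hMapos).mpr hdvd 2
      · have hdvd : 2 ^ v ∣ Nat.card L := hPcard ▸ Subgroup.card_dvd_of_le hPL
        exact (Nat.Prime.pow_dvd_iff_le_factorization Nat.prime_two hLpos).mp hdvd
    obtain ⟨d, hdL, hd⟩ := sylow_conj_in 2 L P' P hP'L hPL (by rw [hP'card, hvL])
      (by rw [hPcard, hvL])
    refine ⟨d * h, ?_, ?_, ?_⟩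
    · rw [hĜ, Subgroup.mem_normalizer_iff_map_conj_eq]
      apply Subgroup.eq_of_le_of_card_ge
      · rintro _ ⟨x, hx, rfl⟩
        have h1 : h * x * h⁻¹ ∈ P' := ⟨x, hx, rfl⟩
        have h3 := hd _ h1
        simp only [MonoidHom.coe_coe, MulAut.conj_apply]
        have h4 : d * h * x * (d * h)⁻¹ = d * (h * x * h⁻¹) * d⁻¹ := by group
        rw [h4]
        exact h3
      · rw [Subgroup.card_map_of_injective (MulAut.conj (d * h)).injective]
    · rw [mul_smul, hha]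
      exact hdL.1.2
    · rw [mul_smul, hhc]
      exact hdL.2
  have hsĜ : s ∈ Ĝ := hSN hsS
  set b₀ := s • a with hb₀
  have hb₀F : b₀ ∈ F := hĜF s hsĜ a haF
  have hb₀a : b₀ ≠ a := F5 a haF
  have T1 : ∀ c ∈ F, ∃ g ∈ Ĝ, g • a = c := by
    intro c hc
    by_cases hca : c = a
    · exact ⟨1, Ĝ.one_mem, by rw [one_smul, hca]⟩
    · obtain ⟨g, hg, hga, hgb⟩ := F7 b₀ hb₀F c hc hb₀a hca
      exact ⟨g * s, Ĝ.mul_mem hg hsĜ, by rw [mul_smul]; exact hgb⟩
  letI : MulAction Ĝ F :=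
    { smul := fun g ω => ⟨(g : G) • (ω : Ω), hĜF g g.2 ω ω.2⟩
      one_smul := fun ω => Subtype.ext (one_smul G (ω : Ω))
      mul_smul := fun g h ω => Subtype.ext (mul_smul (g : G) (h : G) (ω : Ω)) }
  let ρ : Ĝ →* Equiv.Perm F := MulAction.toPermHom Ĝ F
  let Γ : Subgroup (Equiv.Perm F) := ρ.range
  haveI : FaithfulSMul Γ F := ⟨fun {γ₁ γ₂} h => Subtype.ext (Equiv.ext h)⟩
  have hΓ2 : IsMultiplyPretransitive Γ F 2 := by
    rw [is_two_pretransitive_iff]
    intro c₁ c₂ d₁ d₂ hc hd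
    obtain ⟨g₁, hg₁, hg₁a⟩ := T1 c₁ c₁.2
    obtain ⟨g₂, hg₂, hg₂a⟩ := T1 d₁ d₁.2
    have hc₂F : g₁⁻¹ • (c₂ : Ω) ∈ F := hĜF _ (Ĝ.inv_mem hg₁) _ c₂.2
    have hd₂F : g₂⁻¹ • (d₂ : Ω) ∈ F := hĜF _ (Ĝ.inv_mem hg₂) _ d₂.2
    have hc₂a : g₁⁻¹ • (c₂ : Ω) ≠ a := by
      intro h
      apply hc
      apply Subtype.ext
      rw [← hg₁a, ← h, smul_inv_smul]
    have hd₂a : g₂⁻¹ • (d₂ : Ω) ≠ a := by
      intro h
      apply hd
      apply Subtype.ext
      rw [← hg₂a, ← h, smul_inv_smul]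
    obtain ⟨k, hk, hka, hkc⟩ := F7 _ hc₂F _ hd₂F hc₂a hd₂a
    let g : Ĝ := ⟨g₂ * k * g₁⁻¹, Ĝ.mul_mem (Ĝ.mul_mem hg₂ hk) (Ĝ.inv_mem hg₁)⟩
    refine ⟨⟨ρ g, g, rfl⟩, ?_, ?_⟩
    · apply Subtype.ext
      show (g₂ * k * g₁⁻¹) • (c₁ : Ω) = d₁
      rw [mul_smul, mul_smul, ← hg₁a, inv_smul_smul, hka, hg₂a]
    · apply Subtype.ext
      show (g₂ * k * g₁⁻¹) • (c₂ : Ω) = d₂
      rw [mul_smul, mul_smul, hkc, smul_inv_smul]
  let WĜ : Subgroup Ĝ := M.subgroupOf Ĝ
  haveI hWn : WĜ.Normal := Subgroup.normal_subgroupOf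
  let Λ : Subgroup Γ := WĜ.map ρ.rangeRestrict
  haveI hΛn : Λ.Normal := Subgroup.Normal.map hWn _ ρ.rangeRestrict_surjective
  let sĜ : Ĝ := ⟨s, hsĜ⟩
  have hsW : sĜ ∈ WĜ := by
    rw [Subgroup.mem_subgroupOf]
    exact hSM hsS
  have hΛne : Λ ≠ ⊥ := by
    intro hbot
    have h1 : ρ.rangeRestrict sĜ ∈ Λ := ⟨sĜ, hsW, rfl⟩
    rw [hbot, Subgroup.mem_bot] at h1
    have h3 : ρ sĜ = 1 := by
      have := congrArg Subtype.val h1
      simpa using this
    have h4 : ρ sĜ ⟨a, haF⟩ = ⟨a, haF⟩ := by rw [h3]; rfl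
    have h5 := congrArg Subtype.val h4
    exact hb₀a h5
  have h4 : ¬ 4 ∣ Nat.card Λ := by
    intro hdiv
    have hcardΛ : Nat.card Λ = ρ.rangeRestrict.ker.relIndex WĜ :=
      (Subgroup.relIndex_ker WĜ ρ.rangeRestrict).symm
    let PĜ : Subgroup Ĝ := P.subgroupOf Ĝ
    have hPker : PĜ ≤ ρ.rangeRestrict.ker := by
      intro x hx
      rw [MonoidHom.mem_ker]
      apply Subtype.ext
      show ρ x = 1
      apply Equiv.ext
      intro ω
      apply Subtype.ext
      show (x : G) • (ω : Ω) = ω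
      exact ω.2 x (Subgroup.mem_subgroupOf.mp hx)
    have hPW : PĜ ≤ WĜ := by
      intro x hx
      rw [Subgroup.mem_subgroupOf] at hx ⊢
      exact hPM hx
    have hdvd1 : ρ.rangeRestrict.ker.relIndex WĜ ∣ PĜ.relIndex WĜ :=
      Subgroup.relIndex_dvd_of_le_left WĜ hPker
    have hmul : Nat.card PĜ * PĜ.relIndex WĜ = Nat.card WĜ := by
      have := Subgroup.relIndex_mul_relIndex ⊥ PĜ WĜ bot_le hPW
      rwa [Subgroup.relIndex_bot_left, Subgroup.relIndex_bot_left] at this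
    have hPĜcard : Nat.card PĜ = 2 ^ v := by
      rw [← hPcard]
      exact Nat.card_congr (Subgroup.subgroupOfEquivOfLe Subgroup.le_normalizer).toEquiv
    have hWdvd : Nat.card WĜ ∣ Nat.card M := by
      have h5 : Nat.card WĜ = Nat.card (M ⊓ Ĝ : Subgroup G) := by
        rw [← Subgroup.card_map_of_injective Ĝ.subtype_injective,
          Subgroup.subgroupOf_map_subtype]
      rw [h5]
      exact Subgroup.card_dvd_of_le inf_le_left
    have h6 : 4 ∣ PĜ.relIndex WĜ := (hcardΛ ▸ hdiv).trans hdvd1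
    have h7 : 2 ^ v * 4 ∣ Nat.card WĜ := by
      rw [← hmul, hPĜcard]
      exact Nat.mul_dvd_mul_left _ h6
    have h8 : 2 ^ (v + 2) ∣ Nat.card M := by
      rw [pow_add]
      exact h7.trans hWdvd
    have h9 := (Nat.Prime.pow_dvd_iff_le_factorization Nat.prime_two hMpos).mp h8
    omega
  have hFeven : Even (Nat.card F) := by
    let σ : Equiv.Perm F := ρ sĜ
    have hσ2 : σ ^ 2 = 1 := by
      have h5 : ρ (sĜ ^ 2) = 1 := by
        apply Equiv.ext
        intro ω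
        apply Subtype.ext
        show ((sĜ ^ 2 : Ĝ) : G) • (ω : Ω) = ω
        have h6 : ((sĜ ^ 2 : Ĝ) : G) = s * s := by simp [sĜ, pow_two]
        rw [h6]
        exact ω.2 _ hss
      rw [← h5, map_pow]
    have hsupp : σ.support = Finset.univ := by
      ext ω
      simp only [Equiv.Perm.mem_support, Finset.mem_univ, iff_true]
      intro h
      have h5 := congrArg Subtype.val h
      exact F5 ω ω.2 h5
    have h5 := Equiv.Perm.two_dvd_card_support hσ2
    rw [hsupp, Finset.card_univ, ← Nat.card_eq_fintype_card] at h5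
    exact even_iff_two_dvd.mpr h5
  have hF2 : Nat.card F = 2 := lemmaX hΓ2 hFeven Λ hΛne h4
  have hFab : ∀ ω ∈ F, ω = a ∨ ω = b₀ := by
    intro ω hω
    by_contra hcon
    push Not at hcon
    have h5 : 2 < Nat.card F := by
      haveI : Fintype F := Fintype.ofFinite F
      rw [Nat.card_eq_fintype_card, Fintype.two_lt_card_iff]
      refine ⟨⟨a, haF⟩, ⟨b₀, hb₀F⟩, ⟨ω, hω⟩, ?_, ?_, ?_⟩
      · intro h; exact hb₀a (congrArg Subtype.val h).symm
      · intro h; exact hcon.1 (congrArg Subtype.val h).symm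
      · intro h; exact hcon.2 (congrArg Subtype.val h).symm
    omega
  have hmove : ∀ b : Ω, b ≠ a → ∃ m ∈ Ma, m • b = b₀ := by
    intro b hba
    obtain ⟨h, hha, hhb⟩ := h2' (Ne.symm hb₀a) (Ne.symm hba)
    have hha' : h⁻¹ • a = a := by rw [inv_smul_eq_iff, hha]
    have hhb' : h⁻¹ • b = b₀ := by rw [inv_smul_eq_iff, hhb]
    let P' : Subgroup G := P.map (MulAut.conj h).toMonoidHom
    have hP'Ma : P' ≤ Ma := by
      rintro _ ⟨x, hx, rfl⟩
      refine ⟨hMn.conj_mem x (hPM hx) h, ?_⟩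
      show (h * x * h⁻¹) • a = a
      rw [mul_smul, mul_smul, hha', (hPle hx).2, hha]
    have hP'b : ∀ y ∈ P', y • b = b := by
      rintro _ ⟨x, hx, rfl⟩
      show (h * x * h⁻¹) • b = b
      rw [mul_smul, mul_smul, hhb', hb₀F x hx, hhb]
    have hP'card : Nat.card P' = 2 ^ v := by
      rw [Subgroup.card_map_of_injective (MulAut.conj h).injective, hPcard]
    obtain ⟨m', hm'Ma, hm'⟩ := sylow_conj_in 2 Ma P P' hPle hP'Ma hPcard hP'card
    have hmbF : m'⁻¹ • b ∈ F := by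
      intro x hx
      have h1 := hP'b _ (hm' x hx)
      calc x • m'⁻¹ • b = m'⁻¹ • (m' * x * m'⁻¹) • b := by
            simp only [← mul_smul]
            congr 1
            group
        _ = m'⁻¹ • b := by rw [h1]
    have hmba : m'⁻¹ • b ≠ a := by
      intro h
      apply hba
      have h5 : m' • a = a := hm'Ma.2
      rw [← h5, ← h, smul_inv_smul]
    rcases hFab _ hmbF with h | h
    · exact absurd h hmba
    · exact ⟨m'⁻¹, Ma.inv_mem hm'Ma, h⟩
  intro b c hba hca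
  obtain ⟨m₁, hm₁, hm₁b⟩ := hmove b hba
  obtain ⟨m₂, hm₂, hm₂c⟩ := hmove c hca
  have h5 : m₁ • a = a := hm₁.2
  have h6 : m₂ • a = a := hm₂.2
  refine ⟨m₂⁻¹ * m₁, M.mul_mem (M.inv_mem hm₂.1) hm₁.1, ?_, ?_⟩
  · rw [mul_smul, h5, inv_smul_eq_iff, h6]
  · rw [mul_smul, hm₁b, inv_smul_eq_iff, hm₂c]

end

end Cfsg.Agent.Lib.Lead.TwoTransB
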