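import Mathlib
import Cfsg.Prelude.Def_Transfer
import Cfsg.Agent.S0721
import Cfsg.Agent.S4387
import Cfsg.Agent.Lib.Lead.PrimDerA
import Cfsg.Agent.Lib.Lead.PrimDerB

set_option autoImplicit false
set_option linter.style.haveILetI false
set_option linter.unusedSectionVars false

/-! A faithful 2-transitive group has no normal subgroup `T^m`, `m ≥ 2`, `T` nonabelian simple,
and no pair of commuting nontrivial normal subgroups one of which has elements of two
different orders (Burnside). -/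

namespace Cfsg.Agent.Lib.Lead.TwoTransC

open MulAction
open scoped Pointwise
open Cfsg.Agent.Lib.Lead.PrimDerA Cfsg.Agent.Lib.Lead.PrimDerB

section
variable {G : Type*} [Group G] [Finite G] {Ω : Type*} [Fintype Ω] [MulAction G Ω]
  [FaithfulSMul G Ω]

theorem two_le_card_of_ne_bot (N : Subgroup G) (hN : N ≠ ⊥) : 2 ≤ Nat.card Ω := by
  obtain ⟨g, hg, hg1⟩ : ∃ g ∈ N, g ≠ 1 := by
    by_contra hcon
    push Not at hcon
    apply hN
    rw [Subgroup.eq_bot_iff_forall]
    exact hcon
  have : ∃ ω : Ω, g • ω ≠ ω := by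
    by_contra hcon
    push Not at hcon
    apply hg1
    apply FaithfulSMul.eq_of_smul_eq_smul (α := Ω)
    intro ω
    rw [hcon ω, one_smul]
  obtain ⟨ω, hω⟩ := this
  rw [Nat.card_eq_fintype_card]
  exact Fintype.one_lt_card_iff.mpr ⟨g • ω, ω, hω⟩

/-- Two commuting nontrivial normal subgroups of a faithful 2-transitive group: all
nonidentity elements of each have the same order. -/
theorem two_trans_commuting_false (h2 : IsMultiplyPretransitive G Ω 2)
    (N M : Subgroup G) [N.Normal] [M.Normal] (hN : N ≠ ⊥) (hM : M ≠ ⊥)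
    (hcomm : ∀ n ∈ N, ∀ x ∈ M, n * x = x * n) (t s : G) (ht : t ∈ N) (hs : s ∈ N)
    (ht1 : t ≠ 1) (hs1 : s ≠ 1) (hts : orderOf t ≠ orderOf s) : False := by
  have h2' : ∀ {a b c d : Ω}, a ≠ b → c ≠ d → ∃ g : G, g • a = c ∧ g • b = d :=
    is_two_pretransitive_iff.mp h2
  have hprim : IsPreprimitive G Ω := isPreprimitive_of_is_two_pretransitive h2
  have htrM : IsPretransitive M Ω := normal_pretransitive hprim M hM
  have hsrN : ∀ n ∈ N, ∀ ω : Ω, n • ω = ω → n = 1 := by
    intro n hn ω hω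
    apply FaithfulSMul.eq_of_smul_eq_smul (α := Ω)
    intro ω'
    obtain ⟨x, hx⟩ := htrM.exists_smul_eq ω ω'
    have hx' : (x : G) • ω = ω' := hx
    rw [one_smul, ← hx', ← mul_smul, hcomm n hn x x.2, mul_smul, hω]
  have hΩ := two_le_card_of_ne_bot (Ω := Ω) N hN
  haveI : Nontrivial Ω := Finite.one_lt_card_iff_nontrivial.mp (by omega)
  obtain ⟨a⟩ := (inferInstance : Nonempty Ω)
  have hta : t • a ≠ a := fun h => ht1 (hsrN t ht a h)
  have hsa : s • a ≠ a := fun h => hs1 (hsrN s hs a h)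
  obtain ⟨h, hha, hht⟩ := h2' (Ne.symm hta) (Ne.symm hsa)
  have hha' : h⁻¹ • a = a := by rw [inv_smul_eq_iff, hha]
  have hmem : s⁻¹ * (h * t * h⁻¹) ∈ N :=
    N.mul_mem (N.inv_mem hs) ((inferInstance : N.Normal).conj_mem t ht h)
  have hfix : (s⁻¹ * (h * t * h⁻¹)) • a = a := by
    rw [mul_smul, mul_smul, mul_smul, hha', hht, inv_smul_smul]
  have h1 := hsrN _ hmem a hfix
  have h3 : h * t * h⁻¹ = s := by
    have := inv_mul_eq_one.mp h1
    exact this.symm
  apply hts
  rw [← h3]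
  have : SemiconjBy h t (h * t * h⁻¹) := by
    rw [SemiconjBy]; simp
  exact this.orderOf_eq

set_option maxHeartbeats 1600000 in
/-- The product case `N ≅ T^m`, `m ≥ 2` is impossible in a 2-transitive group. -/
theorem two_trans_prod_false (h2 : IsMultiplyPretransitive G Ω 2) (N : Subgroup G) [N.Normal]
    {T : Type*} [Group T] [IsSimpleGroup T] (hT : ¬ IsMulCommutative T) {m : ℕ} (hm : 2 ≤ m)
    (e : N ≃* (Fin m → T)) : False := by
  classical
  have h2' : ∀ {a b c d : Ω}, a ≠ b → c ≠ d → ∃ g : G, g • a = c ∧ g • b = d :=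
    is_two_pretransitive_iff.mp h2
  have hprim : IsPreprimitive G Ω := isPreprimitive_of_is_two_pretransitive h2
  set i₀ : Fin m := ⟨0, by omega⟩ with hi₀
  set i₁ : Fin m := ⟨1, by omega⟩ with hi₁
  have h01 : i₁ ≠ i₀ := by
    intro h
    have := congrArg Fin.val h
    simp [hi₀, hi₁] at this
  have h10 : i₀ ≠ i₁ := h01.symm
  let ms : Fin m → T →* N := fun i =>
    e.symm.toMonoidHom.comp (MonoidHom.mulSingle (fun _ : Fin m => T) i)
  have hms : ∀ i t, e (ms i t) = Pi.mulSingle i t := by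
    intro i t
    simp [ms]
  have hms_inj : ∀ i, Function.Injective (ms i) := by
    intro i
    exact e.symm.injective.comp (mulSingle_inj i)
  haveI : Finite T := Finite.of_injective _ (hms_inj i₀)
  obtain ⟨t₁, ht₁⟩ := exists_ne (1 : T)
  have hN : N ≠ ⊥ := by
    intro h
    have h1 : ms i₀ t₁ = 1 := by
      have h3 : ∀ g : G, g ∈ N → g = 1 := fun g hg => by
        rw [h] at hg
        exact Subgroup.mem_bot.mp hg
      exact Subtype.ext (h3 _ (ms i₀ t₁).2)
    rw [← map_one (ms i₀)] at h1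
    exact ht₁ (hms_inj i₀ h1)
  have hΩ : 2 ≤ Nat.card Ω := two_le_card_of_ne_bot N hN
  have htr : IsPretransitive N Ω := normal_pretransitive hprim N hN
  haveI : Nontrivial Ω := Finite.one_lt_card_iff_nontrivial.mp (by omega)
  obtain ⟨a⟩ := (inferInstance : Nonempty Ω)
  have key : ∀ n : N, ∀ ω : Ω, (n : G) • ω = ω → ∃ x : N, x⁻¹ * n * x ∈ stabilizer N a := by
    intro n ω h
    obtain ⟨x, hx⟩ := exists_conj_mem_stabilizer N htr a (n : G) ω h
    refine ⟨x, ?_⟩
    rw [mem_stabilizer_iff]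
    show ((x⁻¹ * n * x : N) : G) • a = a
    have : ((x⁻¹ * n * x : N) : G) = (x : G)⁻¹ * n * x := by simp
    rw [this]
    exact hx
  -- two primes
  have hcardT : Nat.card T ≠ 1 := by
    have := Finite.one_lt_card (α := T)
    omega
  obtain ⟨p, hp, hpdvd⟩ := Nat.exists_prime_and_dvd hcardT
  obtain ⟨q, hq, hqp, hqdvd⟩ := exists_prime_ne_dvd hT p hp
  have hpq : p ≠ q := hqp.symm
  haveI : Fact p.Prime := ⟨hp⟩
  haveI : Fact q.Prime := ⟨hq⟩
  obtain ⟨tp, htp⟩ := exists_prime_orderOf_dvd_card' (G := T) p hpdvd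
  obtain ⟨tq, htq⟩ := exists_prime_orderOf_dvd_card' (G := T) q hqdvd
  have htp1 : tp ≠ 1 := by
    rintro rfl
    rw [orderOf_one] at htp
    exact hp.one_lt.ne htp
  have htq1 : tq ≠ 1 := by
    rintro rfl
    rw [orderOf_one] at htq
    exact hq.one_lt.ne htq
  -- the projections
  let π : Fin m → N →* T := fun i =>
    (Pi.evalMonoidHom (fun _ : Fin m => T) i).comp e.toMonoidHom
  have hπ : ∀ i n, π i n = e n i := fun i n => rfl
  let R : Fin m → Subgroup T := fun i => (stabilizer N a).map (π i)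
  have hcomm_ms : ∀ i j, i ≠ j → ∀ t s, Commute (ms i t) (ms j s) := by
    intro i j hij t s
    have : ms i t * ms j s = ms j s * ms i t := by
      apply e.injective
      simp only [map_mul, hms]
      exact Pi.mulSingle_commute (f := fun _ : Fin m => T) hij t s
    exact this
  -- the general claim
  have claim : ∀ i, R i = ⊤ → ∀ t : T, t ≠ 1 → ∀ ω : Ω, ((ms i t : N) : G) • ω ≠ ω := by
    intro i hR t ht ω h
    obtain ⟨x, hx⟩ := key (ms i t) ω h
    set t' := (e x i)⁻¹ * t * e x i with ht'def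
    have hx1 : x⁻¹ * ms i t * x = ms i t' := by
      apply e.injective
      rw [hms i t']
      simp only [map_mul, map_inv, hms, conj_mulSingle']
      rfl
    have ht' : t' ≠ 1 := by
      intro h1
      apply ht
      have : t = e x i * t' * (e x i)⁻¹ := by simp [ht'def, mul_assoc]
      rw [this, h1]
      simp
    rw [hx1] at hx
    have hne : ((ms i t' : N) : G) ≠ 1 := by
      intro h1
      apply ht'
      have h2 : ms i t' = 1 := Subtype.ext h1
      rw [← map_one (ms i)] at h2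
      exact hms_inj i h2
    apply not_conj_le_stabilizer hprim hΩ a ((ms i t' : N) : G) hne
    intro g
    obtain ⟨x₁, hx₁⟩ := exists_mul_mem_stabilizer N htr a g
    have hxR : e x₁ i ∈ R i := by rw [hR]; trivial
    obtain ⟨n', hn', hn'x⟩ := hxR
    have hn'x' : e n' i = e x₁ i := hn'x
    have h1 : x₁⁻¹ * ms i t' * x₁ = n'⁻¹ * ms i t' * n' := by
      apply e.injective
      simp only [map_mul, map_inv, hms, conj_mulSingle']
      rw [hn'x']
    have h2 : n'⁻¹ * ms i t' * n' ∈ stabilizer N a :=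
      mul_mem (mul_mem (inv_mem hn') hx) hn'
    have h3 : ((x₁⁻¹ * ms i t' * x₁ : N) : G) ∈ stabilizer G a := by
      rw [h1]
      exact h2
    have h4 : g * ((ms i t' : N) : G) * g⁻¹ =
        (g * x₁) * ((x₁⁻¹ * ms i t' * x₁ : N) : G) * (g * x₁)⁻¹ := by
      push_cast
      group
    rw [h4]
    exact mul_mem (mul_mem hx₁ h3) (inv_mem hx₁)
  -- principle (P)
  have hP : ∀ x y : N, (x : G) • a ≠ a → (y : G) • a ≠ a →
      ∃ h : G, y⁻¹ * MulAut.conjNormal h x ∈ stabilizer N a := by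
    intro x y hx hy
    obtain ⟨h, hha, hhx⟩ := h2' (Ne.symm hx) (Ne.symm hy)
    have hha' : h⁻¹ • a = a := by rw [inv_smul_eq_iff, hha]
    refine ⟨h, ?_⟩
    rw [mem_stabilizer_iff]
    show ((y⁻¹ * MulAut.conjNormal h x : N) : G) • a = a
    have : ((y⁻¹ * MulAut.conjNormal h x : N) : G) = (y : G)⁻¹ * (h * x * h⁻¹) := by
      simp [MulAut.conjNormal_apply]
    rw [this, mul_smul, mul_smul, mul_smul, hha', hhx, inv_smul_smul]
  -- conjugation structure
  have hconj : ∀ (h : G) (i : Fin m) (t : T), ∃ (j : Fin m) (t' : T),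
      MulAut.conjNormal h (ms i t) = ms j t' ∧ orderOf t' = orderOf t := by
    intro h i t
    let φ : (Fin m → T) ≃* (Fin m → T) := (e.symm.trans (MulAut.conjNormal h : N ≃* N)).trans e
    have hφ : ∀ n, φ (e n) = e (MulAut.conjNormal h n) := by
      intro n
      simp [φ]
    obtain ⟨j, hj⟩ := exists_map_C hT φ i
    have hmem : φ (Pi.mulSingle i t) ∈ C T j := by
      rw [← hj]
      exact ⟨_, mulSingle_mem_C i t, rfl⟩
    obtain ⟨t', ht'⟩ := hmem
    have ht'' : Pi.mulSingle j t' = φ (Pi.mulSingle i t) := ht'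
    refine ⟨j, t', ?_, ?_⟩
    · apply e.injective
      rw [← hφ, hms, hms, ht'']
    · have h1 : orderOf (Pi.mulSingle j t' : Fin m → T) = orderOf t' :=
        orderOf_injective (MonoidHom.mulSingle (fun _ : Fin m => T) j) (mulSingle_inj j) t'
      have h3 : orderOf (Pi.mulSingle i t : Fin m → T) = orderOf t :=
        orderOf_injective (MonoidHom.mulSingle (fun _ : Fin m => T) i) (mulSingle_inj i) t
      rw [← h1, ht'', MulEquiv.orderOf_eq, h3]
  by_cases hex : ∃ i, R i = ⊤
  · obtain ⟨i, hRi⟩ := hex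
    have cl := claim i hRi
    obtain ⟨h, hh⟩ := hP (ms i tp) (ms i tq) (cl tp htp1 a) (cl tq htq1 a)
    obtain ⟨j, t', hj, ht'⟩ := hconj h i tp
    rw [hj] at hh
    by_cases hji : j = i
    · have h1 : (ms i tq)⁻¹ * ms j t' = ms i (tq⁻¹ * t') := by
        rw [hji, map_mul, map_inv]
      rw [h1] at hh
      have hne : tq⁻¹ * t' ≠ 1 := by
        intro h3
        have h4 : tq = t' := inv_mul_eq_one.mp h3
        rw [← h4, htq, htp] at ht'
        exact hpq ht'.symm
      exact cl _ hne a hh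
    · have hc : Commute (ms i tq)⁻¹ (ms j t') := (hcomm_ms i j (Ne.symm hji) tq t').inv_left
      have ht'p : t' ^ p = 1 := by
        rw [← htp, ← ht']
        exact pow_orderOf_eq_one t'
      have h1 : ((ms i tq)⁻¹ * ms j t') ^ p = ms i ((tq⁻¹) ^ p) := by
        calc ((ms i tq)⁻¹ * ms j t') ^ p = ((ms i tq)⁻¹) ^ p * (ms j t') ^ p := hc.mul_pow p
          _ = ms i ((tq⁻¹) ^ p) * ms j (t' ^ p) := by simp only [map_pow, map_inv]
          _ = ms i ((tq⁻¹) ^ p) := by rw [ht'p, map_one, mul_one]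
      have hh' : ((ms i tq)⁻¹ * ms j t') ^ p ∈ stabilizer N a := Subgroup.pow_mem _ hh p
      rw [h1] at hh'
      have hne : (tq⁻¹) ^ p ≠ 1 := by
        intro h3
        rw [inv_pow, inv_eq_one] at h3
        have := orderOf_dvd_of_pow_eq_one h3
        rw [htq] at this
        exact hqp ((Nat.prime_dvd_prime_iff_eq hq hp).mp this)
      exact cl _ hne a hh'
  · push Not at hex
    obtain ⟨d, hd⟩ := Cfsg.Agent.S4387.exists_not_mem_conj (R i₀) (hex i₀)
    have hd' : ∀ r : T, r⁻¹ * d * r ∉ R i₀ := by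
      intro r hr
      apply hd r
      rw [Subgroup.mem_pointwise_smul_iff_inv_smul_mem]
      simpa [MulAut.smul_def] using hr
    have hdR : d⁻¹ ∉ R i₀ := by
      intro h
      apply hd' 1
      have := (R i₀).inv_mem h
      simpa using this
    let nn : T → N := fun y => ms i₀ d * ms i₁ y
    have hnn : ∀ y, e (nn y) = Pi.mulSingle i₀ d * Pi.mulSingle i₁ y := by
      intro y
      simp only [nn, map_mul, hms]
    have c0 : ∀ y, e (nn y) i₀ = d := by
      intro y
      rw [hnn]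
      simp [Pi.mulSingle_eq_of_ne h10]
    have c1 : ∀ y, e (nn y) i₁ = y := by
      intro y
      rw [hnn]
      simp [Pi.mulSingle_eq_of_ne h01]
    have hder : ∀ (y : T) (ω : Ω), ((nn y : N) : G) • ω ≠ ω := by
      intro y ω h
      obtain ⟨x, hx⟩ := key (nn y) ω h
      have h1 : π i₀ (x⁻¹ * nn y * x) ∈ R i₀ := ⟨_, hx, rfl⟩
      apply hd' (e x i₀)
      have h3 : π i₀ (x⁻¹ * nn y * x) = (e x i₀)⁻¹ * d * e x i₀ := by
        rw [hπ]
        simp only [map_mul, map_inv, Pi.mul_apply, Pi.inv_apply, c0]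
      rw [← h3]
      exact h1
    have hx : nn 1 = ms i₀ d := by
      simp only [nn, map_one, mul_one]
    apply hex i₁
    rw [eq_top_iff]
    intro s _
    obtain ⟨h, hh⟩ := hP (nn 1) (nn s⁻¹) (hder 1 a) (hder s⁻¹ a)
    rw [hx] at hh
    obtain ⟨j, t', hj, ht'⟩ := hconj h i₀ d
    rw [hj] at hh
    by_cases hji : j = i₀
    · have h1 : π i₁ ((nn s⁻¹)⁻¹ * ms j t') ∈ R i₁ := ⟨_, hh, rfl⟩
      have h3 : π i₁ ((nn s⁻¹)⁻¹ * ms j t') = s := by
        rw [hπ]
        simp only [map_mul, map_inv, Pi.mul_apply, Pi.inv_apply, c1, hms, hji]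
        simp [Pi.mulSingle_eq_of_ne h01]
      rwa [h3] at h1
    · exfalso
      have h1 : π i₀ ((nn s⁻¹)⁻¹ * ms j t') ∈ R i₀ := ⟨_, hh, rfl⟩
      have h3 : π i₀ ((nn s⁻¹)⁻¹ * ms j t') = d⁻¹ := by
        rw [hπ]
        simp only [map_mul, map_inv, Pi.mul_apply, Pi.inv_apply, c0, hms]
        simp [Pi.mulSingle_eq_of_ne (Ne.symm hji)]
      rw [h3] at h1
      exact hdR h1

end

end Cfsg.Agent.Lib.Lead.TwoTransC
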